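import Cfsg.Agent.Lib.M24Quot.NodesData

/-! Kernel checks of the certificates. -/

set_option autoImplicit false

namespace CfsgM24Q

theorem nd1_ok : nd1.all (fun d => d.ok masksD zsD) = true := by decide +kernel

theorem nd5_ok : nd5.all (fun d => d.ok masksD zsD) = true := by decide +kernel

theorem nd9_ok : nd9.all (fun d => d.ok masksD zsD) = true := by decide +kernel

theorem nd13_ok : nd13.all (fun d => d.ok masksD zsD) = true := by decide +kernel

theorem nd17_ok : nd17.all (fun d => d.ok masksD zsD) = true := by decide +kernel

end CfsgM24Q
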