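import Cfsg.Agent.Lib.M24Quot.NodesData

/-! Kernel checks of the certificates. -/

set_option autoImplicit false

namespace CfsgM24Q

theorem nd2_ok : nd2.all (fun d => d.ok masksD zsD) = true := by decide +kernel

theorem nd6_ok : nd6.all (fun d => d.ok masksD zsD) = true := by decide +kernel

theorem nd10_ok : nd10.all (fun d => d.ok masksD zsD) = true := by decide +kernel

theorem nd14_ok : nd14.all (fun d => d.ok masksD zsD) = true := by decide +kernel

theorem nd18_ok : nd18.all (fun d => d.ok masksD zsD) = true := by decide +kernel

end CfsgM24Q
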