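import Cfsg.Agent.Lib.M24Quot.NodesData

/-! Kernel checks of the certificates. -/

set_option autoImplicit false

namespace CfsgM24Q

theorem nd3_ok : nd3.all (fun d => d.ok masksD zsD) = true := by decide +kernel

theorem nd7_ok : nd7.all (fun d => d.ok masksD zsD) = true := by decide +kernel

theorem nd11_ok : nd11.all (fun d => d.ok masksD zsD) = true := by decide +kernel

theorem nd15_ok : nd15.all (fun d => d.ok masksD zsD) = true := by decide +kernel

end CfsgM24Q
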