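import Cfsg.Agent.Lib.M24Quot.NodesChecks0
import Cfsg.Agent.Lib.M24Quot.NodesChecks1
import Cfsg.Agent.Lib.M24Quot.NodesChecks2
import Cfsg.Agent.Lib.M24Quot.NodesChecks3

/-! All certificates hold. -/

set_option autoImplicit false

namespace CfsgM24Q

theorem zs_ok : zsOK zsD = true := by decide +kernel

theorem masks_ok : nodes.map (fun d => d.mask) = masksD := by decide +kernel

theorem nodes_ok : ∀ d ∈ nodes, d.ok masksD zsD = true := by
  intro d hd
  obtain ⟨l, hl, hdl⟩ := List.mem_flatten.mp hd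
  simp only [nodeBlocks, List.mem_cons, List.not_mem_nil, or_false] at hl
  rcases hl with rfl | rfl | rfl | rfl | rfl | rfl | rfl | rfl | rfl | rfl | rfl | rfl | rfl | rfl | rfl | rfl | rfl | rfl | rfl
  · exact List.all_eq_true.mp nd0_ok d hdl
  · exact List.all_eq_true.mp nd1_ok d hdl
  · exact List.all_eq_true.mp nd2_ok d hdl
  · exact List.all_eq_true.mp nd3_ok d hdl
  · exact List.all_eq_true.mp nd4_ok d hdl
  · exact List.all_eq_true.mp nd5_ok d hdl
  · exact List.all_eq_true.mp nd6_ok d hdl
  · exact List.all_eq_true.mp nd7_ok d hdl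
  · exact List.all_eq_true.mp nd8_ok d hdl
  · exact List.all_eq_true.mp nd9_ok d hdl
  · exact List.all_eq_true.mp nd10_ok d hdl
  · exact List.all_eq_true.mp nd11_ok d hdl
  · exact List.all_eq_true.mp nd12_ok d hdl
  · exact List.all_eq_true.mp nd13_ok d hdl
  · exact List.all_eq_true.mp nd14_ok d hdl
  · exact List.all_eq_true.mp nd15_ok d hdl
  · exact List.all_eq_true.mp nd16_ok d hdl
  · exact List.all_eq_true.mp nd17_ok d hdl
  · exact List.all_eq_true.mp nd18_ok d hdl

end CfsgM24Q
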