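import Cfsg.Agent.Lib.M24Quot.Span
import Cfsg.Agent.Lib.M24Quot.NodesChecks
import Mathlib.GroupTheory.Sylow

/-!
Every centric subgroup of the model is on the list.
-/

set_option autoImplicit false

namespace CfsgM24Q

theorem spanW_fst : ∀ W : List (ℕ × ℕ), (spanW W).map Prod.fst = spanL (W.map Prod.fst)
  | [] => rfl
  | (g, v) :: l => by
    simp only [spanW, List.map_cons, spanL, List.map_append, List.map_map, ← spanW_fst l]
    rfl

theorem signed_fst (d : Node) : d.signed.map Prod.fst = d.gens := by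
  simp only [Node.signed, Node.gens, List.map_append, List.map_map, Function.comp_def]
  congr 1
  · simp
  · exact List.ext_getElem (by simp) (by intros; simp)

/-- Parity of a sign against a functional. -/
def parB (f v : ℕ) : ℕ → Bool
  | 0 => false
  | r + 1 => xor (parB f v r) (f.testBit r && v.testBit r)

theorem parB_xor (f v w : ℕ) : ∀ r, parB f (v ^^^ w) r = xor (parB f v r) (parB f w r)
  | 0 => rfl
  | r + 1 => by
    simp only [parB, parB_xor f v w r, Nat.testBit_xor]
    cases parB f v r <;> cases parB f w r <;> cases f.testBit r <;> cases v.testBit r <;> cases w.testBit r <;> rfl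

theorem parB_zero (f : ℕ) : ∀ r, parB f 0 r = false
  | 0 => rfl
  | r + 1 => by simp [parB, parB_zero f r]

theorem parB_single (f k : ℕ) : ∀ r, parB f (1 <<< k) r = (decide (k < r) && f.testBit k)
  | 0 => by simp [parB]
  | r + 1 => by
    rw [parB, parB_single f k r, Nat.one_shiftLeft, Nat.testBit_two_pow]
    rcases lt_trichotomy k r with h | h | h
    · simp [h, Nat.lt_succ_of_lt h, h.ne]
    · subst h; simp
    · simp [h.not_gt, h.ne', show ¬ k < r + 1 by omega]

theorem inM_oddMask (g : ℕ → ℕ) (f x : ℕ) : ∀ r, inM (oddMask ((List.range r).map g) f) x =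
    (List.range r).foldl (fun b k => xor b (f.testBit k && inM (g k) x)) false
  | 0 => by simp [oddMask, inM_iff]
  | r + 1 => by
    rw [List.range_succ, List.foldl_append, ← inM_oddMask g f x r]
    simp only [oddMask, List.map_append, List.map_cons, List.map_nil, List.zipIdx_append, List.zipIdx_cons,
      List.zipIdx_nil, List.foldl_append, List.foldl_cons, List.foldl_nil, List.length_map, List.length_range,
      Nat.zero_add, bt_iff]
    by_cases h : f.testBit r <;> simp [h, inM_xor]

theorem fold_parB (f v : ℕ) (g : ℕ → Bool) : ∀ r, (∀ k, k < r → g k = v.testBit k) →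
    (List.range r).foldl (fun b k => xor b (f.testBit k && g k)) false = parB f v r
  | 0, _ => rfl
  | r + 1, h => by
    rw [List.range_succ, List.foldl_append, fold_parB f v g r fun k hk => h k (Nat.lt_succ_of_lt hk)]
    simp [parB, h r (Nat.lt_succ_self r)]

theorem fold_false (f : ℕ) (g : ℕ → Bool) : ∀ r, (∀ k, k < r → g k = false) →
    (List.range r).foldl (fun b k => xor b (f.testBit k && g k)) false = false
  | 0, _ => rfl
  | r + 1, h => by
    rw [List.range_succ, List.foldl_append, fold_false f g r fun k hk => h k (Nat.lt_succ_of_lt hk)]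
    simp [h r (Nat.lt_succ_self r)]

namespace Emb

variable {G : Type*} [Group G] [Finite G] {S : Subgroup G} (M : Emb S)

/-- A subgroup containing its centraliser in `S`. -/
def Cent (S E : Subgroup G) : Prop :=
  E ≤ S ∧ ∀ x ∈ S, (∀ e ∈ E, x * e = e * x) → x ∈ E

variable {d : Node}

theorem gens_lt (hd : d.baseOK = true) : ∀ g ∈ d.gens, g < 512 := by
  simp only [Node.baseOK, Bool.and_eq_true, List.all_eq_true, Nat.blt_eq] at hd
  exact hd.1.1.1

theorem mask_eq (hd : d.baseOK = true) (x : ℕ) : inM d.mask x = true ↔ x ∈ spanL d.gens := by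
  simp only [Node.baseOK, Bool.and_eq_true, beq_iff_eq] at hd
  rw [← hd.1.1.2, inM_maskOf]; rfl

theorem gens_mem (hd : d.baseOK = true) {E : Subgroup G} (hE : M.Has E d.mask) :
    ∀ g ∈ d.gens, M.c g ∈ E := by
  intro g hg
  refine (hE.2 g (gens_lt hd g hg)).mpr ((mask_eq hd g).mpr ?_)
  have key : ∀ gs : List ℕ, (∀ a ∈ gs, a < 512) → 0 ∈ spanL gs ∧ ∀ a ∈ gs, a ∈ spanL gs := by
    intro gs
    induction gs with
    | nil => simp [spanL]
    | cons b gs ih =>
      intro hl
      obtain ⟨h0, h1⟩ := ih fun a ha => hl a (List.mem_cons_of_mem _ ha)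
      refine ⟨List.mem_append_left _ h0, fun a ha => ?_⟩
      rcases List.mem_cons.mp ha with rfl | ha
      · refine List.mem_append_right _ (List.mem_map.mpr ⟨0, h0, ?_⟩)
        have hb := hl a (List.mem_cons_self ..)
        have := (show ∀ b' : Fin 512, mulC 0 b' = b' from by decide +kernel) ⟨a, hb⟩
        exact this
      · exact List.mem_append_left _ (h1 a ha)
  exact (key _ (gens_lt hd)).2 g hg

theorem sqWord_spec (H : Subgroup G) : ∀ (w : List ℕ), (∀ x ∈ w, x < 512) → (∀ x ∈ w, M.c x * M.c x ∈ H) →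
    sqWord w < 512 ∧ M.c (sqWord w) ∈ H := by
  have key : ∀ (w : List ℕ) (r : ℕ), r < 512 → M.c r ∈ H → (∀ x ∈ w, x < 512) → (∀ x ∈ w, M.c x * M.c x ∈ H) →
      w.foldl (fun r x => mulC r (mulC x x)) r < 512 ∧ M.c (w.foldl (fun r x => mulC r (mulC x x)) r) ∈ H := by
    intro w
    induction w with
    | nil => exact fun r h1 h2 _ _ => ⟨h1, h2⟩
    | cons x w ih =>
      intro r h1 h2 h3 h4
      rw [List.foldl_cons]
      have hx := h3 x (List.mem_cons_self ..)
      refine ih _ (mulC_lt _ h1) ?_ (fun a ha => h3 a (List.mem_cons_of_mem _ ha))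
        (fun a ha => h4 a (List.mem_cons_of_mem _ ha))
      rw [M.mul r h1 _ (mulC_lt _ hx), M.mul x hx x hx]
      exact H.mul_mem h2 (h4 x (List.mem_cons_self ..))
  exact fun w h3 h4 => key w 0 (by omega) (by rw [c_zero]; exact H.one_mem) h3 h4

theorem pg_mem (hd : d.baseOK = true) {E : Subgroup G} (hE : M.Has E d.mask) (H : Subgroup G)
    (hsq : ∀ x ∈ E, x * x ∈ H) : ∀ g ∈ d.pg, M.c g ∈ H := by
  simp only [Node.baseOK, Bool.and_eq_true, List.all_eq_true, beq_iff_eq, Nat.blt_eq] at hd
  obtain ⟨⟨-, hlen⟩, hpw⟩ := hd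
  intro g hg
  obtain ⟨i, hi, rfl⟩ := List.getElem_of_mem hg
  have hi' : i < d.pw.length := hlen ▸ hi
  have hmem : (d.pg[i], d.pw[i]) ∈ d.pg.zip d.pw := by
    rw [List.mem_iff_getElem]
    exact ⟨i, by rw [List.length_zip]; omega, by simp⟩
  obtain ⟨h1, h2⟩ := hpw _ hmem
  simp only at h1 h2
  have h := M.sqWord_spec H d.pw[i] (fun x hx => (h2 x hx).1)
    (fun x hx => hsq _ ((hE.2 x (h2 x hx).1).mpr (h2 x hx).2))
  rw [← h1]
  exact h.2

/-- A subgroup of index two of a listed subgroup is cut out by a functional. -/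
theorem even_mask (hd : d.baseOK = true) {masks : List ℕ} {zs : List (ℕ × ℕ)} (hk : d.kidsOK masks zs = true)
    {K E : Subgroup G} (hK : M.Has K d.mask) (hEK : E ≤ K) (hidx : E.relIndex K = 2) :
    ∃ f, 1 ≤ f ∧ f < 2 ^ d.b.length ∧
      M.Has E (d.mask ^^^ oddMask ((List.range d.b.length).map (bitMask (spanW d.signed))) f) := by
  classical
  have hmul : ∀ a ∈ K, ∀ b ∈ K, (a * b ∈ E ↔ (a ∈ E ↔ b ∈ E)) := fun a ha b hb => by
    have := Subgroup.mul_mem_iff_of_index_two (H := E.subgroupOf K) hidx (a := ⟨a, ha⟩) (b := ⟨b, hb⟩)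
    simpa [Subgroup.mem_subgroupOf] using this
  have hsq : ∀ x ∈ K, x * x ∈ E := fun x hx => (hmul x hx x hx).mpr Iff.rfl
  have hgK := M.gens_mem hd hK
  have hlt := gens_lt hd
  set r := d.b.length with hr
  set f := Nat.ofBits fun k : Fin r => decide (M.c d.b[k.1] ∉ E) with hf
  have hsign : ∀ p ∈ d.signed, p.1 < 512 ∧ M.c p.1 ∈ K ∧ (M.c p.1 ∈ E ↔ parB f p.2 r = false) := by
    intro p hp
    have hp1 : p.1 ∈ d.gens := signed_fst d ▸ List.mem_map.mpr ⟨p, hp, rfl⟩
    refine ⟨hlt _ hp1, hgK _ hp1, ?_⟩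
    simp only [Node.signed, List.mem_append, List.mem_map] at hp
    rcases hp with ⟨g, hg, rfl⟩ | hp
    · exact ⟨fun _ => parB_zero f r, fun _ => M.pg_mem hd hK E hsq g hg⟩
    · obtain ⟨k, hk', rfl⟩ := List.mem_mapIdx.mp hp
      rw [parB_single, hf]
      simp [hk', Nat.testBit_ofBits_lt _ _ hk', hr]
  have hW : ∀ p ∈ spanW d.signed, p.1 < 512 ∧ M.c p.1 ∈ K ∧ (M.c p.1 ∈ E ↔ parB f p.2 r = false) := by
    have key : ∀ W : List (ℕ × ℕ), (∀ p ∈ W, p.1 < 512 ∧ M.c p.1 ∈ K ∧ (M.c p.1 ∈ E ↔ parB f p.2 r = false)) →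
        ∀ p ∈ spanW W, p.1 < 512 ∧ M.c p.1 ∈ K ∧ (M.c p.1 ∈ E ↔ parB f p.2 r = false) := by
      intro W
      induction W with
      | nil =>
        intro _ p hp
        simp only [spanW, List.mem_singleton] at hp
        subst hp
        simp [M.c_zero, parB_zero, K.one_mem, E.one_mem]
      | cons gv W ih =>
        obtain ⟨g, v⟩ := gv
        intro hW p hp
        have ih' := ih fun q hq => hW q (List.mem_cons_of_mem _ hq)
        obtain ⟨hg, hgK', hgE⟩ := hW (g, v) (List.mem_cons_self ..)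
        simp only [spanW, List.mem_append, List.mem_map] at hp
        rcases hp with hp | ⟨q, hq, rfl⟩
        · exact ih' p hp
        · obtain ⟨h1, h2, h3⟩ := ih' q hq
          refine ⟨mulC_lt _ h1, ?_, ?_⟩
          · rw [M.mul _ h1 g hg]; exact K.mul_mem h2 hgK'
          · show M.c (mulC q.1 g) ∈ E ↔ parB f (q.2 ^^^ v) r = false
            rw [M.mul _ h1 g hg, hmul _ h2 _ hgK', h3, hgE, parB_xor]
            cases parB f q.2 r <;> cases parB f v r <;> simp
    exact key _ hsign
  have hf1 : 1 ≤ f := by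
    by_contra h0
    have hle : K ≤ E := by
      intro x hx
      obtain ⟨i, hi, rfl⟩ := M.surj x (hK.1 hx)
      have hi' := (mask_eq hd i).mp ((hK.2 i hi).mp hx)
      rw [← signed_fst, ← spanW_fst, List.mem_map] at hi'
      obtain ⟨p, hp, rfl⟩ := hi'
      refine (hW p hp).2.2.mpr ?_
      rw [show f = 0 by omega]
      have : ∀ n, parB 0 p.2 n = false := fun n => by induction n <;> simp [parB, *]
      exact this r
    rw [Subgroup.relIndex_eq_one.mpr hle] at hidx
    omega
  refine ⟨f, hf1, Nat.ofBits_lt_two_pow _, hEK.trans hK.1, fun i hi => ?_⟩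
  simp only [Node.kidsOK, Bool.and_eq_true, List.all_eq_true, beq_iff_eq] at hk
  obtain ⟨⟨hC, -⟩, -⟩ := hk
  rw [inM_xor, inM_oddMask]
  by_cases him : inM d.mask i = true
  · obtain ⟨p, hp, rfl⟩ : ∃ p ∈ spanW d.signed, p.1 = i := by
      have hi' := (mask_eq hd i).mp him
      rw [← signed_fst, ← spanW_fst, List.mem_map] at hi'
      exact hi'
    rw [fold_parB f p.2 _ r fun k hk' => ?_, him, (hW p hp).2.2]
    · cases parB f p.2 r <;> simp
    · have := hC p hp (bitMask (spanW d.signed) k, k) (by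
        rw [List.mem_iff_getElem]
        exact ⟨k, by simp [← hr, hk'], by simp⟩)
      rw [this, bt_iff]
  · rw [fold_false f _ r fun k _ => ?_, Bool.eq_false_iff.mpr him]
    · simp only [Bool.bne_false, Bool.false_eq_true, iff_false]
      exact fun h => him ((hK.2 i hi).mp (hEK h))
    · rw [Bool.eq_false_iff]
      intro hc
      rw [bitMask, inM_maskOf, List.mem_map] at hc
      obtain ⟨p, hp, rfl⟩ := hc
      refine him ((mask_eq hd p.1).mpr ?_)
      rw [← signed_fst, ← spanW_fst]
      exact List.mem_map.mpr ⟨p, (List.mem_filter.mp hp).1, rfl⟩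

theorem exists_getElem_map {α β : Type*} (g : α → β) {l : List α} {m : List β} (h : l.map g = m) (j : ℕ)
    (hj : j < m.length) : ∃ d ∈ l, g d = m[j] := by
  subst h
  exact ⟨l[j]'(by simpa using hj), List.getElem_mem _, by simp⟩

theorem getElem_node (j : ℕ) (h : j < masksD.length) : ∃ d ∈ nodes, d.mask = masksD[j] :=
  exists_getElem_map (fun d : Node => d.mask) masks_ok j h

/-- **Every centric subgroup is listed.** -/
theorem exists_node (hS : IsPGroup 2 S) {E : Subgroup G} (hE : Cent S E) :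
    ∃ d ∈ nodes, M.Has E d.mask := by
  classical
  haveI : Fact (Nat.Prime 2) := ⟨Nat.prime_two⟩
  obtain ⟨n, hn⟩ : ∃ n, Nat.card S - Nat.card E = n := ⟨_, rfl⟩
  induction n using Nat.strong_induction_on generalizing E with
  | _ n ih =>
  obtain ⟨hES, hEc⟩ := hE
  by_cases heq : E = S
  · have hfull : ∀ i : Fin 512, inM (masksD.getD 0 0) i = true := by decide +kernel
    have hpos : 0 < masksD.length := by decide +kernel
    obtain ⟨d, hd, hm⟩ := getElem_node 0 hpos
    refine ⟨d, hd, heq.le, fun i hi => ⟨fun _ => ?_, fun _ => heq ▸ M.mem i hi⟩⟩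
    rw [hm, ← List.getD_eq_getElem _ 0 hpos]
    exact hfull ⟨i, hi⟩
  obtain ⟨K, hEK, hKS, hidx⟩ : ∃ K : Subgroup G, E ≤ K ∧ K ≤ S ∧ E.relIndex K = 2 := by
    obtain ⟨a, ha⟩ := hS.exists_card_eq
    obtain ⟨b, hb⟩ := (hS.to_le hES).exists_card_eq
    have hlt : Nat.card E < Nat.card S := lt_of_le_of_ne (Subgroup.card_le_of_le hES) fun e =>
      heq (Subgroup.eq_of_le_of_card_ge hES e.ge)
    have hba : b < a := by
      rw [ha, hb] at hlt
      exact (Nat.pow_lt_pow_iff_right (by omega)).mp hlt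
    obtain ⟨K, hKc, hK⟩ := Sylow.exists_subgroup_card_pow_succ (p := 2) (n := b) (G := ↥S)
      (by rw [ha]; exact pow_dvd_pow 2 hba) (H := E.subgroupOf S)
      (by rw [Nat.card_congr (Subgroup.subgroupOfEquivOfLe hES).toEquiv, hb])
    refine ⟨K.map S.subtype, fun x hx => ⟨⟨x, hES hx⟩, hK hx, rfl⟩, Subgroup.map_subtype_le K, ?_⟩
    have hle : E ≤ K.map S.subtype := fun x hx => ⟨⟨x, hES hx⟩, hK hx, rfl⟩
    have h := Subgroup.relIndex_mul_relIndex ⊥ E (K.map S.subtype) bot_le hle
    rw [Subgroup.relIndex_bot_left, Subgroup.relIndex_bot_left,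
      Subgroup.card_map_of_injective S.subtype_injective, hKc, hb, pow_succ] at h
    exact Nat.eq_of_mul_eq_mul_left (pow_pos (by omega) b) h
  have hKcard : Nat.card K = 2 * Nat.card E := by
    have h := Subgroup.relIndex_mul_relIndex ⊥ E K bot_le hEK
    rw [Subgroup.relIndex_bot_left, Subgroup.relIndex_bot_left, hidx] at h
    omega
  obtain ⟨d, hd, hK⟩ := ih (Nat.card S - Nat.card K) (by
      have h1 := Subgroup.card_le_of_le hKS
      have h2 : 0 < Nat.card E := Nat.card_pos
      omega)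
    ⟨hKS, fun x hx hc => hEK (hEc x hx fun e he => hc e (hEK he))⟩ rfl
  have hok := nodes_ok d hd
  simp only [Node.ok, Bool.and_eq_true] at hok
  obtain ⟨⟨hbase, hkids⟩, -⟩ := hok
  obtain ⟨f, hf1, hf2, hHas⟩ := M.even_mask hbase hkids hK hEK hidx
  simp only [Node.kidsOK, Bool.and_eq_true, List.all_eq_true, beq_iff_eq] at hkids
  obtain ⟨⟨-, hlen⟩, hall⟩ := hkids
  have hfl : f - 1 < d.kids.length := by
    rw [Nat.one_shiftLeft] at hlen
    omega
  have hq := hall (d.kids[f - 1], f - 1) (by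
    rw [List.mem_iff_getElem]
    exact ⟨f - 1, by rwa [List.length_zipIdx], by simp⟩)
  simp only [Nat.sub_add_cancel hf1] at hq
  split at hq
  · rw [beq_iff_eq] at hq
    rename_i h2
    by_cases hj : d.kids[f - 1] / 2 < masksD.length
    · obtain ⟨d', hd', hm⟩ := getElem_node _ hj
      refine ⟨d', hd', ?_⟩
      rw [hm, ← List.getD_eq_getElem _ 0 hj, hq]
      exact hHas
    · exfalso
      rw [List.getD_eq_default _ _ (Nat.le_of_not_lt hj)] at hq
      have h1 := (hHas.2 0 (by omega)).mp (by rw [M.c_zero]; exact E.one_mem)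
      rw [← hq] at h1
      simp [inM_iff] at h1
  · simp only [Bool.and_eq_true, beq_iff_eq, Bool.not_eq_true', Nat.blt_eq] at hq
    obtain ⟨⟨hz, hzE⟩, hz512⟩ := hq
    exfalso
    generalize hzdef : zsD.getD (d.kids[f - 1] / 2) (0, 0) = z at hz hzE hz512
    have hzin : z ∈ zsD ∨ z = (0, 0) := by
      by_cases hj : d.kids[f - 1] / 2 < zsD.length
      · rw [List.getD_eq_getElem _ _ hj] at hzdef
        exact Or.inl (hzdef ▸ List.getElem_mem hj)
      · rw [List.getD_eq_default _ _ (Nat.le_of_not_lt hj)] at hzdef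
        exact Or.inr hzdef.symm
    rcases hzin with hzin | rfl
    · have hzs := zs_ok
      simp only [zsOK, List.all_eq_true] at hzs
      have hmem : M.c z.1 ∈ E := hEc _ (M.mem _ hz512) fun e he => by
        obtain ⟨i, hi, rfl⟩ := M.surj e (hES he)
        have h1 := (hHas.2 i hi).mp he
        rw [← hz, inM_and, Bool.and_eq_true] at h1
        have h2 := hzs z hzin i (List.mem_range.mpr hi)
        simp only [h1.2, Bool.not_true, Bool.false_or] at h2
        exact ((M.cm_iff hi hz512).mp h2).symm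
      rw [(hHas.2 _ hz512).mp hmem] at hzE
      exact absurd hzE (by simp)
    · have := (hHas.2 0 (by omega)).mp (by rw [M.c_zero]; exact E.one_mem)
      rw [this] at hzE
      exact absurd hzE (by simp)

end Emb

end CfsgM24Q
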