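import Cfsg.Agent.Lib.M24Quot.Code

/-!
Certificates for the centric subgroups of the model and for the fact that those not containing the
abelian subgroup of order 64 are not essential.
-/

set_option autoImplicit false

namespace CfsgM24Q

/-- All products of a list of generators. -/
def spanL : List ℕ → List ℕ
  | [] => [0]
  | g :: l => spanL l ++ (spanL l).map fun x => mulC x g

/-- All products of a list of signed generators, with the signs. -/
def spanW : List (ℕ × ℕ) → List (ℕ × ℕ)
  | [] => [(0, 0)]
  | (g, v) :: l => spanW l ++ (spanW l).map fun p => (mulC p.1 g, p.2 ^^^ v)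

/-- The mask of a list of codes. -/
def maskOf (L : List ℕ) : ℕ := L.foldl (fun m x => m ||| (1 <<< x)) 0

/-- Membership in a mask. -/
def inM (m x : ℕ) : Bool := bt m x == 1

/-- The inverse of a code. -/
def invC (x : ℕ) : ℕ :=
  let y := mulC x x
  mulC (mulC (mulC y y) y) x

/-- The displacement of `x` by `g`, whose inverse is `gi`. -/
def ddC (g gi x : ℕ) : ℕ := mulC (invC x) (mulC (mulC g x) gi)

/-- Commuting. -/
def cmC (x y : ℕ) : Bool := mulC x y == mulC y x

/-- Reasons why a centric subgroup is not an essential one missing the abelian subgroup. -/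
inductive Kill
  | big
  | stab (k g gi : ℕ) (xs : List ℕ)
  | rank (g gi : ℕ) (wg : List ℕ) (h hi : ℕ) (wh : List ℕ)

/-- The data of a centric subgroup. -/
structure Node where
  pg : List ℕ
  pw : List (List ℕ)
  b : List ℕ
  mask : ℕ
  kids : List ℕ
  kill : Kill

/-- The generators. -/
def Node.gens (d : Node) : List ℕ := d.pg ++ d.b

/-- The elements. -/
def Node.elts (d : Node) : List ℕ := spanL d.gens

/-- The generators with their signs. -/
def Node.signed (d : Node) : List (ℕ × ℕ) :=
  d.pg.map (fun g => (g, 0)) ++ d.b.mapIdx fun k g => (g, 1 <<< k)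

/-- The products of squares. -/
def sqWord (w : List ℕ) : ℕ := w.foldl (fun r x => mulC r (mulC x x)) 0

/-- The elements whose sign has a given bit. -/
def bitMask (W : List (ℕ × ℕ)) (k : ℕ) : ℕ :=
  maskOf ((W.filter fun p => bt p.2 k == 1).map Prod.fst)

/-- The elements of odd sign for the functional `f`. -/
def oddMask (C : List ℕ) (f : ℕ) : ℕ :=
  (C.zipIdx).foldl (fun m p => if bt f p.2 == 1 then m ^^^ p.1 else m) 0

/-- The basic data of a node. -/
def Node.baseOK (d : Node) : Bool :=
  d.gens.all (fun g => Nat.blt g 512) && (maskOf d.elts == d.mask) &&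
  (d.pw.length == d.pg.length) &&
  (d.pg.zip d.pw).all (fun p => sqWord p.2 == p.1 && p.2.all fun x => Nat.blt x 512 && inM d.mask x)

/-- The maximal subgroups are accounted for. -/
def Node.kidsOK (d : Node) (masks : List ℕ) (zs : List (ℕ × ℕ)) : Bool :=
  let W := spanW d.signed
  let C := (List.range d.b.length).map (bitMask W)
  W.all (fun p => C.zipIdx.all fun q => inM q.1 p.1 == (bt p.2 q.2 == 1)) &&
  (d.kids.length + 1 == 1 <<< d.b.length) &&
  d.kids.zipIdx.all fun q =>
    let e := d.mask ^^^ oddMask C (q.2 + 1)
    if q.1 % 2 == 0 then masks.getD (q.1 / 2) 0 == e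
    else
      let z := zs.getD (q.1 / 2) (0, 0)
      (e &&& z.2 == e) && !(inM e z.1) && Nat.blt z.1 512

/-- The element `g` normalises the subgroup without lying in it. -/
def Node.outOK (d : Node) (g gi : ℕ) : Bool :=
  Nat.blt g 512 && Nat.blt gi 512 && mulC g gi == 0 && !(inM d.mask g) &&
  d.gens.all fun x => inM d.mask (mulC (mulC g x) gi)

/-- The property defining the characteristic subgroup of the given kind, on the strong side. -/
def Node.prop1 (d : Node) (k x : ℕ) : Bool :=
  match k with
  | 0 => x == 0
  | 1 => d.gens.all (cmC x)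
  | _ => d.elts.all fun y => cmC x (mulC y y)

/-- The property defining the characteristic subgroup of the given kind, on the weak side. -/
def Node.prop2 (d : Node) (k x : ℕ) : Bool :=
  match k with
  | 0 => x == 0
  | 1 => d.gens.all (cmC x)
  | _ => d.pg.all (cmC x)

/-- A stabilised series. -/
def Node.stabOK (d : Node) (k g gi : ℕ) (xs : List ℕ) : Bool :=
  d.outOK g gi &&
  xs.all (fun x => Nat.blt x 512 && inM d.mask x && d.prop1 k x) &&
  (let w := maskOf (spanL (d.pg ++ xs)); d.gens.all fun x => inM w (ddC g gi x)) &&
  (let ph := maskOf (spanL d.pg); d.elts.all fun x => !(d.prop2 k x) || inM ph (ddC g gi x))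

/-- The displacement group of `g` is given by its mask. -/
def Node.dispOK (d : Node) (g gi : ℕ) (ws : List ℕ) : Bool :=
  let L := spanL (d.pg ++ ws)
  let w := maskOf L
  d.outOK g gi && inM d.mask (mulC g g) &&
  ws.all (fun v => d.elts.any fun x => ddC g gi x == v) &&
  L.all (fun x => (d.pg ++ ws).all fun v => inM w (mulC x v)) &&
  d.elts.all fun x => inM w (ddC g gi x) && inM w (mulC x x)

/-- The number of codes in a mask. -/
def popC (m : ℕ) : ℕ := (codes.filter (inM m)).length

/-- The reason holds. -/
def Node.killOK (d : Node) : Bool :=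
  match d.kill with
  | .big => [1, 2, 4, 8, 16, 32].all (inM d.mask)
  | .stab k g gi xs => d.stabOK k g gi xs
  | .rank g gi wg h hi wh => d.dispOK g gi wg && d.dispOK h hi wh &&
      !(popC (maskOf (spanL (d.pg ++ wg))) == popC (maskOf (spanL (d.pg ++ wh))))

/-- All conditions on a node. -/
def Node.ok (d : Node) (masks : List ℕ) (zs : List (ℕ × ℕ)) : Bool :=
  d.baseOK && d.kidsOK masks zs && d.killOK

/-- The centraliser masks. -/
def zsOK (zs : List (ℕ × ℕ)) : Bool :=
  zs.all fun z => codes.all fun x => !(inM z.2 x) || cmC x z.1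

end CfsgM24Q
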