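import Cfsg.Agent.Lib.M24Quot.Kill
import Cfsg.Agent.Lib.LocalFusion

/-!
The abelian subgroup of order 64 of a Sylow 2-subgroup of the model type is strongly closed.
-/

set_option autoImplicit false
set_option linter.unusedSectionVars false

namespace CfsgM24Q

open Cfsg FusionSystem

theorem small_check : ((List.range 64).all fun i => (List.range 64).all fun j =>
    Nat.blt (mulC i j) 64 && cmC i j && (mulC i i == 0)) = true := by decide +kernel

theorem self_cent_check : (codes.all fun i => Nat.blt i 64 || [1, 2, 4, 8, 16, 32].any fun j => !(cmC i j)) = true := by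
  decide +kernel

namespace Emb

variable {G : Type*} [Group G] {S : Subgroup G} (M : Emb S)

theorem small (i : ℕ) (hi : i < 64) (j : ℕ) (hj : j < 64) :
    mulC i j < 64 ∧ cmC i j = true ∧ mulC i i = 0 := by
  have h := small_check
  simp only [List.all_eq_true, List.mem_range, Bool.and_eq_true, Nat.blt_eq, beq_iff_eq] at h
  exact ⟨(h i hi j hj).1.1, (h i hi j hj).1.2, (h i hi j hj).2⟩

/-- The abelian subgroup of order 64. -/
def subA : Subgroup G where
  carrier := {x | ∃ i, i < 64 ∧ M.c i = x}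
  one_mem' := ⟨0, by omega, M.c_zero⟩
  mul_mem' := by
    rintro _ _ ⟨i, hi, rfl⟩ ⟨j, hj, rfl⟩
    exact ⟨mulC i j, (small i hi j hj).1, M.mul i (by omega) j (by omega)⟩
  inv_mem' := by
    rintro _ ⟨i, hi, rfl⟩
    refine ⟨i, hi, eq_inv_of_mul_eq_one_right ?_⟩
    rw [← M.mul i (by omega) i (by omega), (small i hi i hi).2.2, M.c_zero]

theorem mem_subA {x : G} : x ∈ M.subA ↔ ∃ i, i < 64 ∧ M.c i = x := Iff.rfl

theorem subA_le : M.subA ≤ S := by
  rintro _ ⟨i, hi, rfl⟩
  exact M.mem i (by omega)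

theorem subA_sq : ∀ a ∈ M.subA, a * a = 1 := by
  rintro _ ⟨i, hi, rfl⟩
  rw [← M.mul i (by omega) i (by omega), (small i hi i hi).2.2, M.c_zero]

theorem subA_comm : ∀ a ∈ M.subA, ∀ b ∈ M.subA, a * b = b * a := by
  rintro _ ⟨i, hi, rfl⟩ _ ⟨j, hj, rfl⟩
  exact (M.cm_iff (by omega) (by omega)).mp (small i hi j hj).2.1

theorem card_subA : Nat.card M.subA = 64 := by
  have e : Fin 64 ≃ M.subA := Equiv.ofBijective (fun i => ⟨M.c i, i, i.2, rfl⟩) ⟨fun i j h =>
    Fin.ext (M.inj _ (by omega) _ (by omega) (congrArg Subtype.val h)), by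
      rintro ⟨_, i, hi, rfl⟩
      exact ⟨⟨i, hi⟩, rfl⟩⟩
  rw [← Nat.card_congr e, Nat.card_fin]

theorem self_cent {x : G} (hx : x ∈ S) (h : ∀ a ∈ M.subA, x * a = a * x) : x ∈ M.subA := by
  obtain ⟨i, hi, rfl⟩ := M.surj x hx
  have hc := self_cent_check
  simp only [List.all_eq_true, List.any_eq_true, Bool.or_eq_true, Bool.not_eq_true', Nat.blt_eq, codes,
    List.mem_range] at hc
  rcases hc i hi with h1 | ⟨j, hj, h1⟩
  · exact ⟨i, h1, rfl⟩
  · exfalso
    have hj' : j < 64 := by
      simp only [List.mem_cons, List.not_mem_nil, or_false] at hj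
      omega
    rw [(M.cm_iff hi (by omega)).mpr (h _ ⟨j, hj', rfl⟩)] at h1
    exact absurd h1 (by simp)

end Emb

/-- The hypotheses on a group: the Sylow subgroup has the model shape and `A` is its only abelian subgroup of
order 64. -/
structure Cfg {G : Type*} [Group G] (S : Sylow 2 G) (A : Subgroup G) where
  M : Emb (S : Subgroup G)
  hA : A = M.subA
  uniq : ∀ B : Subgroup G, B ≤ (S : Subgroup G) → (∀ a ∈ B, ∀ b ∈ B, a * b = b * a) → Nat.card B = 64 → B = A

namespace Cfg

variable {G : Type*} [Group G] [Finite G] {S : Sylow 2 G} {A : Subgroup G} (D : Cfg S A)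

include D in
theorem le : A ≤ (S : Subgroup G) := D.hA ▸ D.M.subA_le

include D in
/-- A conjugate of `A` inside the Sylow subgroup is `A`. -/
theorem mem_normalizer {g : G} (h : ∀ a ∈ A, g * a * g⁻¹ ∈ (S : Subgroup G)) :
    g ∈ Subgroup.normalizer (A : Set G) := by
  have hB := D.uniq (A.map (MulAut.conj g).toMonoidHom) (by rintro _ ⟨a, ha, rfl⟩; exact h a ha) (by
      rintro _ ⟨a, ha, rfl⟩ _ ⟨b, hb, rfl⟩
      have hc : a * b = b * a := D.M.subA_comm a (by rw [← D.hA]; exact ha) b (by rw [← D.hA]; exact hb)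
      rw [← map_mul, ← map_mul, hc]) (by
      rw [Subgroup.card_map_of_injective (MulEquiv.injective _), D.hA, D.M.card_subA])
  exact CfsgLib.Local.mem_normalizer_of_map_conj_eq hB

include D in
theorem le_normalizer : (S : Subgroup G) ≤ Subgroup.normalizer (A : Set G) := fun s hs =>
  D.mem_normalizer fun a ha => mul_mem (mul_mem hs (D.le ha)) (inv_mem hs)

include D in
/-- **Strong closure.** -/
theorem closed : IsStronglyClosed A (S : Subgroup G) := by
  refine ⟨D.le, ?_⟩
  haveI : Fact (Nat.Prime 2) := ⟨Nat.prime_two⟩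
  set F := groupFusionSystem (S : Subgroup G) with hF
  let E : FusionSystem (S : Subgroup G) :=
    { Hom := fun P => {φ | φ ∈ F.Hom P ∧ ∀ y : P, (y : G) ∈ A ↔ φ y ∈ A}
      le_of_mem := fun h => F.le_of_mem h.1
      injective_of_mem := fun h => F.injective_of_mem h.1
      conj_mem := fun {P s} hP hs => ⟨F.conj_mem hP hs, fun y =>
        Subgroup.mem_normalizer_iff.mp (D.le_normalizer hs) y⟩
      comp_mem := fun {P Q φ ψ} hφ hψ h => ⟨F.comp_mem hφ.1 hψ.1 h, fun y =>
        (hφ.2 y).trans (hψ.2 ⟨φ y, h y⟩)⟩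
      inv_mem := fun {P φ} hφ => by
        obtain ⟨ψ, hψ, hl⟩ := F.inv_mem hφ.1
        refine ⟨ψ, ⟨hψ, ?_⟩, hl⟩
        rintro ⟨_, y, rfl⟩
        rw [hl]
        exact (hφ.2 y).symm }
  have hsat := groupFusionSystem_isSaturated S
  have key : F ≤ E := by
    refine hsat.le_of_autGroup_le S.2 E fun P hP => ?_
    have hPS : P ≤ (S : Subgroup G) := by
      rcases hP with rfl | hP
      exacts [le_rfl, hP.1.1]
    have hAP : A ≤ P := by
      rcases hP with rfl | hP
      · exact D.le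
      · rw [D.hA]
        rintro _ ⟨i, hi, rfl⟩
        exact D.M.le_of_essential S.2 hsat hP i hi
    intro α hα
    refine (E.mem_autGroup_iff hPS).mpr ⟨(F.mem_autGroup_iff hPS).mp hα, ?_⟩
    rw [show F.autGroup P = _ from autGroup_groupFusionSystem hPS] at hα
    obtain ⟨g, -, hN, he⟩ := mem_autInducedBy_iff.mp hα
    have hg : g ∈ Subgroup.normalizer (A : Set G) :=
      D.mem_normalizer fun a ha => hPS ((Subgroup.mem_normalizer_iff.mp hN a).mp (hAP ha))
    intro y
    show (y : G) ∈ A ↔ ((α y : P) : G) ∈ A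
    rw [he]
    exact Subgroup.mem_normalizer_iff.mp hg y
  intro x hx g hgx
  have hmap : conjHom (Subgroup.zpowers x) g ∈ F.Hom (Subgroup.zpowers x) := by
    refine conjHom_mem_groupFusionSystem (Subgroup.zpowers_le.mpr (D.le hx)) ?_
    rintro _ ⟨n, rfl⟩
    show g * x ^ n * g⁻¹ ∈ (S : Subgroup G)
    rw [← conj_zpow]
    exact zpow_mem hgx n
  exact ((key _ hmap).2 ⟨x, Subgroup.mem_zpowers x⟩).mp hx

end Cfg

end CfsgM24Q
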