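import Mathlib.Algebra.Group.Subgroup.Basic
import Mathlib.Data.List.Basic

/-!
A coordinate model of the central quotient of a Sylow 2-subgroup of the Mathieu group of degree 24:
unitriangular matrices of size five over two elements modulo their centre, as nine-bit codes.
-/

set_option autoImplicit false

namespace CfsgM24Q

/-- The `k`-th bit as a number. -/
def bt (i k : ℕ) : ℕ := (i >>> k) &&& 1

/-- Right multiplication by the `k`-th elementary matrix. -/
def rg (k i : ℕ) : ℕ :=
  match k with
  | 4 => (i ^^^ 16) ^^^ (bt i 6 <<< 3)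
  | 5 => ((i ^^^ 32) ^^^ (bt i 7 <<< 3)) ^^^ (bt i 8 <<< 4)
  | 6 => (i ^^^ 64) ^^^ (bt i 0 <<< 1)
  | 7 => (i ^^^ 128) ^^^ (bt i 0 <<< 2)
  | 8 => ((i ^^^ 256) ^^^ (bt i 1 <<< 2)) ^^^ (bt i 6 <<< 7)
  | _ => i ^^^ (1 <<< k)

/-- The order in which the elementary matrices are multiplied. -/
def ord : List ℕ := [3, 4, 5, 8, 7, 6, 0, 1, 2]

/-- One step of a product. -/
def stepC (j x k : ℕ) : ℕ := if bt j k == 1 then rg k x else x

/-- The product of two codes. -/
def mulC (i j : ℕ) : ℕ := ord.foldl (stepC j) i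

/-- The codes. -/
def codes : List ℕ := List.range 512

theorem rg_lt {k i : ℕ} (hk : k < 9) (hi : i < 512) : rg k i < 512 := by
  have h : ∀ i' : Fin 512, ∀ k' : Fin 9, rg k' i' < 512 := by decide +kernel
  exact h ⟨i, hi⟩ ⟨k, hk⟩

theorem foldl_lt {j : ℕ} : ∀ (l : List ℕ), (∀ k ∈ l, k < 9) → ∀ i < 512, l.foldl (stepC j) i < 512
  | [], _, _, hi => hi
  | k :: l, hl, i, hi => by
    refine foldl_lt l (fun a ha => hl a (List.mem_cons_of_mem _ ha)) _ ?_
    unfold stepC
    split
    · exact rg_lt (hl k (List.mem_cons_self ..)) hi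
    · exact hi

theorem ord_lt : ∀ k ∈ ord, k < 9 := by decide

theorem mulC_lt {i : ℕ} (j : ℕ) (hi : i < 512) : mulC i j < 512 := foldl_lt ord ord_lt i hi

/-- The data of an isomorphism of a group with the model. -/
structure Mdl (S : Type*) [Group S] where
  /-- The element with a given code. -/
  c : ℕ → S
  mul : ∀ i, i < 512 → ∀ j, j < 512 → c (mulC i j) = c i * c j
  inj : ∀ i, i < 512 → ∀ j, j < 512 → c i = c j → i = j
  surj : ∀ x, ∃ i, i < 512 ∧ c i = x

namespace Mdl

variable {S : Type*} [Group S] (M : Mdl S)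

/-- The code of an element. -/
noncomputable def code (x : S) : ℕ := (M.surj x).choose

theorem code_lt (x : S) : M.code x < 512 := (M.surj x).choose_spec.1

@[simp] theorem c_code (x : S) : M.c (M.code x) = x := (M.surj x).choose_spec.2

theorem code_c {i : ℕ} (hi : i < 512) : M.code (M.c i) = i :=
  M.inj _ (M.code_lt _) _ hi (M.c_code _)

theorem code_mul (x y : S) : M.code (x * y) = mulC (M.code x) (M.code y) :=
  M.inj _ (M.code_lt _) _ (mulC_lt _ (M.code_lt _)) (by
    rw [c_code, M.mul _ (M.code_lt x) _ (M.code_lt y), c_code, c_code])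

theorem code_injective : Function.Injective M.code := fun x y h => by
  rw [← M.c_code x, ← M.c_code y, h]

theorem c_zero : M.c 0 = 1 := by
  have h := M.mul 0 (by omega) 0 (by omega)
  rw [show mulC 0 0 = 0 by decide +kernel] at h
  exact mul_eq_left.mp h.symm

theorem code_one : M.code 1 = 0 := by
  rw [← M.c_zero, M.code_c (by omega)]

/-- Transport along an isomorphism. -/
def map {T : Type*} [Group T] (e : S ≃* T) : Mdl T where
  c i := e (M.c i)
  mul i hi j hj := by rw [M.mul i hi j hj, map_mul]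
  inj i hi j hj h := M.inj i hi j hj (e.injective h)
  surj x := by
    obtain ⟨i, hi, h⟩ := M.surj (e.symm x)
    exact ⟨i, hi, by rw [h, MulEquiv.apply_symm_apply]⟩

end Mdl

end CfsgM24Q
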