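import Cfsg.Agent.Lib.M24Quot.LinData

/-! Kernel checks for the linear groups. -/

set_option autoImplicit false
set_option maxRecDepth 20000

namespace CfsgM24Q

theorem twist_ok : twistCheck trsE1 = true := by decide +kernel

theorem trsE1_ok : trsE1.all (fun t => t.ok mE1 repE1) = true := by decide +kernel

theorem gdE1_ok : gdE1.ok repE1 = true := by decide +kernel

theorem gdP1_ok : gdP1.ok repE1 = true := by decide +kernel

theorem gdP7_ok : gdP7.ok repE1 = true := by decide +kernel

theorem big3_ok : (genCheck [mT1, mT2, repE1, [27, 13, 4, 16, 24, 32]] bigL3 bigP3 && nodupL bigL3 && Nat.blt 360 bigL3.length) = true := by decide +kernel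

theorem big6_ok : (genCheck [mT1, mT2, repE1, [7, 5, 4, 20, 24, 51]] bigL6 bigP6 && nodupL bigL6 && Nat.blt 360 bigL6.length) = true := by decide +kernel

end CfsgM24Q
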