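import Cfsg.Agent.Lib.M24Quot.LinData

/-! Kernel checks for the linear groups. -/

set_option autoImplicit false
set_option maxRecDepth 20000

namespace CfsgM24Q

theorem gdP0_ok : gdP0.ok repE1 = true := by decide +kernel

theorem gdP4_ok : gdP4.ok repE1 = true := by decide +kernel

theorem big2_ok : (genCheck [mT1, mT2, repE1, [3, 5, 4, 16, 24, 32]] bigL2 bigP2 && nodupL bigL2 && Nat.blt 360 bigL2.length) = true := by decide +kernel

theorem big5_ok : (genCheck [mT1, mT2, repE1, [27, 9, 4, 20, 24, 35]] bigL5 bigP5 && nodupL bigL5 && Nat.blt 360 bigL5.length) = true := by decide +kernel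

end CfsgM24Q
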