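import Cfsg.Agent.Lib.M24Quot.LinData

/-! The lists of the groups of order 168 are closed under their generators. -/

set_option autoImplicit false
set_option maxRecDepth 20000

namespace CfsgM24Q

/-- Closed under right multiplication by the generators. -/
def closeCheck (gens : List (List ℕ)) (L : List (List ℕ)) : Bool :=
  gens.all fun g => L.all fun X => memL (mulM X g) L

theorem gdP0_close : closeCheck gdP0.gens gdP0.L = true := by decide +kernel

theorem gdP1_close : closeCheck gdP1.gens gdP1.L = true := by decide +kernel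

theorem gdP4_close : closeCheck gdP4.gens gdP4.L = true := by decide +kernel

theorem gdP7_close : closeCheck gdP7.gens gdP7.L = true := by decide +kernel

theorem gd_lengths : gdE1.L.length = 24 ∧ gdP0.L.length = 168 ∧ gdP1.L.length = 168 ∧ gdP4.L.length = 168 ∧
    gdP7.L.length = 168 := by decide +kernel

theorem gd_gens : gdE1.gens = [mT1, mT2, repE1] ∧ gdP0.gens = [mT1, mT2, repE1, [3, 1, 4, 16, 24, 32]] ∧
    gdP1.gens = [mT1, mT2, repE1, [27, 9, 4, 16, 24, 32]] ∧ gdP4.gens = [mT1, mT2, repE1, [3, 1, 4, 20, 24, 35]] ∧
    gdP7.gens = [mT1, mT2, repE1, [31, 13, 4, 20, 24, 51]] := by decide +kernel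

theorem reps2_eq : trsE1.map (fun t => mulM (mulM mR t.g) mR) = reps2 := by decide +kernel

end CfsgM24Q
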