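import Cfsg.Agent.Lib.M24Quot.LinFacts
import Mathlib.Data.Finset.Card

/-!
The combinatorial conclusion about a set of linear maps fixing a subspace, and the soundness of its certificates.
-/

set_option autoImplicit false
set_option maxRecDepth 4000

namespace CfsgM24Q

/-- A subspace of vectors. -/
structure ZSub (Z : ℕ → Prop) : Prop where
  zero : Z 0
  lt : ∀ z, Z z → z < 64
  xor : ∀ a b, Z a → Z b → Z (a ^^^ b)

/-- A vector with a suitable partner. -/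
def GoodV (F : Set (ℕ → ℕ)) (Z : ℕ → Prop) (v : ℕ) : Prop :=
  ∃ u, u < 64 ∧ ¬ Z u ∧ (∀ f ∈ F, f u ≠ v) ∧ ∀ ζ, Z ζ → ζ ≠ 0 → ∀ f ∈ F, f u ≠ u ^^^ ζ ∧ f v ≠ u ^^^ ζ

/-- A complement to the subspace, and the good vectors span everything. -/
structure Nice (F : Set (ℕ → ℕ)) (Z : ℕ → Prop) : Prop where
  compl : ∃ A : List ℕ, 8 ≤ A.length ∧ A.Nodup ∧ 0 ∈ A ∧ (∀ a ∈ A, a < 64) ∧
    (∀ a ∈ A, ∀ b ∈ A, a ^^^ b ∈ A) ∧ (∀ a ∈ A, Z a → a = 0) ∧ ∀ v, v < 64 → ∃ a ∈ A, Z (v ^^^ a)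
  span : ∀ B : ℕ → Prop, (∀ a b, B a → B b → B (a ^^^ b)) → (∀ z, Z z → B z) →
    (∀ v, v < 64 → GoodV F Z v → B v) → ∀ v, v < 64 → B v

/-- Invariance under a change of basis. -/
theorem Nice.of_map {F F' : Set (ℕ → ℕ)} {Z Z' : ℕ → Prop} {φ ψ : ℕ → ℕ} (hφ : Lin φ) (hψ : Lin ψ)
    (h1 : ∀ v, v < 64 → φ (ψ v) = v) (h2 : ∀ v, v < 64 → ψ (φ v) = v)
    (hF : ∀ f ∈ F, ∃ f' ∈ F', ∀ v, v < 64 → f' (φ v) = φ (f v)) (hFl : ∀ f ∈ F, ∀ v, v < 64 → f v < 64)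
    (hZ : ∀ v, v < 64 → (Z' (φ v) ↔ Z v)) (hl : ∀ z, Z z → z < 64) (hl' : ∀ z, Z' z → z < 64)
    (hN : Nice F' Z') : Nice F Z := by
  have hinj : ∀ a, a < 64 → ∀ b, b < 64 → ψ a = ψ b → a = b := fun a ha b hb e => by
    rw [← h1 a ha, e, h1 b hb]
  have hinjφ : ∀ a, a < 64 → ∀ b, b < 64 → φ a = φ b → a = b := fun a ha b hb e => by
    rw [← h2 a ha, e, h2 b hb]
  obtain ⟨A, hA8, hnd, h0, hlt, hxor, hAZ, hdec⟩ := hN.compl
  refine ⟨⟨A.map ψ, by rw [List.length_map]; exact hA8, ?_, ?_, ?_, ?_, ?_, ?_⟩, ?_⟩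
  · exact (List.nodup_map_iff_inj_on hnd).mpr fun a ha b hb e => hinj a (hlt a ha) b (hlt b hb) e
  · exact List.mem_map.mpr ⟨0, h0, hψ.zero⟩
  · simp only [List.mem_map]
    rintro _ ⟨a, ha, rfl⟩
    exact hψ.lt a (hlt a ha)
  · simp only [List.mem_map]
    rintro _ ⟨a, ha, rfl⟩ _ ⟨b, hb, rfl⟩
    exact ⟨a ^^^ b, hxor a ha b hb, hψ.add a (hlt a ha) b (hlt b hb)⟩
  · simp only [List.mem_map]
    rintro _ ⟨a, ha, rfl⟩ hz
    have := (hZ _ (hψ.lt a (hlt a ha))).mpr hz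
    rw [h1 a (hlt a ha)] at this
    rw [hAZ a ha this, hψ.zero]
  · intro v hv
    obtain ⟨a, ha, hz⟩ := hdec (φ v) (hφ.lt v hv)
    refine ⟨ψ a, List.mem_map.mpr ⟨a, ha, rfl⟩, (hZ _ (xor_lt64 hv (hψ.lt a (hlt a ha)))).mp ?_⟩
    rwa [hφ.add v hv _ (hψ.lt a (hlt a ha)), h1 a (hlt a ha)]
  intro B hB hBZ hBG
  have key := hN.span (fun v => v < 64 ∧ B (ψ v))
    (fun a b ha hb => ⟨xor_lt64 ha.1 hb.1, by rw [hψ.add a ha.1 b hb.1]; exact hB _ _ ha.2 hb.2⟩)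
    (fun z hz => ⟨hl' z hz, hBZ _ ((hZ _ (hψ.lt z (hl' z hz))).mp (by rwa [h1 z (hl' z hz)]))⟩)
    (fun v hv hg => ⟨hv, hBG _ (hψ.lt v hv) (by
      obtain ⟨u, hu, huZ, hne, hζ⟩ := hg
      refine ⟨ψ u, hψ.lt u hu, fun hz => huZ (by have := (hZ _ (hψ.lt u hu)).mpr hz; rwa [h1 u hu] at this),
        fun f hf e => ?_, fun ζ hz hz0 f hf => ?_⟩
      · obtain ⟨f', hf', he⟩ := hF f hf
        have := he _ (hψ.lt u hu)
        rw [e, h1 u hu, h1 v hv] at this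
        exact hne f' hf' this
      · obtain ⟨f', hf', he⟩ := hF f hf
        obtain ⟨g1, g2⟩ := hζ (φ ζ) ((hZ ζ (hl ζ hz)).mpr hz)
          (fun e => hz0 (hinjφ ζ (hl ζ hz) 0 (by omega) (e.trans hφ.zero.symm))) f' hf'
        have hadd : φ (ψ u ^^^ ζ) = u ^^^ φ ζ := by rw [hφ.add _ (hψ.lt u hu) _ (hl ζ hz), h1 u hu]
        refine ⟨fun e => g1 ?_, fun e => g2 ?_⟩
        · have := he _ (hψ.lt u hu)
          rw [e, hadd, h1 u hu] at this
          exact this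
        · have := he _ (hψ.lt v hv)
          rw [e, hadd, h1 v hv] at this
          exact this)⟩)
  intro v hv
  have := (key (φ v) (hφ.lt v hv)).2
  rwa [h2 v hv] at this

/-- Soundness of a certificate. -/
theorem ZW.nice {L : List (List ℕ)} {q : ZW} (hok : q.ok L = true) {F : Set (ℕ → ℕ)} {Z : ℕ → Prop}
    (hF : ∀ f ∈ F, ∃ X ∈ L, ∀ v, v < 64 → f v = apM X v) (hfix : ∀ f ∈ F, ∀ z, Z z → f z = z)
    (hZ : ∀ z, Z z ↔ z ∈ q.Z) : Nice F Z := by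
  simp only [ZW.ok, Bool.and_eq_true, List.all_eq_true, Nat.blt_eq, decide_eq_true_eq,
    List.contains_iff_mem, Bool.or_eq_true, beq_iff_eq, List.any_eq_true, Bool.not_eq_true',
    Bool.not_eq_eq_eq_not, Bool.not_true, inM_maskOf] at hok
  obtain ⟨⟨⟨⟨⟨⟨⟨⟨⟨hZl, hAl⟩, h8⟩, hnd⟩, h0⟩, hxor⟩, hAZ⟩, hdec⟩, hwit⟩, hsp⟩ := hok
  refine ⟨⟨q.A, h8, hnd, h0, hAl, fun a ha b hb => hxor a ha b hb, ?_, ?_⟩, ?_⟩
  · intro a ha hz
    rcases hAZ a ha with h | h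
    · exact h
    · exact absurd ((hZ a).mp hz) (by simpa using h)
  · intro v hv
    obtain ⟨a, ha, h⟩ := hdec v (List.mem_range.mpr hv)
    exact ⟨a, ha, (hZ _).mpr h⟩
  intro B hB hBZ hBG v hv
  have hmem := hsp v (List.mem_range.mpr hv)
  refine spanX_mem (P := B) (hBZ 0 ?_) (fun a b => hB a b) ?_ v hmem
  · obtain ⟨a, ha, h⟩ := hdec 0 (List.mem_range.mpr (by omega))
    rw [Nat.zero_xor] at h
    rcases hAZ a ha with e | e
    · exact (hZ 0).mpr (e ▸ h)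
    · exact absurd h (by simpa using e)
  intro a ha
  rcases List.mem_append.mp ha with ha | ha
  · exact hBZ a ((hZ a).mpr ha)
  obtain ⟨p, hp, rfl⟩ := List.mem_map.mp ha
  obtain ⟨⟨⟨hp1, hp2⟩, hp3⟩, hK⟩ := hwit p hp
  refine hBG _ hp1 ⟨p.2, hp2, fun hz => absurd ((hZ _).mp hz) (by simpa using hp3), fun f hf => ?_,
    fun ζ hζ hζ0 f hf => ?_⟩
  all_goals
    obtain ⟨X, hX, hfX⟩ := hF f hf
    have hXK : X ∈ L.filter (fun k => q.Z.all fun x => apM k x == x) := List.mem_filter.mpr ⟨hX, by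
      simp only [List.all_eq_true, beq_iff_eq]
      intro x hx
      rw [← hfX x (hZl x hx)]
      exact hfix f hf x ((hZ x).mpr hx)⟩
  · rw [hfX _ hp2]
    simpa using (hK X hXK).1
  · rw [hfX _ hp2, hfX _ hp1]
    rcases (hK X hXK).2 ζ ((hZ ζ).mp hζ) with e | e
    · exact absurd e hζ0
    · simpa using e

/-- A subset of the four fixed vectors closed under sums is one of five. -/
theorem five_cases {Z : ℕ → Prop} (hZ : ZSub Z) {a b : ℕ} (h : ∀ z, Z z → z ∈ [0, a, b, a ^^^ b]) :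
    ∃ l ∈ [[0], [0, a], [0, b], [0, a ^^^ b], [0, a, b, a ^^^ b]], ∀ z, Z z ↔ z ∈ l := by
  have e1 : a ^^^ (a ^^^ b) = b := by rw [← Nat.xor_assoc, Nat.xor_self, Nat.zero_xor]
  have e2 : b ^^^ (a ^^^ b) = a := by rw [Nat.xor_comm a b, ← Nat.xor_assoc, Nat.xor_self, Nat.zero_xor]
  by_cases ha : Z a <;> by_cases hb : Z b <;> by_cases hc : Z (a ^^^ b)
  all_goals simp only [List.mem_cons, List.not_mem_nil, or_false] at h
  · refine ⟨[0, a, b, a ^^^ b], by simp, fun z => ⟨fun hz => by simpa using h z hz, ?_⟩⟩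
    simp only [List.mem_cons, List.not_mem_nil, or_false]
    rintro (rfl | rfl | rfl | rfl)
    exacts [hZ.zero, ha, hb, hc]
  · exact absurd (hZ.xor a b ha hb) hc
  · exact absurd (e1 ▸ hZ.xor a _ ha hc) hb
  · refine ⟨[0, a], by simp, fun z => ⟨fun hz => ?_, ?_⟩⟩
    · rcases h z hz with rfl | rfl | rfl | rfl
      exacts [by simp, by simp, absurd hz hb, absurd hz hc]
    · simp only [List.mem_cons, List.not_mem_nil, or_false]
      rintro (rfl | rfl)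
      exacts [hZ.zero, ha]
  · exact absurd (e2 ▸ hZ.xor b _ hb hc) ha
  · refine ⟨[0, b], by simp, fun z => ⟨fun hz => ?_, ?_⟩⟩
    · rcases h z hz with rfl | rfl | rfl | rfl
      exacts [by simp, absurd hz ha, by simp, absurd hz hc]
    · simp only [List.mem_cons, List.not_mem_nil, or_false]
      rintro (rfl | rfl)
      exacts [hZ.zero, hb]
  · refine ⟨[0, a ^^^ b], by simp, fun z => ⟨fun hz => ?_, ?_⟩⟩
    · rcases h z hz with rfl | rfl | rfl | rfl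
      exacts [by simp, absurd hz ha, absurd hz hb, by simp]
    · simp only [List.mem_cons, List.not_mem_nil, or_false]
      rintro (rfl | rfl)
      exacts [hZ.zero, hc]
  · refine ⟨[0], by simp, fun z => ⟨fun hz => ?_, ?_⟩⟩
    · rcases h z hz with rfl | rfl | rfl | rfl
      exacts [by simp, absurd hz ha, absurd hz hb, absurd hz hc]
    · simp only [List.mem_cons, List.not_mem_nil, or_false]
      rintro rfl
      exact hZ.zero

end CfsgM24Q
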