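import Cfsg.Agent.Lib.M24Quot.Rep
import Cfsg.Agent.Lib.M24Quot.Nice
import Cfsg.Agent.Lib.M24Quot.LinClose
import Cfsg.Agent.Lib.M24Quot.LinChecks0
import Cfsg.Agent.Lib.M24Quot.LinChecks1
import Cfsg.Agent.Lib.Fi24Three.Frobenius

/-!
In every linear group with the given Sylow 2-subgroup, a subgroup with an element of odd order fixing a subspace
has a complement to it and good vectors spanning everything.
-/

set_option autoImplicit false
set_option maxRecDepth 4000
set_option linter.unusedSectionVars false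

namespace CfsgM24Q

open Cfsg CfsgLib CfsgLib.InvolutionDihedralEight

namespace Rep

variable {H : Type*} [Group H] (R : Rep H)

/-- The conclusion for all subgroups. -/
def Good : Prop :=
  ∀ K : Subgroup H, ∀ c ∈ K, Odd (orderOf c) → c ≠ 1 → ∀ Z : ℕ → Prop, ZSub Z →
    (∀ k ∈ K, ∀ z, Z z → R.act k z = z) → Nice (R.act '' (K : Set H)) Z

theorem map_good {m mi : List ℕ} {hm : mapOK m mi = true} {u1 u2 : H}
    {h1 : mulM (mulM m (R.mat u1)) mi = mT1} {h2 : mulM (mulM m (R.mat u2)) mi = mT2}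
    (h : (R.map m mi hm u1 u2 h1 h2).Good) : R.Good := by
  obtain ⟨hm1, hm2, -, -, e1, e2, -⟩ := mapOK_iff hm
  intro K c hc hodd hc1 Z hZ hfix
  refine Nice.of_map (lin_apM hm1) (lin_apM hm2) e1 e2
    (F' := (R.map m mi hm u1 u2 h1 h2).act '' (K : Set H)) (Z' := fun w => w < 64 ∧ Z (apM mi w)) ?_ ?_ ?_ hZ.lt
    (fun z hz => hz.1) (h K c hc hodd hc1 _ ⟨⟨by omega, by rw [(lin_apM hm2).zero]; exact hZ.zero⟩, fun z hz => hz.1,
      fun a b ha hb => ⟨xor_lt64 ha.1 hb.1, by rw [apM_add]; exact hZ.xor _ _ ha.2 hb.2⟩⟩ ?_)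
  · rintro _ ⟨k, hk, rfl⟩
    refine ⟨_, ⟨k, hk, rfl⟩, fun v hv => ?_⟩
    show apM m (R.act k (apM mi (apM m v))) = apM m (R.act k v)
    rw [e2 v hv]
  · rintro _ ⟨k, -, rfl⟩ v hv
    exact (R.lin k).lt v hv
  · intro v hv
    show (apM m v < 64 ∧ Z (apM mi (apM m v))) ↔ Z v
    rw [e2 v hv]
    exact and_iff_right (apM_lt hm1 v)
  · intro k hk z hz
    show apM m (R.act k (apM mi z)) = z
    rw [hfix k hk _ hz.2, e1 z hz.1]

variable [Finite H]

/-- The first four group. -/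
def E1 : Subgroup H where
  carrier := {h | h = 1 ∨ h = R.z ∨ h = R.t1 ∨ h = R.z * R.t1}
  one_mem' := Or.inl rfl
  mul_mem' := by
    intro a b ha hb
    have key : ∀ h : H, (h = 1 ∨ h = R.z ∨ h = R.t1 ∨ h = R.z * R.t1) ↔ R.mat h ∈ mE1 := by
      intro h
      simp only [mE1, List.mem_cons, List.not_mem_nil, or_false]
      rw [← R.mat_one, ← R.mat_z, ← R.mat_t1, ← R.mat_mul]
      exact ⟨fun e => by rcases e with rfl | rfl | rfl | rfl <;> simp,
        fun e => e.imp R.mat_inj (Or.imp R.mat_inj (Or.imp R.mat_inj R.mat_inj))⟩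
    have h : ∀ X ∈ mE1, ∀ Y ∈ mE1, mulM X Y ∈ mE1 := by decide +kernel
    exact (key _).mpr (R.mat_mul a b ▸ h _ ((key a).mp ha) _ ((key b).mp hb))
  inv_mem' := by
    intro a ha
    have e : a⁻¹ = a := inv_eq_of_mul_eq_one_right (R.mat_inj (by
      rcases ha with rfl | rfl | rfl | rfl
      · rw [mul_one]
      · rw [R.z_sq]
      · rw [R.t1_sq]
      · rw [R.mat_mul, R.mat_u, R.mat_one]; decide +kernel))
    rw [e]
    exact ha

theorem mem_E1 (h : H) : h ∈ R.E1 ↔ R.mat h ∈ mE1 := by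
  show (h = 1 ∨ h = R.z ∨ h = R.t1 ∨ h = R.z * R.t1) ↔ _
  simp only [mE1, List.mem_cons, List.not_mem_nil, or_false]
  rw [← R.mat_one, ← R.mat_z, ← R.mat_t1, ← R.mat_mul]
  exact ⟨fun e => by rcases e with rfl | rfl | rfl | rfl <;> simp,
    fun e => e.imp R.mat_inj (Or.imp R.mat_inj (Or.imp R.mat_inj R.mat_inj))⟩

theorem card_E1 : Nat.card R.E1 = 4 := by
  have e : R.E1 ≃ {X // X ∈ mE1} := Equiv.ofBijective (fun x => ⟨R.mat x, (R.mem_E1 _).mp x.2⟩)
    ⟨fun x y hxy => Subtype.ext (R.mat_inj (congrArg Subtype.val hxy)), fun X => by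
      have hX := X.2
      simp only [mE1, List.mem_cons, List.not_mem_nil, or_false] at hX
      rcases hX with e | e | e | e
      exacts [⟨⟨1, Or.inl rfl⟩, Subtype.ext (R.mat_one.trans e.symm)⟩,
        ⟨⟨R.z, Or.inr (Or.inl rfl)⟩, Subtype.ext (R.mat_z.trans e.symm)⟩,
        ⟨⟨R.t1, Or.inr (Or.inr (Or.inl rfl))⟩, Subtype.ext (R.mat_t1.trans e.symm)⟩,
        ⟨⟨R.z * R.t1, Or.inr (Or.inr (Or.inr rfl))⟩, Subtype.ext ((R.mat_mul _ _).trans (by rw [R.mat_z, R.mat_t1, e]))⟩]⟩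
  rw [Nat.card_congr e, Nat.card_eq_fintype_card, Fintype.card_of_subtype mE1.toFinset (by simp)]
  decide +kernel

theorem sq_E1 {h : H} (hh : h ∈ R.E1) : h * h = 1 := by
  refine R.mat_inj ?_
  have k : ∀ X ∈ mE1, mulM X X = idM := by decide +kernel
  rw [R.mat_mul, R.mat_one, k _ ((R.mem_E1 h).mp hh)]

theorem klein_E1 : IsKleinFour R.E1 where
  card_four := R.card_E1
  exponent_two := by
    haveI : Nontrivial R.E1 := ⟨⟨R.z, Or.inr (Or.inl rfl)⟩, 1, fun e => R.z_ne (congrArg Subtype.val e)⟩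
    refine Monoid.exponent_eq_prime_iff Nat.prime_two |>.mpr fun g hg => orderOf_eq_prime ?_ hg
    exact Subtype.ext (by rw [SubmonoidClass.coe_pow, pow_two, R.sq_E1 g.2, OneMemClass.coe_one])

theorem E1_le : R.E1 ≤ (R.P : Subgroup H) := fun h hh => by
  rw [R.mem_iff]
  have k : ∀ X ∈ mE1, X ∈ mD8 := by decide +kernel
  exact k _ ((R.mem_E1 h).mp hh)

/-- The four groups of the Sylow subgroup. -/
theorem four_cases {U : Subgroup H} (hU : U ≤ (R.P : Subgroup H)) (hK : IsKleinFour U) :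
    U = R.E1 ∨ U = R.flip.E1 := by
  classical
  haveI := hK
  have hsq : ∀ x ∈ U, x * x = 1 := fun x hx => congrArg Subtype.val (IsKleinFour.mul_self (⟨x, hx⟩ : U))
  have hcm : ∀ x ∈ U, ∀ y ∈ U, x * y = y * x := fun x hx y hy => by
    haveI := IsKleinFour.isMulCommutative (G := U)
    exact setLike_mul_comm hx hy
  have hfl : ∀ h, h ∈ R.flip.E1 ↔ mulM (mulM mR (R.mat h)) mR ∈ mE1 := by
    intro h
    rw [R.flip.mem_E1]
    obtain ⟨hl, -, e, -⟩ := mapOK_iff mR_ok
    show matOf (fun v => apM mR (R.act h (apM mR v))) ∈ mE1 ↔ _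
    rw [mat_conj (R.lin h) hl hl e e]
    rfl
  have hdich : U ≤ R.E1 ∨ U ≤ R.flip.E1 := by
    by_contra hcon
    push Not at hcon
    obtain ⟨h1, h2⟩ := hcon
    obtain ⟨a, ha, ha1⟩ := SetLike.not_le_iff_exists.mp h1
    obtain ⟨b, hb, hb2⟩ := SetLike.not_le_iff_exists.mp h2
    have k : ∀ X ∈ mD8, ∀ Y ∈ mD8, mulM X X = idM → mulM Y Y = idM → mulM X Y = mulM Y X →
        X ∈ mE1 ∨ mulM (mulM mR Y) mR ∈ mE1 := by decide +kernel
    have hm : ∀ x ∈ U, mulM (R.mat x) (R.mat x) = idM := fun x hx => by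
      rw [← R.mat_mul, hsq x hx, R.mat_one]
    rcases k _ ((R.mem_iff a).mp (hU ha)) _ ((R.mem_iff b).mp (hU hb)) (hm a ha) (hm b hb)
      (by rw [← R.mat_mul, hcm a ha b hb, R.mat_mul]) with h | h
    · exact ha1 ((R.mem_E1 a).mpr h)
    · exact hb2 ((hfl b).mpr h)
  rcases hdich with h | h
  · exact Or.inl (Subgroup.eq_of_le_of_card_ge h (by rw [R.card_E1, hK.card_four]))
  · exact Or.inr (Subgroup.eq_of_le_of_card_ge h (by rw [R.flip.card_E1, hK.card_four]))

/-- A fusing element of the first four group, normalised up to the transports. -/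
theorem fused_elem (hn : ¬ DihedralFusion.Lacking R.E1) : ∃ t ∈ trsE1, ∃ g : H, R.mat g = t.g := by
  have E := R.eight
  obtain ⟨-, hall, g, hgN, hodd, hgC⟩ := E.fusion_four R.E1_le R.klein_E1 hn
  have hne : g ≠ 1 := fun e => hgC (e ▸ one_mem _)
  have hfix : ∀ a ∈ R.E1, a ≠ 1 → g * a * g⁻¹ ≠ a := by
    intro a ha ha1 e
    obtain ⟨k, hk⟩ := E.conj_mem (hall a ha ha1) (o := g) (mul_inv_eq_iff_eq_mul.mp e)
    rcases k with _ | k
    · exact hne (orderOf_eq_one_iff.mp hk)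
    · obtain ⟨j, hj⟩ := hodd
      rw [hk, pow_succ] at hj
      omega
  set u := R.z * R.t1 with hu
  have hzm : R.z ∈ R.E1 := Or.inr (Or.inl rfl)
  have htm : R.t1 ∈ R.E1 := Or.inr (Or.inr (Or.inl rfl))
  have hum : u ∈ R.E1 := Or.inr (Or.inr (Or.inr rfl))
  have ht1 : R.t1 ≠ 1 := fun e => by
    have := congrArg R.mat e
    rw [R.mat_t1, R.mat_one] at this
    exact absurd this (by decide +kernel)
  have hu1 : u ≠ 1 := fun e => by
    have := congrArg R.mat e
    rw [R.mat_u, R.mat_one] at this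
    exact absurd this (by decide +kernel)
  have hconjmem : ∀ a ∈ R.E1, a ≠ 1 → g * a * g⁻¹ = R.z ∨ g * a * g⁻¹ = R.t1 ∨ g * a * g⁻¹ = u := by
    intro a ha ha1
    rcases (Subgroup.mem_normalizer_iff.mp hgN a).mp ha with e | e | e | e
    · exact absurd (conj_eq_one_iff.mp e) ha1
    exacts [Or.inl e, Or.inr (Or.inl e), Or.inr (Or.inr e)]
  have hzt : u * R.t1 = R.z := by rw [hu, mul_assoc, R.t1_sq, mul_one]
  have htz : R.t1 * R.z = u := (R.z_comm_of_mem R.t1_mem).trans hu.symm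
  have htu : R.t1 * u = R.z := by
    rw [← htz, ← mul_assoc, R.t1_sq, one_mul]
  have huz : u * R.z = R.t1 := by
    rw [← htz, mul_assoc, R.z_sq, mul_one]
  have hmul : ∀ a b : H, g * (a * b) * g⁻¹ = (g * a * g⁻¹) * (g * b * g⁻¹) := fun a b => by group
  -- the element or its inverse permutes the three involutions in the given order
  obtain ⟨f, hfo, f1, f2, f3⟩ : ∃ f : H, Odd (orderOf f) ∧ f * R.z * f⁻¹ = R.t1 ∧ f * R.t1 * f⁻¹ = u ∧
      f * u * f⁻¹ = R.z := by
    rcases hconjmem _ hzm R.z_ne with e | e | e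
    · exact absurd e (hfix _ hzm R.z_ne)
    · rcases hconjmem _ htm ht1 with e' | e' | e'
      · exfalso
        refine hfix _ hum hu1 ?_
        rw [hu, hmul, e, e', htz, hu]
      · exact absurd e' (hfix _ htm ht1)
      · refine ⟨g, hodd, e, e', ?_⟩
        rw [hu, hmul, e, e', htu]
    · rcases hconjmem _ htm ht1 with e' | e' | e'
      · have e'' : g * u * g⁻¹ = R.t1 := by rw [hu, hmul, e, e', huz]
        have hinv : ∀ a b : H, g * a * g⁻¹ = b → g⁻¹ * b * g⁻¹⁻¹ = a := fun a b h => by rw [← h]; group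
        exact ⟨g⁻¹, by rwa [orderOf_inv], hinv _ _ e', hinv _ _ e'', hinv _ _ e⟩
      · exact absurd e' (hfix _ htm ht1)
      · exfalso
        refine hfix _ hum hu1 ?_
        have e'' : g * u * g⁻¹ = 1 := by rw [hu, hmul, e, e', R.sq_E1 hum]
        exact absurd (conj_eq_one_iff.mp e'') hu1
  have fz : f * R.z = R.t1 * f := mul_inv_eq_iff_eq_mul.mp f1
  have ft : f * R.t1 = u * f := mul_inv_eq_iff_eq_mul.mp f2
  have fu : f * u = R.z * f := mul_inv_eq_iff_eq_mul.mp f3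
  -- its cube
  have f3' : f * f * f = 1 := by
    have hd : Odd (orderOf (f * f * f)) := hfo.of_dvd_nat (by
      rw [show f * f * f = f ^ 3 by rw [pow_succ, pow_two]]
      exact orderOf_pow_dvd 3)
    refine R.eq_one_of_comm hd ?_ ?_
    · rw [mul_assoc, fz, ← mul_assoc, mul_assoc f f R.t1, ft, ← mul_assoc, fu, mul_assoc (R.z * f), mul_assoc R.z,
        ← mul_assoc f f f]
    · rw [mul_assoc, ft, ← mul_assoc, mul_assoc f f u, fu, ← mul_assoc, fz, mul_assoc (R.t1 * f), mul_assoc R.t1,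
        ← mul_assoc f f f]
  -- the matrix
  set X := R.mat f with hX
  have hl := R.lin f
  have aZ : ∀ v, v < 64 → R.act f (apM mZ v) = apM mT1 (R.act f v) := fun v hv => by
    rw [← R.act_eq R.mat_z hv, ← R.act_eq R.mat_t1 (hl.lt v hv), ← R.mul _ _ v hv, fz, R.mul _ _ v hv]
  have aT : ∀ v, v < 64 → R.act f (apM mT1 v) = apM mU (R.act f v) := fun v hv => by
    rw [← R.act_eq R.mat_t1 hv, ← R.act_eq R.mat_u (hl.lt v hv), ← R.mul _ _ v hv, ft, R.mul _ _ v hv]
  obtain ⟨e1, e2, e3, e4, e5, e6⟩ := unit_vals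
  have g2 : R.act f 2 = R.act f 1 ^^^ apM mU (R.act f 1) := by
    rw [← aT 1 (by omega), e5, hl.add 1 (by omega) 2 (by omega), ← Nat.xor_assoc, Nat.xor_self, Nat.zero_xor]
  have g4 : R.act f 4 = R.act f 1 ^^^ apM mT1 (R.act f 1) := by
    rw [← aZ 1 (by omega), e6, hl.add 1 (by omega) 4 (by omega), ← Nat.xor_assoc, Nat.xor_self, Nat.zero_xor]
  have g16 : apM mT1 (R.act f 16) = R.act f 16 := by rw [← aZ 16 (by omega), e1]
  have g8 : R.act f 8 = R.act f 16 ^^^ apM mU (R.act f 16) := by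
    rw [← aT 16 (by omega), e3, hl.add 16 (by omega) 8 (by omega), ← Nat.xor_assoc, Nat.xor_self, Nat.zero_xor]
  have g8' : R.act f 8 = R.act f 32 ^^^ apM mT1 (R.act f 32) := by
    rw [← aZ 32 (by omega), e4, hl.add 32 (by omega) 8 (by omega), ← Nat.xor_assoc, Nat.xor_self, Nat.zero_xor]
  have g32 : apM mU (R.act f 32) = R.act f 32 := by rw [← aT 32 (by omega), e2]
  have g8v : R.act f 8 = 8 := by
    have k : ∀ v : Fin 64, apM mT1 v = v → (v : ℕ) ^^^ apM mU v = 0 ∨ (v : ℕ) ^^^ apM mU v = 8 := by decide +kernel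
    rcases k ⟨_, hl.lt 16 (by omega)⟩ g16 with e | e
    · exact absurd ((R.oddMap hfo).inj (by omega) (by omega) ((g8.trans e).trans hl.zero.symm)) (by omega)
    · exact g8.trans e
  have hXtw : X = twX (R.act f 1) (R.act f 16) (R.act f 32) := by
    show [R.act f 1, R.act f 2, R.act f 4, R.act f 8, R.act f 16, R.act f 32] = _
    rw [g2, g4, g8v]
    rfl
  have m16 : R.act f 16 ∈ tw16 := by
    simp only [tw16, vecs, List.mem_filter, List.mem_range, Bool.and_eq_true, Nat.beq_eq]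
    exact ⟨hl.lt 16 (by omega), g16, g8.symm.trans g8v⟩
  have m32 : R.act f 32 ∈ tw32 := by
    simp only [tw32, vecs, List.mem_filter, List.mem_range, Bool.and_eq_true, Nat.beq_eq]
    exact ⟨hl.lt 32 (by omega), g32, g8'.symm.trans g8v⟩
  have htw := twist_ok
  simp only [twistCheck, List.all_eq_true] at htw
  have h := htw (R.act f 1) (List.mem_range.mpr (hl.lt 1 (by omega))) _ m16 _ m32
  rw [← hXtw] at h
  -- the conjugate by the second involution
  set y := R.t2 * f * R.t2 * f with hy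
  have hswap : R.t2 * R.t1 = u * R.t2 ∧ R.t2 * u = R.t1 * R.t2 := by
    constructor <;> refine R.mat_inj ?_ <;>
      simp only [hu, R.mat_mul, R.mat_z, R.mat_t1, R.mat_t2] <;> decide +kernel
  have h2z := R.z_comm_of_mem R.t2_mem
  have hyz : y * R.z = R.z * y := by
    calc y * R.z = R.t2 * f * R.t2 * (f * R.z) := by rw [hy]; group
      _ = R.t2 * f * (R.t2 * R.t1) * f := by rw [fz]; group
      _ = R.t2 * (f * u) * R.t2 * f := by rw [hswap.1]; group
      _ = R.t2 * R.z * f * R.t2 * f := by rw [fu]; group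
      _ = R.z * y := by rw [h2z, hy]; group
  have hyt : y * R.t1 = R.t1 * y := by
    calc y * R.t1 = R.t2 * f * R.t2 * (f * R.t1) := by rw [hy]; group
      _ = R.t2 * f * (R.t2 * u) * f := by rw [ft]; group
      _ = R.t2 * (f * R.t1) * R.t2 * f := by rw [hswap.2]; group
      _ = R.t2 * u * f * R.t2 * f := by rw [ft]; group
      _ = R.t1 * y := by rw [hswap.2, hy]; group
  have hyE : mulM (mulM (mulM mT2 X) mT2) X ∈ mE1 := by
    have e : R.mat y = mulM (mulM (mulM mT2 X) mT2) X := by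
      rw [hy, R.mat_mul, R.mat_mul, R.mat_mul, R.mat_t2]
    rw [← e]
    have k : ∀ Y ∈ mD8, mulM Y mT1 = mulM mT1 Y → Y ∈ mE1 := by decide +kernel
    refine k _ ((R.mem_iff y).mp ?_) (by rw [← R.mat_t1, ← R.mat_mul, ← R.mat_mul, hyt])
    rw [← R.centralizer_z]
    exact Subgroup.mem_centralizer_singleton_iff.mpr hyz
  have hcube : mulM X (mulM X X) = idM := by
    rw [← R.mat_mul, ← R.mat_mul, ← mul_assoc, f3', R.mat_one]
  simp only [twOK, Bool.or_eq_true, Bool.not_eq_true', Bool.and_eq_true, List.any_eq_true] at h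
  rcases h with h | ⟨-, h | ⟨e, he, t, ht, h⟩⟩
  · rw [eqM_iff.mpr hcube] at h; exact absurd h (by simp)
  · rw [memL_iff.mpr hyE] at h; exact absurd h (by simp)
  refine ⟨t, ht, ?_⟩
  obtain ⟨w, hw⟩ : ∃ w, R.mat w = e := by
    simp only [mE1, List.mem_cons, List.not_mem_nil, or_false] at he
    rcases he with rfl | rfl | rfl | rfl
    exacts [⟨1, R.mat_one⟩, ⟨R.z, R.mat_z⟩, ⟨R.t1, R.mat_t1⟩, ⟨R.z * R.t1, R.mat_u⟩]
  exact ⟨f * w, by rw [R.mat_mul, hw]; exact eqM_iff.mp h⟩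

/-- Listed matrices come from elements. -/
theorem realised_in {gens L : List (List ℕ)} {par : List (ℕ × ℕ)} (hgc : genCheck gens L par = true)
    (K : Subgroup H) (hgens : ∀ g ∈ gens, ∃ h ∈ K, R.mat h = g) : ∀ X ∈ L, ∃ h ∈ K, R.mat h = X := by
  simp only [genCheck, List.all_eq_true, List.mem_zipIdx_iff_getElem?, Prod.forall] at hgc
  have key : ∀ (i : ℕ) (X : List ℕ), L[i]? = some X → ∃ h ∈ K, R.mat h = X := by
    intro i
    induction i using Nat.strong_induction_on with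
    | _ i ih =>
      intro X hX
      have h := hgc X i hX
      by_cases hi : i = 0
      · rw [if_pos (by simpa using hi), beq_iff_eq] at h
        exact ⟨1, one_mem _, h ▸ R.mat_one⟩
      · rw [if_neg (by simpa using hi)] at h
        simp only [Bool.and_eq_true, Nat.blt_eq, eqM_iff] at h
        obtain ⟨⟨hp1, hp2⟩, he⟩ := h
        have hiL : i < L.length := (List.getElem?_eq_some_iff.mp hX).1
        obtain ⟨a, haK, ha⟩ := ih _ hp1 _ (List.getElem?_eq_getElem (by omega : _ < L.length))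
        obtain ⟨b, hbK, hb⟩ := hgens _ (List.getElem_mem hp2)
        refine ⟨a * b, mul_mem haK hbK, ?_⟩
        rw [R.mat_mul, ha, hb, he, List.getD_eq_getElem _ _ (by omega : _ < L.length),
          List.getD_eq_getElem _ _ hp2]
  intro X hX
  obtain ⟨i, hi, e⟩ := List.getElem_of_mem hX
  exact key i X (by rw [List.getElem?_eq_getElem hi, e])

theorem realised {gens L : List (List ℕ)} {par : List (ℕ × ℕ)} (hgc : genCheck gens L par = true)
    (hgens : ∀ g ∈ gens, ∃ h, R.mat h = g) : ∀ X ∈ L, ∃ h, R.mat h = X := fun X hX => by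
  obtain ⟨h, -, e⟩ := R.realised_in hgc ⊤ (fun g hg => by
    obtain ⟨h, e⟩ := hgens g hg
    exact ⟨h, Subgroup.mem_top h, e⟩) X hX
  exact ⟨h, e⟩

theorem nodupN_iff : ∀ {l : List ℕ}, nodupN l = true → l.Nodup
  | [], _ => List.nodup_nil
  | a :: l, h => by
    have hm : ∀ (l : List ℕ) (x : ℕ), memN x l = true ↔ x ∈ l := by
      intro l x
      induction l with
      | nil => simp [memN]
      | cons b l ih =>
        cases hb : Nat.beq x b
        · simp [memN, hb, ih, Nat.ne_of_beq_eq_false hb]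
        · simp [memN, hb, Nat.eq_of_beq_eq_true hb]
    cases ha : memN a l <;> simp only [nodupN, ha, cond_true, cond_false] at h
    · exact List.nodup_cons.mpr ⟨fun hm' => by rw [(hm l a).mpr hm'] at ha; exact absurd ha (by simp), nodupN_iff h⟩
    · exact absurd h (by simp)

theorem length_le {L : List (List ℕ)} (hnd : nodupL L = true) (hr : ∀ X ∈ L, ∃ h, R.mat h = X) :
    L.length ≤ Nat.card H := by
  have hL : L.Nodup := (Rep.nodupN_iff hnd).of_map
  choose φ hφ using fun i : Fin L.length => hr (L[(i : ℕ)]) (List.getElem_mem i.2)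
  have := Nat.card_le_card_of_injective φ fun i j e => Fin.ext ((List.Nodup.getElem_inj_iff hL).mp (by
    rw [← hφ i, ← hφ j, e]))
  simpa using this

theorem mats_eq {L : List (List ℕ)} (hnd : nodupL L = true) (hr : ∀ X ∈ L, ∃ h, R.mat h = X)
    (hc : Nat.card H = L.length) : ∀ h, R.mat h ∈ L := by
  have hL : L.Nodup := (Rep.nodupN_iff hnd).of_map
  choose φ hφ using fun i : Fin L.length => hr (L[(i : ℕ)]) (List.getElem_mem i.2)
  have hinj : Function.Injective φ := fun i j e => Fin.ext ((List.Nodup.getElem_inj_iff hL).mp (by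
    rw [← hφ i, ← hφ j, e]))
  intro h
  obtain ⟨i, rfl⟩ := ((Nat.bijective_iff_injective_and_card φ).mpr ⟨hinj, by rw [Nat.card_fin, hc]⟩).2 h
  rw [hφ i]
  exact List.getElem_mem i.2

/-- The conclusion from a listed group. -/
theorem good_of_list {d : GData} (hok : d.ok repE1 = true) {g : H} (hg : R.mat g = repE1)
    (hL : ∀ h, R.mat h ∈ d.L) (hr : ∀ X ∈ d.L, ∃ h, R.mat h = X) : R.Good := by
  simp only [GData.ok, Bool.and_eq_true, beq_iff_eq] at hok
  obtain ⟨⟨⟨⟨⟨⟨⟨-, hconj⟩, hW4⟩, hfixL⟩, hW0⟩, hWx⟩, hZs⟩, hall⟩ := hok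
  rw [List.all_eq_true] at hall
  obtain ⟨a, b, hW⟩ : ∃ a b, d.W = [0, a, b, a ^^^ b] := by
    obtain ⟨w0, w1, w2, w3, e⟩ : ∃ w0 w1 w2 w3, d.W = [w0, w1, w2, w3] := by
      match hw : d.W, hW4 with
      | [w0, w1, w2, w3], _ => exact ⟨w0, w1, w2, w3, rfl⟩
    rw [e] at hW0 hWx
    simp [List.getD] at hW0 hWx
    exact ⟨w1, w2, by rw [e, hW0, hWx]⟩
  have hlist : ∀ (F : Set (ℕ → ℕ)) (Z : ℕ → Prop), (∀ f ∈ F, ∃ X ∈ d.L, ∀ v, v < 64 → f v = apM X v) →
      (∀ f ∈ F, ∀ z, Z z → f z = z) → ∀ l ∈ [[0], [0, a], [0, b], [0, a ^^^ b], [0, a, b, a ^^^ b]],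
      (∀ z, Z z ↔ z ∈ l) → Nice F Z := by
    intro F Z hF hfix l hl hZl
    have hl' : l ∈ d.zws.map fun q => q.Z := by
      rw [hZs, hW]
      simpa [List.getD] using hl
    obtain ⟨q, hq, rfl⟩ := List.mem_map.mp hl'
    exact ZW.nice (hall q hq) hF hfix hZl
  have hg3 : g * g * g = 1 := R.mat_inj (by
    rw [R.mat_mul, R.mat_mul, hg, R.mat_one]
    decide +kernel)
  intro K c hcK hodd hc1 Z hZ hfix
  have hF : ∀ k : H, ∃ X ∈ d.L, ∀ v, v < 64 → R.act k v = apM X v := fun k =>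
    ⟨R.mat k, hL k, fun v hv => R.act_eq rfl hv⟩
  simp only [conjCheck, List.all_eq_true, Bool.or_eq_true, List.any_eq_true, eqM_iff] at hconj
  rcases hconj _ (hL c) with (h8 | hno) | ⟨X, hX, hX'⟩
  · exfalso
    refine hc1 ?_
    have e : c ^ 8 = 1 := R.mat_inj (by
      rw [show c ^ 8 = c * c * (c * c) * (c * c * (c * c)) by simp only [pow_succ, pow_zero, one_mul, mul_assoc], R.mat_mul, R.mat_mul, R.mat_mul, R.mat_one]
      exact h8)
    exact orderOf_eq_one_iff.mp (Nat.eq_one_of_dvd_coprimes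
      ((Nat.coprime_two_right.mpr hodd).pow_right 3) dvd_rfl (orderOf_dvd_of_pow_eq_one e))
  · -- no fixed vector
    refine hlist _ Z (fun f ⟨k, _, e⟩ => e ▸ hF k) (fun f ⟨k, hk, e⟩ => e ▸ hfix k hk) [0] (by simp) fun z =>
      ⟨fun hz => ?_, fun hz => ?_⟩
    · simp only [noFix, List.all_eq_true, vecs, List.mem_range] at hno
      have h := hno z (hZ.lt z hz)
      rw [show Nat.beq (apM (R.mat c) z) z = true by
        rw [← R.act_eq rfl (hZ.lt z hz), hfix c hcK z hz, Nat.beq_eq]] at h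
      simpa using h
    · simp only [List.mem_cons, List.not_mem_nil, or_false] at hz
      exact hz ▸ hZ.zero
  obtain ⟨p, rfl⟩ := hr X hX
  -- moved to the fixed space of the representative
  set Z' : ℕ → Prop := fun w => w < 64 ∧ Z (R.act p⁻¹ w) with hZ'
  have hgfix : ∀ w, Z' w → R.act g w = w := by
    rintro w ⟨hw, hz⟩
    have hw' := (R.lin p⁻¹).lt w hw
    have hcw := hfix c hcK _ hz
    have h1 : R.act p (R.act p⁻¹ w) = w := (R.act_inv p hw).2
    rcases hX' with e | e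
    · have e' : p * c = g * p := R.mat_inj (by rw [R.mat_mul, R.mat_mul, hg]; exact e)
      have := R.mul p c _ hw'
      rw [e', R.mul g p _ hw', h1, hcw, h1] at this
      exact this
    · have e' : p * c = g * g * p := R.mat_inj (by rw [R.mat_mul, R.mat_mul, R.mat_mul, hg]; exact e)
      have := R.mul p c _ hw'
      rw [e', R.mul _ p _ hw', h1, hcw, h1, R.mul g g w hw] at this
      have ho : Odd (orderOf g) := (show Odd 3 by decide).of_dvd_nat
        (orderOf_dvd_of_pow_eq_one (by rw [show g ^ 3 = g * g * g by rw [pow_succ, pow_two], hg3]))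
      exact (R.oddMap ho).fix_of_sq hw this
  have hsub : ZSub Z' := ⟨⟨by omega, by rw [(R.lin _).zero]; exact hZ.zero⟩, fun z hz => hz.1,
    fun x y hx hy => ⟨xor_lt64 hx.1 hy.1, by rw [(R.lin _).add x hx.1 y hy.1]; exact hZ.xor _ _ hx.2 hy.2⟩⟩
  obtain ⟨l, hl, hZl⟩ := five_cases hsub (a := a) (b := b) fun z hz => by
    rw [← hW, ← hfixL]
    simp only [fixL, vecs, List.mem_filter, List.mem_range, Nat.beq_eq]
    exact ⟨hz.1, by rw [← R.act_eq hg hz.1]; exact hgfix z hz⟩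
  refine Nice.of_map (R.lin p) (R.lin p⁻¹) (fun v hv => (R.act_inv p hv).2) (fun v hv => (R.act_inv p hv).1)
    (F' := (fun k => R.act (p * k * p⁻¹)) '' (K : Set H)) (Z' := Z') ?_ ?_ ?_ hZ.lt (fun z hz => hz.1)
    (hlist _ Z' (fun f ⟨k, _, e⟩ => e ▸ hF _) ?_ l hl hZl)
  · rintro _ ⟨k, hk, rfl⟩
    refine ⟨_, ⟨k, hk, rfl⟩, fun v hv => ?_⟩
    show R.act (p * k * p⁻¹) (R.act p v) = R.act p (R.act k v)
    rw [← R.mul _ _ v hv, ← R.mul _ _ v hv, inv_mul_cancel_right]
  · rintro _ ⟨k, -, rfl⟩ v hv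
    exact (R.lin k).lt v hv
  · intro v hv
    show (R.act p v < 64 ∧ Z (R.act p⁻¹ (R.act p v))) ↔ Z v
    rw [(R.act_inv p hv).1]
    exact and_iff_right ((R.lin p).lt v hv)
  · rintro _ ⟨k, hk, rfl⟩ z ⟨hz, hzZ⟩
    show R.act (p * k * p⁻¹) z = z
    rw [R.mul _ _ z hz, R.mul _ _ _ ((R.lin _).lt z hz), hfix k hk _ hzZ, (R.act_inv p hz).2]

include R in
/-- There is no configuration of the symmetric group of degree five. -/
theorem no_five {q t c : H} (hq4 : q * q * (q * q) = 1) (hq2 : q * q ≠ 1) (ht : t * t = 1) (ht1 : t ≠ 1)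
    (htq : t * q * t * q = 1) (hodd : Odd (orderOf c)) (hc1 : c ≠ 1) (hct : c * t = t * c)
    (hcq : q * q * c * (q * q) * c = 1) : False := by
  haveI : Fact (Nat.Prime 2) := ⟨Nat.prime_two⟩
  have hpow : q ^ 2 ^ 2 = 1 := by rw [show (2 : ℕ) ^ 2 = 2 + 2 from rfl, pow_add, pow_two, hq4]
  obtain ⟨Q, hQ⟩ := (IsPGroup.of_bot (G := H) (p := 2)).exists_le_sylow
  obtain ⟨g, hg⟩ := DihedralFusion.exists_conj_le (S := R.P) (T := Subgroup.zpowers q) (fun x => by
    obtain ⟨n, hn⟩ := Subgroup.mem_zpowers_iff.mp x.2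
    refine ⟨2, Subtype.ext ?_⟩
    rw [SubmonoidClass.coe_pow, OneMemClass.coe_one, ← hn, ← zpow_natCast (q ^ n), ← zpow_mul, mul_comm n, zpow_mul,
      zpow_natCast, hpow, one_zpow])
  set σ := MulAut.conj g with hσ
  set q' := σ q
  set t' := σ t
  set c' := σ c
  have hqP : q' ∈ (R.P : Subgroup H) := hg ⟨q, Subgroup.mem_zpowers q, rfl⟩
  have a1 : t' * t' = 1 := by rw [← map_mul, ht, map_one]
  have a2 : t' * q' * t' * q' = 1 := by rw [← map_mul, ← map_mul, ← map_mul, htq, map_one]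
  have a3 : c' * t' = t' * c' := by rw [← map_mul, hct, map_mul]
  have a4 : q' * q' * c' * (q' * q') * c' = 1 := by
    rw [← map_mul, ← map_mul, ← map_mul, ← map_mul, hcq, map_one]
  have ho : Odd (orderOf c') := by rwa [MulEquiv.orderOf_eq]
  have hc' : c' ≠ 1 := fun e => hc1 (σ.injective (e.trans (map_one σ).symm))
  have hq'2 : q' * q' ≠ 1 := fun e => hq2 (σ.injective (by rw [map_mul, map_one]; exact e))
  have hqz : q' * q' = R.z := by
    refine R.mat_inj ?_
    have k : ∀ X ∈ mD8, mulM X X ≠ idM → mulM X X = mZ := by decide +kernel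
    rw [R.mat_z, R.mat_mul]
    refine k _ ((R.mem_iff q').mp hqP) fun e => hq'2 (R.mat_inj ?_)
    rw [R.mat_mul, R.mat_one, e]
  have hti : t'⁻¹ = t' := inv_eq_of_mul_eq_one_right a1
  have htz : t' * R.z * t'⁻¹ = R.z := by
    have e : t' * q' * t'⁻¹ = q'⁻¹ := by rw [hti]; exact eq_inv_of_mul_eq_one_left a2
    rw [← hqz, show t' * (q' * q') * t'⁻¹ = (t' * q' * t'⁻¹) * (t' * q' * t'⁻¹) by group, e, ← mul_inv_rev,
      hqz, inv_eq_of_mul_eq_one_right R.z_sq]
  have htP : t' ∈ (R.P : Subgroup H) := by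
    rw [← R.centralizer_z]
    exact Subgroup.mem_centralizer_singleton_iff.mpr (mul_inv_eq_iff_eq_mul.mp htz)
  have ht'1 : t' ≠ 1 := fun e => ht1 (σ.injective (e.trans (map_one σ).symm))
  have ht'z : t' ≠ R.z := fun e => by
    refine hq'2 ?_
    have h1 := R.z_comm_of_mem hqP
    rw [e, ← h1, mul_assoc q', R.z_sq, mul_one] at a2
    exact a2
  have k : ∀ X ∈ mD8, mulM X X = idM → X ≠ idM → X ≠ mZ →
      X = mT1 ∨ X = mulM mZ mT1 ∨ X = mT2 ∨ X = mulM mZ mT2 := by decide +kernel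
  rw [hqz] at a4
  rcases k _ ((R.mem_iff t').mp htP) (by rw [← R.mat_mul, a1, R.mat_one])
    (fun e => ht'1 (R.mat_inj (e.trans R.mat_one.symm))) (fun e => ht'z (R.mat_inj (e.trans R.mat_z.symm)))
    with e | e | e | e
  · have : t' = R.t1 := R.mat_inj (e.trans R.mat_t1.symm)
    exact hc' (R.eq_one_of_inv ho a4 (Or.inl (this ▸ a3)))
  · have : t' = R.z * R.t1 := R.mat_inj (e.trans (by rw [R.mat_mul, R.mat_z, R.mat_t1]))
    exact hc' (R.eq_one_of_inv ho a4 (Or.inr (this ▸ a3)))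
  · have : t' = R.t2 := R.mat_inj (e.trans R.mat_t2.symm)
    exact hc' (R.flip.eq_one_of_inv ho (by rw [R.flip_z]; exact a4) (Or.inl (by rw [flip_t1, ← this]; exact a3)))
  · have : t' = R.z * R.t2 := R.mat_inj (e.trans (by rw [R.mat_mul, R.mat_z, R.mat_t2]))
    exact hc' (R.flip.eq_one_of_inv ho (by rw [R.flip_z]; exact a4) (Or.inr (by rw [R.flip_z, flip_t1, ← this]; exact a3)))

theorem card_twenty_four (h0 : ¬ DihedralFusion.Lacking R.E1) (h1 : DihedralFusion.Lacking R.flip.E1) :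
    Nat.card H = 24 := by
  rcases R.eight.mixed R.E1_le R.klein_E1 h0 (fun x hx => R.flip.E1_le hx) R.flip.klein_E1 h1 with ⟨⟨φ⟩⟩ | ⟨⟨φ⟩⟩
  · rw [Nat.card_congr φ.toEquiv, Nat.card_perm, Nat.card_fin]
    rfl
  · exfalso
    let σ : Equiv.Perm (Fin 5) := [(0 : Fin 5), 3, 1, 4].formPerm
    let τ : Equiv.Perm (Fin 5) := Equiv.swap 0 1
    let γ : Equiv.Perm (Fin 5) := Equiv.swap 2 3 * Equiv.swap 3 4
    have k : σ * σ * (σ * σ) = 1 ∧ σ * σ ≠ 1 ∧ τ * τ = 1 ∧ τ ≠ 1 ∧ τ * σ * τ * σ = 1 ∧ γ * γ * γ = 1 ∧ γ ≠ 1 ∧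
        γ * τ = τ * γ ∧ σ * σ * γ * (σ * σ) * γ = 1 := by decide +kernel
    obtain ⟨k1, k2, k3, k4, k5, k6, k7, k8, k9⟩ := k
    refine R.no_five (q := φ.symm σ) (t := φ.symm τ) (c := φ.symm γ) ?_ ?_ ?_ ?_ ?_ ?_ ?_ ?_ ?_
    · rw [← map_mul, ← map_mul, k1, map_one]
    · rw [← map_mul, ← map_one φ.symm]; exact fun e => k2 (φ.symm.injective e)
    · rw [← map_mul, k3, map_one]
    · rw [← map_one φ.symm]; exact fun e => k4 (φ.symm.injective e)
    · rw [← map_mul, ← map_mul, ← map_mul, k5, map_one]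
    · exact (show Odd 3 by decide).of_dvd_nat (orderOf_dvd_of_pow_eq_one (by
        rw [show φ.symm γ ^ 3 = φ.symm γ * φ.symm γ * φ.symm γ by rw [pow_succ, pow_two], ← map_mul, ← map_mul, k6, map_one]))
    · rw [← map_one φ.symm]; exact fun e => k7 (φ.symm.injective e)
    · rw [← map_mul, k8, map_mul]
    · rw [← map_mul, ← map_mul, ← map_mul, ← map_mul, k9, map_one]

/-- Two fused four groups. -/
theorem card_both (h0 : ¬ DihedralFusion.Lacking R.E1) (h1 : ¬ DihedralFusion.Lacking R.flip.E1) :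
    Nat.card H = 168 ∨ Nat.card H = 360 := by
  rcases R.eight.one_class (fun U hU hK => by
    rcases R.four_cases hU hK with rfl | rfl <;> assumption) R.oddCore_bot with ⟨⟨φ⟩⟩ | ⟨⟨φ⟩⟩
  · exact Or.inl (by rw [Nat.card_congr φ.toEquiv, CfsgLib.Fi24Three.card_SL32])
  · exact Or.inr (by rw [Nat.card_congr φ.toEquiv, nat_card_alternatingGroup, Nat.card_fin]; rfl)

/-- The order of a group of order 168 inside. -/
theorem card_of_closed {gens L : List (List ℕ)} {par : List (ℕ × ℕ)} (hgc : genCheck gens L par = true)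
    (hnd : nodupL L = true) (hlen : L.length = 168) (hcl : closeCheck gens L = true)
    (hgens : ∀ g ∈ gens, ∃ h, R.mat h = g) (hc : Nat.card H = 168 ∨ Nat.card H = 360) : Nat.card H = 168 := by
  rcases hc with hc | hc
  · exact hc
  exfalso
  let S : Set H := {h | R.mat h ∈ gens}
  let K : Subgroup H := Subgroup.closure S
  simp only [closeCheck, List.all_eq_true, memL_iff] at hcl
  have h0 : idM ∈ L := by
    simp only [genCheck, List.all_eq_true, List.mem_zipIdx_iff_getElem?, Prod.forall] at hgc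
    have h := hgc _ 0 (List.getElem?_eq_getElem (by omega : 0 < L.length))
    rw [if_pos (by simp), beq_iff_eq] at h
    exact h ▸ List.getElem_mem _
  have hsub : ∀ k ∈ K, R.mat k ∈ L := by
    intro k hk
    have hmem : k ∈ Submonoid.closure S := by rwa [← Subgroup.closure_toSubmonoid_of_finite]
    induction hmem using Submonoid.closure_induction_right with
    | one => rw [R.mat_one]; exact h0
    | mul_right x hx y hy ih =>
      rw [R.mat_mul]
      exact hcl _ hy _ (ih (by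
        show x ∈ K
        rw [← Subgroup.mem_toSubmonoid, Subgroup.closure_toSubmonoid_of_finite]
        exact hx))
  have hr : ∀ X ∈ L, ∃ h ∈ K, R.mat h = X := R.realised_in hgc K fun g hg => by
    obtain ⟨h, hh⟩ := hgens g hg
    exact ⟨h, Subgroup.subset_closure (show R.mat h ∈ gens by rw [hh]; exact hg), hh⟩
  have hL : L.Nodup := (Rep.nodupN_iff hnd).of_map
  have e : ↥K ≃ {X // X ∈ L} := Equiv.ofBijective (fun k => ⟨R.mat k, hsub k k.2⟩)
    ⟨fun x y h => Subtype.ext (R.mat_inj (congrArg Subtype.val h)), fun X => by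
      obtain ⟨h, hh, e⟩ := hr X X.2
      exact ⟨⟨h, hh⟩, Subtype.ext e⟩⟩
  have hK : Nat.card K = 168 := by
    rw [Nat.card_congr e, Nat.card_eq_fintype_card, Fintype.card_of_subtype L.toFinset (by simp),
      List.toFinset_card_of_nodup hL, hlen]
  have hd := Subgroup.card_subgroup_dvd_card K
  rw [hK, hc] at hd
  exact absurd hd (by norm_num)

/-- The case of a fused first four group. -/
theorem good_of_fused (hn : ¬ DihedralFusion.Lacking R.E1) : R.Good := by
  obtain ⟨t, ht, g, hg⟩ := R.fused_elem hn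
  have hok := trsE1_ok
  simp only [List.all_eq_true] at hok
  have hmok : ∀ s ∈ trsE1, mapOK s.m s.mi = true := by decide +kernel
  have hto := hok t ht
  simp only [Tr.ok, Bool.and_eq_true, List.all_cons, List.all_nil, Bool.and_true, beq_iff_eq, List.all_eq_true,
    Nat.blt_eq, memL_iff] at hto
  obtain ⟨⟨⟨-, hc1, hc2⟩, he⟩, hrep⟩ := hto
  have hT : ∀ s ∈ trsE1, mulM (mulM s.m mT1) s.mi = mT1 ∧ mulM (mulM s.m mT2) s.mi = mT2 := by decide +kernel
  refine R.map_good (hm := hmok t ht) (u1 := R.t1) (u2 := R.t2) (h1 := R.mat_t1 ▸ (hT t ht).1)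
    (h2 := R.mat_t2 ▸ (hT t ht).2) ?_
  set R' := R.map t.m t.mi (hmok t ht) R.t1 R.t2 (R.mat_t1 ▸ (hT t ht).1) (R.mat_t2 ▸ (hT t ht).2)
  obtain ⟨w, -, hw⟩ : ∃ w ∈ R'.E1, R'.mat w = t.e := by
    simp only [mE1, List.mem_cons, List.not_mem_nil, or_false] at he
    rcases he with e | e | e | e <;> rw [e]
    exacts [⟨1, one_mem _, R'.mat_one⟩, ⟨R'.z, Or.inr (Or.inl rfl), R'.mat_z⟩,
      ⟨R'.t1, Or.inr (Or.inr (Or.inl rfl)), R'.mat_t1⟩, ⟨R'.z * R'.t1, Or.inr (Or.inr (Or.inr rfl)), R'.mat_u⟩]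
  have hg' : R'.mat (g * w) = repE1 := by
    rw [R'.mat_mul, hw, ← hrep, ← hg]
    obtain ⟨hl1, hl2, e1, e2, -⟩ := mapOK_iff (hmok t ht)
    show mulM (matOf (fun v => apM t.m (R.act g (apM t.mi v)))) t.e = _
    rw [mat_conj (R.lin g) hl1 hl2 e1 e2]
    rfl
  have hn' : ¬ DihedralFusion.Lacking R'.E1 := hn
  by_cases h2 : DihedralFusion.Lacking R'.flip.E1
  · have hc := R'.card_twenty_four hn' h2
    have hok' := gdE1_ok
    simp only [GData.ok, Bool.and_eq_true] at hok'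
    have hr := R'.realised hok'.1.1.1.1.1.1.1.1 (fun x hx => by
      rw [gd_gens.1] at hx
      simp only [List.mem_cons, List.not_mem_nil, or_false] at hx
      rcases hx with rfl | rfl | rfl
      exacts [⟨_, R'.mat_t1⟩, ⟨_, R'.mat_t2⟩, ⟨_, hg'⟩])
    exact R'.good_of_list gdE1_ok hg' (R'.mats_eq hok'.1.1.1.1.1.1.1.2 hr (by rw [hc, gd_lengths.1])) hr
  have hc := R'.card_both hn' h2
  obtain ⟨t', ht', g', hg2⟩ := R'.flip.fused_elem h2
  have hh : R'.mat g' = mulM (mulM mR t'.g) mR := by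
    obtain ⟨hl, -, e, -, hv, -⟩ := mapOK_iff mR_ok
    rw [← hg2]
    show matOf (R'.act g') = mulM (mulM mR (matOf (R'.flip.act g'))) mR
    rw [← mat_conj (R'.flip.lin g') hl hl e e]
    refine matOf_congr fun v hv' => ?_
    rw [R'.flip_act, hv v hv', hv _ ((R'.lin g').lt v hv')]
  have hmem : mulM (mulM mR t'.g) mR ∈ reps2 := by
    rw [← reps2_eq]; exact List.mem_map.mpr ⟨t', ht', rfl⟩
  rw [← hh] at hmem
  have hgens : ∀ x, R'.mat g' = x → ∀ y ∈ [mT1, mT2, repE1, x], ∃ h, R'.mat h = y := by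
    intro x hx y hy
    simp only [List.mem_cons, List.not_mem_nil, or_false] at hy
    rcases hy with rfl | rfl | rfl | rfl
    exacts [⟨_, R'.mat_t1⟩, ⟨_, R'.mat_t2⟩, ⟨_, hg'⟩, ⟨_, hx⟩]
  have hsmall : ∀ d : GData, d.ok repE1 = true → d.L.length = 168 → closeCheck d.gens d.L = true →
      ∀ x, d.gens = [mT1, mT2, repE1, x] → R'.mat g' = x → R'.Good := by
    intro d hd hlen hcl x hx e
    have hd' := hd
    simp only [GData.ok, Bool.and_eq_true] at hd'
    have hgd : ∀ y ∈ d.gens, ∃ h, R'.mat h = y := hx ▸ hgens x e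
    have hr := R'.realised hd'.1.1.1.1.1.1.1.1 hgd
    have h168 := R'.card_of_closed hd'.1.1.1.1.1.1.1.1 hd'.1.1.1.1.1.1.1.2 hlen hcl hgd hc
    exact R'.good_of_list hd hg' (R'.mats_eq hd'.1.1.1.1.1.1.1.2 hr (by rw [h168, hlen])) hr
  have hbig : ∀ (x : List ℕ) (L : List (List ℕ)) (P : List (ℕ × ℕ)),
      (genCheck [mT1, mT2, repE1, x] L P && nodupL L && Nat.blt 360 L.length) = true →
      R'.mat g' = x → R'.Good := by
    intro x L P h e
    simp only [Bool.and_eq_true, Nat.blt_eq] at h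
    have hr := R'.realised h.1.1 (hgens x e)
    have := R'.length_le h.1.2 hr
    exfalso
    omega
  simp only [reps2, List.mem_cons, List.not_mem_nil, or_false] at hmem
  obtain ⟨-, n0, n1, n4, n7⟩ := gd_lengths
  obtain ⟨-, q0, q1, q4, q7⟩ := gd_gens
  rcases hmem with e | e | e | e | e | e | e | e
  exacts [hsmall _ gdP0_ok n0 gdP0_close _ q0 e, hsmall _ gdP1_ok n1 gdP1_close _ q1 e,
    hbig _ _ _ big2_ok e, hbig _ _ _ big3_ok e, hsmall _ gdP4_ok n4 gdP4_close _ q4 e,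
    hbig _ _ _ big5_ok e, hbig _ _ _ big6_ok e, hsmall _ gdP7_ok n7 gdP7_close _ q7 e]

/-- **The conclusion holds in every such group.** -/
theorem good : R.Good := by
  by_cases h1 : DihedralFusion.Lacking R.E1
  swap
  · exact R.good_of_fused h1
  by_cases h2 : DihedralFusion.Lacking R.flip.E1
  swap
  · exact R.map_good (R.flip.good_of_fused h2)
  intro K c hcK hodd hc1 Z hZ hfix
  exfalso
  refine hc1 (R.eq_one_of_mem hodd ?_)
  haveI : Fact (Nat.Prime 2) := ⟨Nat.prime_two⟩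
  obtain ⟨Q, N, hN, hcp⟩ := DihedralFusion.hasNormalPComplement_of_lacking (S := R.P) R.iso (by norm_num)
    (fun U hU hK => by rcases R.four_cases hU hK with rfl | rfl <;> assumption)
  haveI := hN
  have hNodd : ¬ 2 ∣ Nat.card N := fun hd => Q.not_dvd_index (hcp.index_eq_card ▸ hd)
  have hbot : N = ⊥ := le_bot_iff.mp (R.oddCore_bot ▸ CfsgLib.le_oddCore (Nat.odd_iff.mpr (by omega)))
  have hcard : Nat.card (R.P : Subgroup H) = Nat.card H := by
    rw [← hcp.card_mul, hbot, Subgroup.card_bot, one_mul, R.P.card_eq_multiplicity, Q.card_eq_multiplicity]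
  rw [(Subgroup.card_eq_iff_eq_top _).mp hcard]
  exact Subgroup.mem_top c

end Rep

end CfsgM24Q
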