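import Cfsg.Agent.Lib.M24Quot.Closed
import Cfsg.Agent.Lib.M24Quot.HShape
import Cfsg.Agent.Lib.A8Classes.Master
import Cfsg.Agent.Lib.Transfer
import Cfsg.Agent.S2791

/-!
The normalizer of the abelian subgroup of order 64 covers the whole group modulo the odd core.
-/

set_option autoImplicit false
set_option maxRecDepth 4000
set_option linter.unusedSectionVars false

namespace CfsgM24Q

open Cfsg CfsgLib

/-- The matrix of the conjugation by a code on the small codes. -/
def cjM (g : ℕ) : List ℕ := idM.map fun x => mulC (mulC g x) (invC g)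

theorem cjM_check : (codes.all (fun g => memL (cjM g) mD8) && mD8.all fun X => codes.any fun g => eqM (cjM g) X) =
    true := by decide +kernel

theorem xor_check : ((List.range 64).all fun i => (List.range 64).all fun j => mulC i j == i ^^^ j) = true := by
  decide +kernel

theorem mulC_small {i j : ℕ} (hi : i < 64) (hj : j < 64) : mulC i j = i ^^^ j := by
  have h := xor_check
  simp only [List.all_eq_true, List.mem_range, beq_iff_eq] at h
  exact h i hi j hj

/-- The automorphisms induced by the normalizer. -/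
abbrev AutA {G : Type*} [Group G] (A : Subgroup G) : Subgroup (MulAut A) := A.normalizerMonoidHom.range

/-- The map onto the automorphisms. -/
abbrev homA {G : Type*} [Group G] (A : Subgroup G) : ↥(Subgroup.normalizer (A : Set G)) →* ↥(AutA A) :=
  A.normalizerMonoidHom.rangeRestrict

namespace Cfg

variable {G : Type*} [Group G] [Finite G] {S : Sylow 2 G} {A : Subgroup G} (D : Cfg S A)

include D

theorem mem_iff {x : G} : x ∈ A ↔ ∃ i, i < 64 ∧ D.M.c i = x := by
  conv_lhs => rw [D.hA]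
  exact D.M.mem_subA

theorem sq {a : G} (ha : a ∈ A) : a * a = 1 := D.M.subA_sq a (D.hA ▸ ha)

theorem comm {a b : G} (ha : a ∈ A) (hb : b ∈ A) : a * b = b * a :=
  D.M.subA_comm a (D.hA ▸ ha) b (D.hA ▸ hb)

theorem c_mem {i : ℕ} (hi : i < 64) : D.M.c i ∈ A := D.mem_iff.mpr ⟨i, hi, rfl⟩

theorem c_xor {i j : ℕ} (hi : i < 64) (hj : j < 64) : D.M.c (i ^^^ j) = D.M.c i * D.M.c j := by
  rw [← mulC_small hi hj, D.M.mul i (by omega) j (by omega)]

theorem c_inj {i j : ℕ} (hi : i < 64) (hj : j < 64) (h : D.M.c i = D.M.c j) : i = j :=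
  D.M.inj i (by omega) j (by omega) h

/-- A 2-subgroup of the normalizer is conjugate there into the Sylow subgroup. -/
theorem conj_into {P : Subgroup G} (hP : IsPGroup 2 P) (hle : P ≤ Subgroup.normalizer (A : Set G)) :
    ∃ n ∈ Subgroup.normalizer (A : Set G), ∀ x ∈ P, n * x * n⁻¹ ∈ (S : Subgroup G) := by
  haveI : Fact (Nat.Prime 2) := ⟨Nat.prime_two⟩
  obtain ⟨⟨n, hn⟩, h⟩ := DihedralFusion.exists_conj_le (S := S.subtype D.le_normalizer)
    (T := P.subgroupOf (Subgroup.normalizer (A : Set G))) (hP.comap_subtype)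
  refine ⟨n, hn, fun x hx => ?_⟩
  exact Subgroup.mem_subgroupOf.mp (h ⟨⟨x, hle hx⟩, hx, rfl⟩)

/-- The hypotheses of the factorisation for every subgroup containing `A`. -/
theorem sc {X : Subgroup G} (hA : A ≤ X) : CfsgA8C.SC X A := by
  haveI : Fact (Nat.Prime 2) := ⟨Nat.prime_two⟩
  have hsyl : ∀ P : Subgroup G, A ≤ P → IsPGroup 2 P → P ≤ Subgroup.normalizer (A : Set G) := by
    intro P hAP hP x hx
    obtain ⟨g, hg⟩ := DihedralFusion.exists_conj_le (S := S) (T := P) hP
    have hgA : g ∈ Subgroup.normalizer (A : Set G) := D.mem_normalizer fun a ha => hg ⟨a, hAP ha, rfl⟩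
    have h := D.le_normalizer (hg ⟨x, hx, rfl⟩ : g * x * g⁻¹ ∈ (S : Subgroup G))
    have := mul_mem (mul_mem (inv_mem hgA) h) hgA
    simpa [mul_assoc] using this
  refine ⟨hA, fun a ha => D.sq ha, fun a ha b hb => D.comm ha hb, fun a ha g _ hgN => ?_,
    fun P h1 _ h3 => hsyl P h1 h3, fun c _ hca hc2 => ?_⟩
  · obtain ⟨n, hn, h⟩ := D.conj_into (P := Subgroup.zpowers (g * a * g⁻¹)) (IsPGroup.iff_orderOf.mpr (by
      rintro ⟨x, hx⟩
      obtain ⟨k, rfl⟩ := Subgroup.mem_zpowers_iff.mp hx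
      have h2 : orderOf ((g * a * g⁻¹) ^ k) ∣ 2 := orderOf_dvd_of_pow_eq_one (by
        rw [← zpow_natCast, ← zpow_mul, mul_comm k, zpow_mul, zpow_natCast, conj_pow, pow_two, D.sq ha, mul_one,
          mul_inv_cancel, one_zpow])
      rcases (Nat.dvd_prime Nat.prime_two).mp h2 with e | e
      · exact ⟨0, by rw [Subgroup.orderOf_mk, e]; rfl⟩
      · exact ⟨1, by rw [Subgroup.orderOf_mk, e]; rfl⟩)) (Subgroup.zpowers_le.mpr hgN)
    have h1 := D.closed.2 a ha (n * g) (by
      have := h _ (Subgroup.mem_zpowers _)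
      simpa [mul_assoc] using this)
    refine (Subgroup.mem_normalizer_iff.mp hn _).mpr ?_
    simpa [mul_assoc] using h1
  · obtain ⟨k, hk⟩ := hc2
    have hcN : c ∈ Subgroup.normalizer (A : Set G) := CfsgA8C.mem_normalizer_of_le fun a ha => by
      rw [hca a ha, mul_inv_cancel_right]; exact ha
    obtain ⟨n, hn, h⟩ := D.conj_into (P := Subgroup.zpowers c) (fun x => by
      obtain ⟨x, hx⟩ := x
      obtain ⟨j, rfl⟩ := Subgroup.mem_zpowers_iff.mp hx
      refine ⟨k, Subtype.ext ?_⟩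
      rw [SubmonoidClass.coe_pow, OneMemClass.coe_one, ← zpow_natCast (c ^ j), ← zpow_mul, mul_comm j, zpow_mul,
        zpow_natCast, hk, one_zpow]) (Subgroup.zpowers_le.mpr hcN)
    have h1 : n * c * n⁻¹ ∈ A := by
      rw [D.hA]
      refine D.M.self_cent (h c (Subgroup.mem_zpowers c)) fun a ha => ?_
      rw [← D.hA] at ha
      obtain ⟨b, hb, rfl⟩ : ∃ b ∈ A, n * b * n⁻¹ = a :=
        ⟨n⁻¹ * a * n, (Subgroup.mem_normalizer_iff''.mp hn a).mp ha, by group⟩
      rw [show n * c * n⁻¹ * (n * b * n⁻¹) = n * (c * b) * n⁻¹ by group, hca b hb]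
      group
    exact (Subgroup.mem_normalizer_iff.mp hn c).mpr h1

/-- Fusion inside `A` is controlled by the normalizer. -/
theorem fuse {X : Subgroup G} (hA : A ≤ X) {u g : G} (hu : u ∈ A) (hg : g ∈ X) (hv : g * u * g⁻¹ ∈ A) :
    ∃ n ∈ X ⊓ Subgroup.normalizer (A : Set G), n * u * n⁻¹ = g * u * g⁻¹ := by
  classical
  haveI : Fact (Nat.Prime 2) := ⟨Nat.prime_two⟩
  have hS := D.sc hA
  set Y := X ⊓ Subgroup.centralizer ({u} : Set G) with hY
  have hpA : IsPGroup 2 A := fun a => ⟨1, Subtype.ext (by simpa [pow_two] using D.sq a.2)⟩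
  have hAY : A ≤ Y := fun a ha => ⟨hA ha, Subgroup.mem_centralizer_singleton_iff.mpr (D.comm ha hu)⟩
  set A1 : Subgroup G := A.map (MulAut.conj g⁻¹).toMonoidHom
  have hA1 : A1 ≤ Y := by
    rintro _ ⟨a, ha, rfl⟩
    refine ⟨X.mul_mem (X.mul_mem (X.inv_mem hg) (hA ha)) (X.inv_mem (X.inv_mem hg)),
      Subgroup.mem_centralizer_singleton_iff.mpr ?_⟩
    show g⁻¹ * a * g⁻¹⁻¹ * u = u * (g⁻¹ * a * g⁻¹⁻¹)
    calc g⁻¹ * a * g⁻¹⁻¹ * u = g⁻¹ * (a * (g * u * g⁻¹)) * g := by group
      _ = g⁻¹ * ((g * u * g⁻¹) * a) * g := by rw [D.comm ha hv]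
      _ = _ := by group
  obtain ⟨P, hP⟩ := ((hpA.comap_subtype (K := Y)) : IsPGroup 2 (A.subgroupOf Y)).exists_le_sylow
  obtain ⟨⟨y, hy⟩, h⟩ := DihedralFusion.exists_conj_le (S := P)
    (T := A1.subgroupOf Y) ((hpA.map (MulAut.conj g⁻¹).toMonoidHom).comap_subtype)
  have hPN : (P : Subgroup Y).map Y.subtype ≤ Subgroup.normalizer (A : Set G) :=
    hS.syl _ (fun a ha => ⟨⟨a, hAY ha⟩, hP ha, rfl⟩) ((Subgroup.map_subtype_le _).trans inf_le_left) (P.2.map _)
  have hw : y * g⁻¹ ∈ Subgroup.normalizer (A : Set G) := CfsgA8C.mem_normalizer_of_le fun a ha => by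
    refine hS.closed a ha _ (X.mul_mem hy.1 (X.inv_mem hg)) ?_
    have h1 := h ⟨⟨g⁻¹ * a * g⁻¹⁻¹, hA1 ⟨a, ha, rfl⟩⟩, ⟨a, ha, rfl⟩, rfl⟩
    exact hPN ⟨_, h1, by simp [mul_assoc]⟩
  refine ⟨(y * g⁻¹)⁻¹, ⟨X.inv_mem (X.mul_mem hy.1 (X.inv_mem hg)), Subgroup.inv_mem _ hw⟩, ?_⟩
  have hyu : y * u = u * y := Subgroup.mem_centralizer_singleton_iff.mp hy.2
  calc (y * g⁻¹)⁻¹ * u * (y * g⁻¹)⁻¹⁻¹ = g * (y⁻¹ * (u * y)) * g⁻¹ := by group
    _ = g * u * g⁻¹ := by rw [← hyu, inv_mul_cancel_left]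

/-- The code of an element of `A`. -/
noncomputable def code (a : A) : ℕ := (D.mem_iff.mp a.2).choose

theorem code_lt (a : A) : D.code a < 64 := (D.mem_iff.mp a.2).choose_spec.1

theorem c_code (a : A) : D.M.c (D.code a) = (a : G) := (D.mem_iff.mp a.2).choose_spec.2

/-- The element of `A` with a code. -/
noncomputable def dec (i : ℕ) : A :=
  if h : i < 64 then ⟨D.M.c i, D.c_mem h⟩ else ⟨1, one_mem _⟩

theorem dec_val {i : ℕ} (hi : i < 64) : (D.dec i : G) = D.M.c i := by rw [Cfg.dec, dif_pos hi]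

theorem code_dec {i : ℕ} (hi : i < 64) : D.code (D.dec i) = i :=
  D.c_inj (D.code_lt _) hi (by rw [c_code, dec_val D hi])

theorem dec_code (a : A) : D.dec (D.code a) = a := Subtype.ext (by rw [dec_val D (D.code_lt a), c_code])

theorem dec_xor {i j : ℕ} (hi : i < 64) (hj : j < 64) : D.dec (i ^^^ j) = D.dec i * D.dec j :=
  Subtype.ext (by rw [Subgroup.coe_mul, dec_val D (xor_lt64 hi hj), dec_val D hi, dec_val D hj, D.c_xor hi hj])

/-- The action of an automorphism on the codes. -/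
noncomputable def aut (f : MulAut A) (v : ℕ) : ℕ := D.code (f (D.dec v))

theorem lin_aut (f : MulAut A) : Lin (D.aut f) :=
  ⟨fun _ _ => D.code_lt _, fun u hu v hv => D.c_inj (D.code_lt _) (xor_lt64 (D.code_lt _) (D.code_lt _)) (by
    show D.M.c (D.code _) = D.M.c (D.code _ ^^^ D.code _)
    rw [c_code, D.c_xor (D.code_lt _) (D.code_lt _), c_code, c_code, ← Subgroup.coe_mul, ← map_mul, D.dec_xor hu hv])⟩

theorem finite_aut : Finite (MulAut A) :=
  Finite.of_injective (fun f : MulAut A => (f : A → A)) DFunLike.coe_injective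

theorem mat_hom {n : G} (hn : n ∈ Subgroup.normalizer (A : Set G)) {i : ℕ} (hi : i < 512) (h : D.M.c i = n) :
    matOf (D.aut (((homA A) ⟨n, hn⟩ : ↥(AutA A)) : MulAut A)) = cjM i := by
  refine List.map_congr_left fun x hx => ?_
  have hx64 := idM_lt x hx
  have hinv : mulC i (invC i) = 0 := by
    have hc := inv_check
    simp only [List.all_eq_true, beq_iff_eq, codes, List.mem_range] at hc
    exact hc i hi
  refine D.M.inj _ (by have := D.code_lt (((((homA A) ⟨n, hn⟩ : ↥(AutA A)) : MulAut A)) (D.dec x)); unfold aut; omega)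
    _ (mulC_lt _ (mulC_lt _ hi)) ?_
  show D.M.c (D.code _) = _
  rw [c_code, D.M.c_conj hi (invC_lt hi) (by omega) hinv, ← dec_val D hx64, h]
  rfl

/-- The representation. -/
theorem exists_rep :
    ∃ R : Rep ↥(AutA A), R.act = fun h : ↥(AutA A) => D.aut (h : MulAut A) := by
  classical
  haveI : Fact (Nat.Prime 2) := ⟨Nat.prime_two⟩
  haveI := D.finite_aut
  set N := Subgroup.normalizer (A : Set G)
  let SN : Sylow 2 ↥N := S.subtype D.le_normalizer
  let P : Sylow 2 ↥(AutA A) :=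
    SN.mapSurjective (f := (homA A)) A.normalizerMonoidHom.rangeRestrict_surjective
  have hck := cjM_check
  simp only [Bool.and_eq_true, List.all_eq_true, List.any_eq_true, memL_iff, eqM_iff, codes, List.mem_range] at hck
  have hone : ∀ v, v < 64 → D.aut ((1 : ↥(AutA A)) : MulAut A) v = v := fun v hv => D.code_dec hv
  have hinj : ∀ g h : ↥(AutA A), matOf (D.aut (g : MulAut A)) = matOf (D.aut (h : MulAut A)) → g = h := by
    intro g h e
    refine Subtype.ext (MulEquiv.ext fun a => ?_)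
    have := (D.lin_aut g).eq_of_mat (D.lin_aut h) e (D.code_lt a)
    have e2 := congrArg D.dec this
    rwa [aut, aut, D.dec_code, D.dec_code, D.dec_code] at e2
  have hmem : ∀ h : ↥(AutA A), h ∈ (P : Subgroup ↥(AutA A)) ↔ matOf (D.aut (h : MulAut A)) ∈ mD8 := by
    intro h
    constructor
    · rintro ⟨⟨n, hn⟩, hnS, rfl⟩
      obtain ⟨i, hi, e⟩ := D.M.surj n (Subgroup.mem_subgroupOf.mp hnS)
      exact D.mat_hom hn hi e ▸ hck.1 i hi
    · intro hh
      obtain ⟨i, hi, e⟩ := hck.2 _ hh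
      refine ⟨⟨D.M.c i, D.le_normalizer (D.M.mem i hi)⟩, D.M.mem i hi, hinj _ _ ?_⟩
      exact (D.mat_hom _ hi rfl).trans e
  have hex : ∀ X ∈ mD8, ∃ h : ↥(AutA A), matOf (D.aut (h : MulAut A)) = X := by
    intro X hX
    obtain ⟨i, hi, e⟩ := hck.2 X hX
    exact ⟨_, (D.mat_hom (D.le_normalizer (D.M.mem i hi)) hi rfl).trans e⟩
  obtain ⟨t1, h1⟩ := hex mT1 (by decide +kernel)
  obtain ⟨t2, h2⟩ := hex mT2 (by decide +kernel)
  refine ⟨{
    act := fun h => D.aut (h : MulAut A)
    lin := fun h => D.lin_aut _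
    one := hone
    mul := fun g h v _ => by
      show D.code _ = D.code _
      rw [aut, D.dec_code]
      rfl
    faith := fun g hg => hinj g 1 ((matOf_congr hg).trans (matOf_congr hone).symm)
    t1 := t1, t2 := t2, m1 := h1, m2 := h2, P := P, memP := hmem }, rfl⟩

/-- **The factorisation of every subgroup containing `A`.** -/
theorem ctl : ∀ (k : ℕ) (X : Subgroup G), Nat.card X ≤ k → A ≤ X → CfsgA8C.Ctl X (Subgroup.normalizer (A : Set G)) := by
  classical
  haveI : Fact (Nat.Prime 2) := ⟨Nat.prime_two⟩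
  haveI := D.finite_aut
  obtain ⟨R, hR⟩ := D.exists_rep
  intro k
  induction k with
  | zero => intro X hX; have := Nat.card_pos (α := X); omega
  | succ k ih =>
    intro X hX hAX
    set N := Subgroup.normalizer (A : Set G) with hN
    have hS := D.sc hAX
    let K : Subgroup ↥(AutA A) := (X.subgroupOf N).map (homA A)
    by_cases hK : IsPGroup 2 K
    · -- the image is a 2-group
      have hpA : IsPGroup 2 (A.subgroupOf X) := fun a => ⟨1, Subtype.ext (Subtype.ext (by
        simpa [pow_two] using D.sq a.2))⟩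
      obtain ⟨T0, hT0⟩ := hpA.exists_le_sylow
      have hclosed : IsStronglyClosed (A.subgroupOf X) (T0 : Subgroup X) := by
        refine ⟨hT0, fun x hx g hg => ?_⟩
        exact hS.closed _ hx g g.2 (hS.syl ((T0 : Subgroup X).map X.subtype) (fun a ha => ⟨⟨a, hAX ha⟩, hT0 ha, rfl⟩) (Subgroup.map_subtype_le _)
          (T0.2.map _) ⟨_, hg, rfl⟩)
      obtain ⟨T, hAT, hfus⟩ := Cfsg.Agent.S2791.result T0 (A.subgroupOf X)
        ⟨⟨fun a b => Subtype.ext (Subtype.ext (D.comm a.2 b.2))⟩⟩ hclosed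
      have hTN : ∀ t ∈ (T : Subgroup X), (t : G) ∈ N := fun t ht =>
        hS.syl ((T : Subgroup X).map X.subtype) (fun a ha => ⟨⟨a, hAX ha⟩, hAT ha, rfl⟩) (Subgroup.map_subtype_le _) (T.2.map _) ⟨t, ht, rfl⟩
      -- the elements centralising `A`
      set CA := X ⊓ Subgroup.centralizer (A : Set G) with hCA
      have hACA : A ≤ CA := le_inf hAX fun a ha => Subgroup.mem_centralizer_iff.mpr fun b hb => D.comm hb ha
      have hb := CfsgA8C.burnside2 hACA hS.sq (fun P hAP hPX hP c hc => hS.cent c (hPX hc).1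
          (fun a ha => (Subgroup.mem_centralizer_iff.mp (hPX hc).2 a ha).symm) (by
            obtain ⟨k, hk⟩ := hP ⟨c, hc⟩
            exact ⟨k, congrArg Subtype.val hk⟩))
        (fun m hm _ a ha => mul_inv_eq_iff_eq_mul.mpr (Subgroup.mem_centralizer_iff.mp hm.2 a ha).symm)
      -- the decomposition of the normalizer
      have hdecN : ∀ n : X, (n : G) ∈ N → ∃ t ∈ (T : Subgroup X), ∃ o ∈ CfsgA8C.core CA, (n : G) = (t : G) * o := by
        intro n hn
        set NX := X.subgroupOf N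
        let T1 : Subgroup ↥N := ((T : Subgroup X).map X.subtype).subgroupOf N
        let ψ : ↥NX →* ↥K := ((homA A).subgroupMap NX)
        have hψ : Function.Surjective ψ := MonoidHom.subgroupMap_surjective _ _
        have hT1 : IsPGroup 2 (T1.subgroupOf NX) :=
          ((T.2.map X.subtype).comap_subtype).comap_subtype
        obtain ⟨W, hW⟩ := hT1.exists_le_sylow
        have hWtop : (W.mapSurjective hψ : Subgroup ↥K) = ⊤ :=
          (W.mapSurjective hψ).is_maximal' (hK.to_subgroup ⊤) le_top |>.symm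
        obtain ⟨w, hw, hwe⟩ : ∃ w ∈ (W : Subgroup ↥NX), ψ w = ψ ⟨⟨(n : G), hn⟩, n.2⟩ := by
          have : ψ ⟨⟨(n : G), hn⟩, n.2⟩ ∈ (W.mapSurjective hψ : Subgroup ↥K) := hWtop ▸ Subgroup.mem_top _
          exact this
        -- the Sylow subgroup of the normalizer is `T`
        have hWT : ((w : ↥N) : G) ∈ (T : Subgroup X).map X.subtype := by
          let W' : Subgroup X := (((W : Subgroup ↥NX).map NX.subtype).map N.subtype).subgroupOf X
          have hle : (T : Subgroup X) ≤ W' := fun t ht => by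
            refine ⟨⟨(t : G), hTN t ht⟩, ⟨⟨⟨(t : G), hTN t ht⟩, t.2⟩, hW ⟨t, ht, rfl⟩, rfl⟩, rfl⟩
          have hW' := T.is_maximal' (((W.2.map NX.subtype).map N.subtype).comap_subtype) hle
          have hwX : ((w : ↥N) : G) ∈ X := Subgroup.mem_subgroupOf.mp w.2
          have : (⟨_, hwX⟩ : X) ∈ W' := ⟨(w : ↥N), ⟨w, hw, rfl⟩, rfl⟩
          exact ⟨_, (SetLike.ext_iff.mp hW' _).mp this, rfl⟩
        obtain ⟨t, ht, hte⟩ := hWT
        have hte' : (t : G) = ((w : ↥N) : G) := hte
        have hcent : (t : G)⁻¹ * n ∈ CA := by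
          refine ⟨X.mul_mem (X.inv_mem t.2) n.2, Subgroup.mem_centralizer_iff.mpr fun a ha => ?_⟩
          have e := congrArg (fun f : ↥K => (((f : ↥(AutA A)) : MulAut A) ⟨a, ha⟩ : A)) hwe
          have e' : ((w : ↥N) : G) * a * ((w : ↥N) : G)⁻¹ = n * a * (n : G)⁻¹ := congrArg Subtype.val e
          rw [← hte'] at e'
          calc a * ((t : G)⁻¹ * n) = (t : G)⁻¹ * ((t : G) * a * (t : G)⁻¹) * n := by group
            _ = (t : G)⁻¹ * ((n : G) * a * (n : G)⁻¹) * n := by rw [e']
            _ = _ := by group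
        obtain ⟨a, ha, o, ho, e⟩ := hb _ hcent
        refine ⟨t * ⟨a, hAX ha⟩, mul_mem ht (hAT ha), o, ho, ?_⟩
        rw [Subgroup.coe_mul, mul_assoc, ← e, mul_inv_cancel_left]
      have hnc : HasNormalPComplement 2 X := by
        refine CfsgLib.Transfer.hasNormalPComplement_of_control T fun x hx g hg => ?_
        obtain ⟨-, hf⟩ := hfus {x} (Set.singleton_subset_iff.mpr hx)
        obtain ⟨n, hn, hne⟩ := hf g (by rintro _ ⟨y, rfl, rfl⟩; exact hg)
        have hne' := hne x rfl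
        have hnN : (n : G) ∈ N := CfsgA8C.mem_normalizer_of_le fun a ha => by
          exact (Subgroup.mem_normalizer_iff.mp hn ⟨a, hAX ha⟩).mp ha
        obtain ⟨t, ht, o, ho, e⟩ := hdecN n hnN
        have hxN := hTN x hx
        -- the odd part centralises `x`
        have hox : o * (x : G) * o⁻¹ = x := by
          have h1 : o * (x : G) * o⁻¹ * (x : G)⁻¹ ∈ CfsgA8C.core CA := by
            have h2 : (x : G) * o⁻¹ * (x : G)⁻¹ ∈ CfsgA8C.core CA := by
              refine CfsgA8C.core_conj (fun s => ?_) (inv_mem ho)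
              simp only [hCA, Subgroup.mem_inf]
              refine and_congr ⟨fun h => mul_mem (mul_mem x.2 h) (inv_mem x.2), fun h => ?_⟩ ?_
              · have := mul_mem (mul_mem (inv_mem x.2) h) x.2
                simpa [mul_assoc] using this
              · rw [Subgroup.mem_centralizer_iff, Subgroup.mem_centralizer_iff]
                constructor
                · intro h a ha
                  have := congrArg (fun t => (x : G) * t * (x : G)⁻¹)
                    (h _ ((Subgroup.mem_normalizer_iff''.mp hxN a).mp ha))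
                  simpa [mul_assoc] using this
                · intro h a ha
                  have := congrArg (fun t => (x : G)⁻¹ * t * (x : G))
                    (h _ ((Subgroup.mem_normalizer_iff.mp hxN a).mp ha))
                  simpa [mul_assoc] using this
            have := mul_mem ho h2
            simpa [mul_assoc] using this
          have h3 : o * (x : G) * o⁻¹ * (x : G)⁻¹ ∈ (T : Subgroup X).map X.subtype := by
            refine mul_mem ?_ (inv_mem ⟨x, hx, rfl⟩)
            refine ⟨t⁻¹ * (g * x * g⁻¹) * t, mul_mem (mul_mem (inv_mem ht) hg) ht, ?_⟩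
            rw [hne']
            show (((t⁻¹ * (n * x * n⁻¹) * t) : X) : G) = _
            simp only [Subgroup.coe_mul, Subgroup.coe_inv]
            rw [e]
            group
          have h4 : o * (x : G) * o⁻¹ * (x : G)⁻¹ = 1 := by
            obtain ⟨j, hj⟩ := (T.2.map X.subtype) ⟨_, h3⟩
            have hd : orderOf (o * (x : G) * o⁻¹ * (x : G)⁻¹) ∣ 2 ^ j :=
              orderOf_dvd_of_pow_eq_one (congrArg Subtype.val hj)
            exact orderOf_eq_one_iff.mp (Nat.eq_one_of_dvd_coprimes ((Nat.coprime_two_right.mpr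
              (CfsgA8C.odd_orderOf (CfsgA8C.core_odd CA) h1)).pow_right j) dvd_rfl hd)
          exact mul_inv_eq_one.mp h4
        refine ⟨t, ht, Subtype.ext ?_⟩
        rw [hne']
        simp only [Subgroup.coe_mul, Subgroup.coe_inv]
        rw [e, show (t : G) * o * x * ((t : G) * o)⁻¹ = (t : G) * (o * x * o⁻¹) * (t : G)⁻¹ by group, hox]
      obtain ⟨Q, O, hO, hc⟩ := hnc
      haveI := hO
      have hOodd : ¬ 2 ∣ Nat.card O := fun hd => Q.not_dvd_index (hc.index_eq_card ▸ hd)
      have hOc : O.map X.subtype ≤ CfsgA8C.core X := CfsgA8C.le_core (Subgroup.map_subtype_le _) (by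
          rw [Subgroup.card_map_of_injective X.subtype_injective]
          exact Nat.odd_iff.mpr (by omega)) (by
        rintro x hx _ ⟨o, ho, rfl⟩
        exact ⟨⟨x, hx⟩ * o * ⟨x, hx⟩⁻¹, hO.conj_mem o ho _, rfl⟩)
      have hcomp : O.IsComplement' (T : Subgroup X) := by
        refine Subgroup.isComplement'_of_coprime ?_ ?_
        · rw [T.card_eq_multiplicity, ← Q.card_eq_multiplicity, hc.card_mul]
        · rw [T.card_eq_multiplicity]
          exact Nat.Coprime.pow_right _ (Nat.prime_two.coprime_iff_not_dvd.mpr hOodd).symm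
      intro g hg
      obtain ⟨⟨o, t⟩, e⟩ := hcomp.2 ⟨g, hg⟩
      refine ⟨(t : X), hTN _ t.2, ((t : X) : G)⁻¹ * (o : X) * (t : X), ?_, ?_⟩
      · have := CfsgA8C.core_conj_mem (inv_mem (t : X).2) (hOc ⟨_, o.2, rfl⟩)
        simpa using this
      · have e' : ((o : X) : G) * ((t : X) : G) = g := congrArg Subtype.val e
        rw [← e', ← mul_assoc, ← mul_assoc, mul_inv_cancel, one_mul]
    · -- the image has an element of odd order
      obtain ⟨⟨c, hcK⟩, hc1, hcodd⟩ : ∃ c : K, c ≠ 1 ∧ Odd (orderOf c) := by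
        by_contra hcon
        push Not at hcon
        exact hK (DihedralFusion.isPGroup_of_odd_trivial fun a ha => by
          by_contra h1
          exact hcon a h1 ha)
      set Z : ℕ → Prop := fun w => w < 64 ∧ ∀ x ∈ X, D.M.c w * x = x * D.M.c w with hZ
      have hZs : ZSub Z := ⟨⟨by omega, fun x _ => by rw [D.M.c_zero, one_mul, mul_one]⟩, fun z hz => hz.1,
        fun a b ha hb => ⟨xor_lt64 ha.1 hb.1, fun x hx => by
          rw [D.c_xor ha.1 hb.1, mul_assoc, hb.2 x hx, ← mul_assoc, ha.2 x hx, mul_assoc]⟩⟩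
      have hact : ∀ (n : G) (hn : n ∈ N) (v : ℕ), v < 64 →
          D.M.c (R.act ((homA A) ⟨n, hn⟩) v) = n * D.M.c v * n⁻¹ := by
        intro n hn v hv
        rw [hR]
        show D.M.c (D.code _) = _
        rw [c_code, ← dec_val D hv]
        rfl
      have hfix : ∀ k ∈ K, ∀ z, Z z → R.act k z = z := by
        rintro _ ⟨⟨n, hn⟩, hnX, rfl⟩ z ⟨hz, hzc⟩
        refine D.c_inj ((R.lin _).lt z hz) hz ?_
        rw [hact n hn z hz, ← hzc n (Subgroup.mem_subgroupOf.mp hnX), mul_inv_cancel_right]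
      obtain ⟨⟨L, hL8, hLnd, hL0, hLlt, hLx, hLZ, hLdec⟩, hspan⟩ :=
        R.good K c hcK (by rwa [← Subgroup.orderOf_mk c hcK]) (fun e => hc1 (Subtype.ext e)) Z hZs hfix
      let A' : Subgroup G :=
        { carrier := {x | ∃ a ∈ L, D.M.c a = x}
          one_mem' := ⟨0, hL0, D.M.c_zero⟩
          mul_mem' := by
            rintro _ _ ⟨a, ha, rfl⟩ ⟨b, hb, rfl⟩
            exact ⟨a ^^^ b, hLx a ha b hb, D.c_xor (hLlt a ha) (hLlt b hb)⟩
          inv_mem' := by
            rintro _ ⟨a, ha, rfl⟩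
            exact ⟨a, ha, (inv_eq_of_mul_eq_one_right (D.sq (D.c_mem (hLlt a ha)))).symm⟩ }
      have hA'8 : 8 ≤ Nat.card A' := by
        refine le_trans (le_of_le_of_eq hL8 (Nat.card_fin _).symm) (Nat.card_le_card_of_injective
          (fun i : Fin L.length => (⟨D.M.c L[(i : ℕ)], _, List.getElem_mem i.2, rfl⟩ : A')) fun i j h => ?_)
        exact Fin.ext ((List.Nodup.getElem_inj_iff hLnd).mp
          (D.c_inj (hLlt _ (List.getElem_mem i.2)) (hLlt _ (List.getElem_mem j.2)) (congrArg Subtype.val h)))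
      have hZiff : ∀ w, w < 64 → (D.M.c w ∈ A ⊓ Subgroup.centralizer (X : Set G) ↔ Z w) := fun w hw =>
        ⟨fun h => ⟨hw, fun x hx => (Subgroup.mem_centralizer_iff.mp h.2 x hx).symm⟩,
          fun h => ⟨D.c_mem hw, Subgroup.mem_centralizer_iff.mpr fun x hx => (h.2 x hx).symm⟩⟩
      refine CfsgA8C.master hS (Z := A ⊓ Subgroup.centralizer (X : Set G)) (A' := A') inf_le_left
        (fun ζ hζ x hx => (Subgroup.mem_centralizer_iff.mp hζ.2 x hx).symm)
        (by rintro _ ⟨a, ha, rfl⟩; exact D.c_mem (hLlt a ha)) ?_ ?_ hA'8 ?_ ?_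
      · rintro _ ⟨a, ha, rfl⟩ haZ
        rw [hLZ a ha ((hZiff a (hLlt a ha)).mp haZ), D.M.c_zero]
      · intro x hx
        obtain ⟨v, hv, rfl⟩ := D.mem_iff.mp hx
        obtain ⟨a, ha, hz⟩ := hLdec v hv
        refine ⟨D.M.c a, ⟨a, ha, rfl⟩, D.M.c (v ^^^ a), (hZiff _ hz.1).mpr hz, ?_⟩
        rw [← D.c_xor (hLlt a ha) hz.1, Nat.xor_comm v a, ← Nat.xor_assoc, Nat.xor_self, Nat.zero_xor]
      · intro w hw hwZ
        refine ih _ ?_ (le_inf hAX fun a ha => Subgroup.mem_centralizer_singleton_iff.mpr (D.comm ha hw))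
        have hlt : Nat.card (X ⊓ Subgroup.centralizer ({w} : Set G) : Subgroup G) < Nat.card X := by
          refine lt_of_le_of_ne (Subgroup.card_le_of_le inf_le_left) fun e => hwZ ⟨hw, ?_⟩
          have e' := Subgroup.eq_of_le_of_card_ge (inf_le_left : X ⊓ Subgroup.centralizer ({w} : Set G) ≤ X) e.ge
          refine Subgroup.mem_centralizer_iff.mpr fun x hx => ?_
          have hx' : x ∈ X ⊓ Subgroup.centralizer ({w} : Set G) := by rw [e']; exact hx
          exact Subgroup.mem_centralizer_singleton_iff.mp hx'.2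
        omega
      · intro B hZB hgB x hx
        obtain ⟨v, hv, rfl⟩ := D.mem_iff.mp hx
        refine (hspan (fun w => w < 64 ∧ D.M.c w ∈ B)
          (fun a b ha hb => ⟨xor_lt64 ha.1 hb.1, by rw [D.c_xor ha.1 hb.1]; exact mul_mem ha.2 hb.2⟩)
          (fun z hz => ⟨hz.1, hZB ((hZiff z hz.1).mpr hz)⟩) (fun v hv hgv => ⟨hv, hgB _ (D.c_mem hv) ?_⟩) v hv).2
        obtain ⟨u, hu, huZ, hne, hζ⟩ := hgv
        have hfu : ∀ g ∈ X, ∀ a w, a < 64 → w < 64 → g * D.M.c a * g⁻¹ = D.M.c w →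
            ∃ k ∈ K, R.act k a = w := by
          intro g hg a w ha hw e
          obtain ⟨n, ⟨hnX, hnN⟩, hn⟩ := D.fuse hAX (D.c_mem ha) hg (e ▸ D.c_mem hw)
          refine ⟨(homA A) ⟨n, hnN⟩, ⟨⟨n, hnN⟩, hnX, rfl⟩, D.c_inj ((R.lin _).lt a ha) hw ?_⟩
          rw [hact n hnN a ha, hn, e]
        refine ⟨D.M.c u, D.c_mem hu, fun h => huZ ((hZiff u hu).mp h), fun g hg e => ?_, fun ζ hζm hζ1 g hg => ?_⟩
        · obtain ⟨k, hk, e'⟩ := hfu g hg u v hu hv e
          exact hne _ ⟨k, hk, rfl⟩ e'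
        · obtain ⟨i, hi, rfl⟩ := D.mem_iff.mp hζm.1
          have hi0 : i ≠ 0 := fun e => hζ1 (by rw [e, D.M.c_zero])
          have hg' := hζ i ((hZiff i hi).mp hζm) hi0
          refine ⟨fun e => ?_, fun e => ?_⟩
          · obtain ⟨k, hk, e'⟩ := hfu g hg u (u ^^^ i) hu (xor_lt64 hu hi) (e.trans (D.c_xor hu hi).symm)
            exact (hg' _ ⟨k, hk, rfl⟩).1 e'
          · obtain ⟨k, hk, e'⟩ := hfu g hg v (u ^^^ i) hv (xor_lt64 hu hi) (e.trans (D.c_xor hu hi).symm)
            exact (hg' _ ⟨k, hk, rfl⟩).2 e'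

/-- **The abelian subgroup is normal when there is no odd core.** -/
theorem normal (hO : oddCore G = ⊥) : A.Normal := by
  have h := D.ctl (Nat.card (⊤ : Subgroup G)) ⊤ le_rfl le_top
  have hcore : CfsgA8C.core (⊤ : Subgroup G) = ⊥ := by
    haveI : (CfsgA8C.core (⊤ : Subgroup G)).Normal :=
      ⟨fun o ho g => CfsgA8C.core_conj_mem (Subgroup.mem_top g) ho⟩
    exact le_bot_iff.mp (hO ▸ CfsgLib.le_oddCore (CfsgA8C.core_odd _))
  refine Subgroup.normalizer_eq_top_iff.mp (eq_top_iff.mpr fun g _ => ?_)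
  obtain ⟨n, hn, o, ho, e⟩ := h g (Subgroup.mem_top g)
  rw [hcore, Subgroup.mem_bot] at ho
  rw [e, ho, mul_one]
  exact hn

end Cfg

end CfsgM24Q
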