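import Cfsg.Agent.Lib.M24Quot.Code
import Cfsg.Agent.Lib.Golay.SylowQuotChecks

/-!
The central quotient of a Sylow 2-subgroup of the Mathieu group of degree 24 is isomorphic to the model.
-/

set_option autoImplicit false
set_option linter.unusedSectionVars false
set_option maxHeartbeats 800000
set_option maxRecDepth 4000

namespace CfsgM24Q

open Cfsg CfsgGolay CfsgGolay.SylQuot

attribute [local irreducible] codeL octadL dodecadL slpCodes sylowM24

local notation "P24" => Equiv.Perm GolayPt

/-- The covering of the quotient by the certified group. -/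
theorem exists_phi (P : Sylow 2 ↥Cfsg.M24) :
    ∃ φ : ↥(spanH gT) →* ↥(P : Subgroup ↥Cfsg.M24) ⧸ Subgroup.center ↥(P : Subgroup ↥Cfsg.M24),
      Function.Surjective φ ∧ Nat.card φ.ker = 2 ∧
        ∀ t : ↥(spanH gT), φ t = 1 → codeP (t : P24) = pid ∨ codeP (t : P24) = zc := by
  classical
  haveI : Fact (Nat.Prime 2) := ⟨Nat.prime_two⟩
  have hB : sylowM24.checkBasic = true := basic_ok
  have hP : sylowM24.checkPhi = true := phi_ok
  have hC : sylowM24.checkCen = true := cen_ok
  have hgen : checkGen = true := gen_ok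
  have hA : checkA = true := a_ok
  have hF : checkFix = true := fix_ok
  have hM : checkMax = true := max_ok
  have hlen : (spanC gT).length = 1024 := len_ok
  have hG : Cfsg.M24 = sylowM24.amb := amb_eq
  have hHG : spanH gT ≤ Cfsg.M24 := (SylData.spanH_le_amb hB).trans hG.ge
  have hT : Nat.card ↥(spanH gT) = 1024 := (SylData.card_U hB).trans hlen
  have hcardU : Nat.card ((spanH gT).subgroupOf Cfsg.M24) = 2 ^ 10 := by
    rw [Nat.card_congr (Subgroup.subgroupOfEquivOfLe hHG).toEquiv, hT]
    norm_num
  have hfac : (Nat.card Cfsg.M24).factorization 2 = 10 := by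
    rw [card_M24, show (244823040 : ℕ) = 2 ^ 10 * 239085 from by norm_num, Nat.factorization_mul (by norm_num) (by norm_num),
      Finsupp.add_apply, Nat.factorization_eq_zero_of_not_dvd (by norm_num : ¬ 2 ∣ 239085), add_zero, Nat.factorization_pow,
      Finsupp.smul_apply, Nat.Prime.factorization_self Nat.prime_two, smul_eq_mul, mul_one]
  let U : Sylow 2 Cfsg.M24 := Sylow.ofCard ((spanH gT).subgroupOf Cfsg.M24) (by rw [hfac, hcardU])
  let e : ↥(spanH gT) ≃* ↥(P : Subgroup ↥Cfsg.M24) :=
    (Subgroup.subgroupOfEquivOfLe hHG).symm.trans ((MulEquiv.subgroupCongr (Sylow.coe_ofCard _ _).symm).trans (U.equiv P))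
  let φ := (QuotientGroup.mk' (Subgroup.center ↥(P : Subgroup ↥Cfsg.M24))).comp e.toMonoidHom
  have hsur : Function.Surjective φ := (QuotientGroup.mk'_surjective _).comp e.surjective
  have hker : ∀ t : ↥(spanH gT), φ t = 1 → codeP (t : Equiv.Perm GolayPt) = pid ∨ codeP (t : Equiv.Perm GolayPt) = zc := by
    intro t ht
    have hcen : ∀ u : ↥(spanH gT), u * t = t * u := fun u => e.injective (by
      rw [map_mul, map_mul]
      exact Subgroup.mem_center_iff.mp ((QuotientGroup.eq_one_iff _).mp ht) (e u))
    simp only [SylData.checkCen, List.all_eq_true, Bool.or_eq_true, Bool.not_eq_true'] at hC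
    rcases hC _ (spanC_complete (SylData.permOK_gens hB) (SylData.pc_gens hB) _ t.2) with h | h | h
    · rw [List.all_eq_false] at h
      obtain ⟨d, hd, hne⟩ := h
      exfalso
      obtain ⟨v, hv⟩ := lift hB (of_memB (List.all_eq_true.mp hgen d hd))
      apply hne
      rw [← hv, pcomp_eq_codeP (repr_codeP _) (repr_codeP _), pcomp_eq_codeP (repr_codeP _) (repr_codeP _)]
      rw [show (t : Equiv.Perm GolayPt) * v = (v : Equiv.Perm GolayPt) * t from congrArg Subtype.val (hcen v).symm]
      exact Nat.beq_refl _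
    · exact Or.inl (Nat.eq_of_beq_eq_true h)
    · exact Or.inr (Nat.eq_of_beq_eq_true h)
  have hPp : IsPGroup 2 ↥(P : Subgroup ↥Cfsg.M24) := P.2
  haveI : Nontrivial ↥(P : Subgroup ↥Cfsg.M24) := Finite.one_lt_card_iff_nontrivial.mp (by
    rw [← Nat.card_congr e.toEquiv, hT]; norm_num)
  have hk : Nat.card φ.ker = 2 := by
    have hle : Nat.card φ.ker ≤ 2 := by
      refine le_trans (Nat.card_le_card_of_injective
        (fun t : φ.ker => decide (codeP ((t : ↥(spanH gT)) : Equiv.Perm GolayPt) = pid)) fun a b hab => ?_) (by simp)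
      have h1 := hker _ a.2
      have h2 := hker _ b.2
      simp only [decide_eq_decide] at hab
      refine Subtype.ext (Subtype.ext (codeP_injective ?_))
      rcases h1 with h1 | h1 <;> rcases h2 with h2 | h2
      · rw [h1, h2]
      · rw [h1, hab.mp h1]
      · rw [hab.mpr h2, h2]
      · rw [h1, h2]
    haveI : Nontrivial ↥(Subgroup.center ↥(P : Subgroup ↥Cfsg.M24)) := hPp.center_nontrivial
    have h1 := Finite.one_lt_card (α := ↥(Subgroup.center ↥(P : Subgroup ↥Cfsg.M24)))
    have h2 : Nat.card φ.ker = Nat.card ↥(Subgroup.center ↥(P : Subgroup ↥Cfsg.M24)) :=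
      Nat.card_congr (e.toEquiv.subtypeEquiv fun a => by
        rw [MonoidHom.mem_ker]
        exact QuotientGroup.eq_one_iff _)
    omega
  exact ⟨φ, hsur, hk, hker⟩

theorem card_quot (P : Sylow 2 ↥Cfsg.M24) :
    Nat.card (↥(P : Subgroup ↥Cfsg.M24) ⧸ Subgroup.center ↥(P : Subgroup ↥Cfsg.M24)) = 512 := by
  obtain ⟨φ, hsur, hk, -⟩ := exists_phi P
  have h := φ.ker.card_mul_index
  have hT : Nat.card ↥(spanH gT) = 1024 := (SylData.card_U basic_ok).trans len_ok
  rw [hk, Subgroup.index_ker, MonoidHom.range_eq_top.mpr hsur, Subgroup.card_top, hT] at h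
  omega

/-- Permutations for the elementary matrices. -/
def ys : List ℕ := [984809366764923821700518398387390789, 984800487136444707380649434375260643, 984814433033970865165582594408417281, 800277630369444809882581591165874208, 357472024265054778205631731763429408, 680976419053859889692539360017228064, 818443054379177616490425591610312992, 800489331456243103590525001373485088, 357844706208518298524226839028828192]

/-- The permutation code of the `k`-th elementary matrix. -/
def yk (k : ℕ) : ℕ := ys.getD k pid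

/-- The permutation code of a model code. -/
def pcd (i : ℕ) : ℕ := ord.foldl (fun x k => if bt i k == 1 then pcomp x (yk k) else x) pid

/-- The structure constants agree. -/
def isoCheck : Bool :=
  (List.range 9).all (fun k => memB (yk k) (spanC gT)) &&
  codes.all (fun i => (List.range 9).all fun k =>
    Nat.beq (pcd (rg k i)) (pcomp (pcd i) (yk k)) || Nat.beq (pcd (rg k i)) (pcomp zc (pcomp (pcd i) (yk k)))) &&
  gT.all fun g => codes.any fun i => Nat.beq g (pcd i) || Nat.beq g (pcomp zc (pcd i))

theorem iso_ok : isoCheck = true := by decide +kernel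

theorem pcd_zero : pcd 0 = pid := by decide +kernel

/-- The model of the central quotient. -/
theorem exists_mdl (P : Sylow 2 ↥Cfsg.M24) :
    Nonempty (Mdl (↥(P : Subgroup ↥Cfsg.M24) ⧸ Subgroup.center ↥(P : Subgroup ↥Cfsg.M24))) := by
  classical
  obtain ⟨φ, hsur, hk, hker⟩ := exists_phi P
  have hB : sylowM24.checkBasic = true := basic_ok
  have h := iso_ok
  simp only [isoCheck, Bool.and_eq_true, List.all_eq_true, List.any_eq_true, Bool.or_eq_true, List.mem_range, codes,
    Bool.not_eq_true'] at h
  obtain ⟨⟨h1, h2⟩, h3⟩ := h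
  
  have hy : ∀ k, k < 9 → ∃ t : ↥(spanH gT), codeP (t : P24) = yk k := fun k hk' =>
    lift hB (of_memB (h1 k hk'))
  choose! u hu using hy
  let w : ℕ → ↥(spanH gT) := fun i =>
    ord.foldl (fun x k => if bt i k == 1 then x * u k else x) 1
  have hw : ∀ i, codeP (w i : P24) = pcd i := by
    intro i
    have key : ∀ (l : List ℕ), (∀ k ∈ l, k < 9) → ∀ (x : ↥(spanH gT)) (c : ℕ), codeP (x : P24) = c →
        codeP ((l.foldl (fun x k => if bt i k == 1 then x * u k else x) x : ↥(spanH gT)) : P24) =
          l.foldl (fun x k => if bt i k == 1 then pcomp x (yk k) else x) c := by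
      intro l
      induction l with
      | nil => exact fun _ x c hc => hc
      | cons k l ih =>
        intro hl x c hc
        simp only [List.foldl_cons]
        refine ih (fun a ha => hl a (List.mem_cons_of_mem _ ha)) _ _ ?_
        by_cases hb : (bt i k == 1) = true
        · rw [if_pos hb, if_pos hb, ← hc, ← hu k (hl k (List.mem_cons_self ..)),
            pcomp_eq_codeP (repr_codeP _) (repr_codeP _), Subgroup.coe_mul]
        · rw [if_neg hb, if_neg hb]; exact hc
    exact key ord ord_lt 1 pid (by rw [Subgroup.coe_one, pid_eq_codeP])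
  set c : ℕ → _ := fun i => φ (w i) with hc
  have hz : ∀ a b : ↥(spanH gT), codeP (a : P24) = pcomp zc (codeP (b : P24)) → φ a = φ b := by
    intro a b hab
    obtain ⟨t, ht, ht1⟩ := zc_mem hk hker
    have : a = t * b := Subtype.ext (codeP_injective (by
      rw [hab, ← ht, pcomp_eq_codeP (repr_codeP _) (repr_codeP _), Subgroup.coe_mul]))
    rw [this, map_mul, ht1, one_mul]
  have hstep : ∀ i, i < 512 → ∀ k, k < 9 → c (rg k i) = c i * φ (u k) := by
    intro i hi k hk'
    rw [hc, ← map_mul]
    have hcode : codeP ((w i * u k : ↥(spanH gT)) : P24) = pcomp (pcd i) (yk k) := by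
      rw [← hw, ← hu k hk', pcomp_eq_codeP (repr_codeP _) (repr_codeP _), Subgroup.coe_mul]
    rcases h2 i hi k hk' with e | e
    · exact congrArg φ (Subtype.ext (codeP_injective (by rw [hw, hcode]; exact Nat.eq_of_beq_eq_true e)))
    · exact hz _ _ (by rw [hw, hcode]; exact Nat.eq_of_beq_eq_true e)
  have hmul : ∀ i, i < 512 → ∀ j, c (mulC i j) = c i * c j := by
    intro i hi j
    have key : ∀ (l : List ℕ), (∀ k ∈ l, k < 9) → ∀ (x : ℕ) (t : ↥(spanH gT)), x < 512 → c x = c i * φ t →
        c (l.foldl (stepC j) x) = c i * φ (l.foldl (fun x k => if bt j k == 1 then x * u k else x) t) := by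
      intro l
      induction l with
      | nil => exact fun _ x t _ ht => ht
      | cons k l ih =>
        intro hl x t hx ht
        simp only [List.foldl_cons]
        have hk' := hl k (List.mem_cons_self ..)
        by_cases hb : (bt j k == 1) = true
        · rw [show stepC j x k = rg k x by rw [stepC, if_pos hb], if_pos hb]
          refine ih (fun a ha => hl a (List.mem_cons_of_mem _ ha)) _ _ (rg_lt hk' hx) ?_
          rw [hstep x hx k hk', ht, map_mul, mul_assoc]
        · rw [show stepC j x k = x by rw [stepC, if_neg hb], if_neg hb]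
          exact ih (fun a ha => hl a (List.mem_cons_of_mem _ ha)) _ _ hx ht
    exact key ord ord_lt i 1 hi (by rw [map_one, mul_one])
  have h0 : c 0 = 1 := by
    have e := hmul 0 (by norm_num) 0
    rw [show mulC 0 0 = 0 by decide +kernel] at e
    exact mul_eq_left.mp e.symm
  haveI : Finite ↥(spanH gT) := inferInstance
  let I : Subgroup ↥(spanH gT) := (Subgroup.closure (c '' {i | i < 512})).comap φ
  have himg : ∀ s ∈ Subgroup.closure (c '' {i | i < 512}), ∃ i, i < 512 ∧ c i = s := by
    have : Finite (↥(P : Subgroup ↥Cfsg.M24) ⧸ Subgroup.center ↥(P : Subgroup ↥Cfsg.M24)) := inferInstance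
    intro s hs
    rw [← Subgroup.mem_toSubmonoid, Subgroup.closure_toSubmonoid_of_finite] at hs
    refine Submonoid.closure_induction (fun s hs => hs) ⟨0, by norm_num, h0⟩ ?_ hs
    rintro _ _ _ _ ⟨i, hi, rfl⟩ ⟨j, hj, rfl⟩
    exact ⟨mulC i j, mulC_lt j hi, hmul i hi j⟩
  have hsurj : ∀ s, ∃ i, i < 512 ∧ c i = s := by
    intro s
    obtain ⟨t, rfl⟩ := hsur s
    suffices ht : t ∈ I from himg _ ht
    have hle : spanH gT ≤ I.map (spanH gT).subtype := by
      show Subgroup.closure {g | ∃ c ∈ gT, Repr c g} ≤ _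
      refine (Subgroup.closure_le _).mpr fun g ⟨d, hd, hr⟩ => ?_
      have hg : g ∈ spanH gT := Subgroup.subset_closure ⟨d, hd, hr⟩
      refine ⟨⟨g, hg⟩, ?_, rfl⟩
      have hd' : codeP g = d := by
        have hg0 : checkGen = true := gen_ok
        rw [checkGen, List.all_eq_true] at hg0
        obtain ⟨v, hv⟩ := lift hB (of_memB (hg0 d hd))
        rw [hr.unique (hv ▸ repr_codeP (v : P24))]; exact hv
      obtain ⟨i, hi, e⟩ := h3 d hd
      refine Subgroup.mem_comap.mpr (Subgroup.subset_closure ⟨i, hi, ?_⟩)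
      rcases e with e | e
      · exact congrArg φ (Subtype.ext (codeP_injective (by rw [hw]; exact (Nat.eq_of_beq_eq_true e).symm.trans hd'.symm)))
      · exact (hz ⟨g, hg⟩ (w i) (by rw [hw]; exact hd'.trans (Nat.eq_of_beq_eq_true e))).symm
    obtain ⟨u', hu', e⟩ := hle t.2
    exact (Subtype.ext e : u' = t) ▸ hu'
  have hb : Function.Bijective fun i : Fin 512 => c i := by
    refine (Nat.bijective_iff_surjective_and_card _).mpr ⟨fun s => ?_, ?_⟩
    · obtain ⟨i, hi, e⟩ := hsurj s
      exact ⟨⟨i, hi⟩, e⟩
    · rw [Nat.card_fin, card_quot P]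
  exact ⟨⟨c, fun i hi j _ => hmul i hi j, fun i hi j hj e => congrArg Fin.val (@hb.1 ⟨i, hi⟩ ⟨j, hj⟩ e), hsurj⟩⟩

end CfsgM24Q
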