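import Cfsg.Agent.Lib.M24Quot.Centric
import Cfsg.Agent.Lib.Fusion.RankTwoResistant.Frame
import Cfsg.Agent.Lib.StronglyEmbedded
import Cfsg.Agent.S4207

/-!
The listed subgroups that miss the abelian subgroup of order 64 are not essential.
-/

set_option autoImplicit false
set_option linter.unusedSectionVars false

namespace CfsgM24Q

open Cfsg FusionSystem

section Auto

variable {E : Type*} [Group E]

/-- The subgroup generated by the squares. -/
def sqG (E : Type*) [Group E] : Subgroup E := Subgroup.closure (Set.range fun x : E => x * x)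

theorem sq_mem_sqG (x : E) : x * x ∈ sqG E := Subgroup.subset_closure ⟨x, rfl⟩

theorem apply_sqG (α : MulAut E) : ∀ x ∈ sqG E, α x ∈ sqG E := by
  have h : sqG E ≤ (sqG E).comap α.toMonoidHom := (Subgroup.closure_le _).mpr (by
    rintro _ ⟨y, rfl⟩
    show α (y * y) ∈ sqG E
    rw [map_mul]; exact sq_mem_sqG _)
  exact h

theorem comm_mem_sqG (a b : E) : a * b * a⁻¹ * b⁻¹ ∈ sqG E := by
  have h : a * b * a⁻¹ * b⁻¹ = (a * a) * ((a⁻¹ * b) * (a⁻¹ * b)) * (b⁻¹ * b⁻¹) := by group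
  rw [h]
  exact mul_mem (mul_mem (sq_mem_sqG _) (sq_mem_sqG _)) (sq_mem_sqG _)

theorem normal_of_inv {W : Subgroup E} (h : ∀ α : MulAut E, ∀ x ∈ W, α x ∈ W) : W.Normal :=
  ⟨fun x hx g => by simpa [MulAut.conj_apply] using h (MulAut.conj g) x hx⟩

theorem sqG_le_frattini [Finite E] (hE : IsPGroup 2 E) : sqG E ≤ frattini E := by
  haveI : Fact (Nat.Prime 2) := ⟨Nat.prime_two⟩
  refine (Subgroup.closure_le _).mpr ?_
  rintro _ ⟨x, rfl⟩
  show x * x ∈ frattini E
  rw [← pow_two]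
  exact CfsgLib.pow_mem_frattini_pGroup hE x

/-- The elements displaced by an automorphism into a normal subgroup. -/
def dispSub (α : MulAut E) (W : Subgroup E) [W.Normal] : Subgroup E where
  carrier := {x | x⁻¹ * α x ∈ W}
  one_mem' := by simp [one_mem]
  mul_mem' := fun {x y} hx hy => by
    show (x * y)⁻¹ * α (x * y) ∈ W
    rw [map_mul, show (x * y)⁻¹ * (α x * α y) = (y⁻¹ * (x⁻¹ * α x) * y⁻¹⁻¹) * (y⁻¹ * α y) by group]
    exact mul_mem ((inferInstance : W.Normal).conj_mem _ hx _) hy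
  inv_mem' := fun {x} hx => by
    show x⁻¹⁻¹ * α x⁻¹ ∈ W
    rw [map_inv, show x⁻¹⁻¹ * (α x)⁻¹ = x * (x⁻¹ * α x)⁻¹ * x⁻¹ by group]
    exact (inferInstance : W.Normal).conj_mem _ (inv_mem hx) _

/-- The subgroup of displacements of an automorphism, enlarged by the squares. -/
def dW (α : MulAut E) : Subgroup E := Subgroup.closure (Set.range fun x => x⁻¹ * α x) ⊔ sqG E

theorem disp_mem_dW (α : MulAut E) (x : E) : x⁻¹ * α x ∈ dW α :=
  Subgroup.mem_sup_left (Subgroup.subset_closure ⟨x, rfl⟩)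

theorem dW_le (α : MulAut E) {H : Subgroup E} (h1 : ∀ x, x⁻¹ * α x ∈ H) (h2 : ∀ x, x * x ∈ H) : dW α ≤ H :=
  sup_le ((Subgroup.closure_le _).mpr fun _ ⟨x, hx⟩ => hx ▸ h1 x)
    ((Subgroup.closure_le _).mpr fun _ ⟨x, hx⟩ => hx ▸ h2 x)

theorem dW_conj (γ α : MulAut E) : (dW α).map γ.toMonoidHom = dW (γ * α * γ⁻¹) := by
  have key : ∀ γ α : MulAut E, (dW α).map γ.toMonoidHom ≤ dW (γ * α * γ⁻¹) := by
    intro γ α
    rw [Subgroup.map_le_iff_le_comap]
    refine dW_le α (fun x => ?_) fun x => ?_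
    · show γ (x⁻¹ * α x) ∈ dW _
      have h := disp_mem_dW (γ * α * γ⁻¹) (γ x)
      simpa [MulAut.mul_apply] using h
    · show γ (x * x) ∈ dW _
      rw [map_mul]; exact Subgroup.mem_sup_right (sq_mem_sqG _)
  refine le_antisymm (key γ α) fun y hy => ?_
  have h2 := key γ⁻¹ (γ * α * γ⁻¹) ⟨y, hy, rfl⟩
  simp only [inv_inv, mul_assoc, inv_mul_cancel, mul_one, inv_mul_cancel_left] at h2
  exact ⟨_, h2, MulAut.apply_inv_self _ γ y⟩

theorem dW_inner (u : E) (α : MulAut E) : dW (MulAut.conj u * α) = dW α := by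
  have key : ∀ (u : E) (α : MulAut E), dW (MulAut.conj u * α) ≤ dW α := fun u α => dW_le _ (fun x => by
      rw [MulAut.mul_apply, MulAut.conj_apply,
        show x⁻¹ * (u * α x * u⁻¹) = (x⁻¹ * α x) * ((α x)⁻¹ * u * (α x)⁻¹⁻¹ * u⁻¹) by group]
      exact mul_mem (disp_mem_dW α x) (Subgroup.mem_sup_right (comm_mem_sqG _ _)))
    fun x => Subgroup.mem_sup_right (sq_mem_sqG x)
  refine le_antisymm (key u α) ?_
  have := key u⁻¹ (MulAut.conj u * α)
  rwa [← mul_assoc, ← map_mul, inv_mul_cancel, map_one, one_mul] at this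

end Auto

section Fus

variable {Ω : Type*} [Group Ω] {S : Subgroup Ω} [Finite S] {F : FusionSystem S} {E : Subgroup Ω}

/-- An essential subgroup has no invariant series two steps long above the squares stabilised from outside. -/
theorem false_of_stab (hS : IsPGroup 2 S) (hF : F.IsSaturated 2) (hE : F.IsEssential 2 E)
    (X : Subgroup E) (hX : ∀ α : MulAut E, ∀ x ∈ X, α x ∈ X)
    {g : Ω} (hg : g ∈ normalizerIn S E) (hgE : g ∉ E)
    (h1 : ∀ x : E, x⁻¹ * E.normalizerMonoidHom ⟨g, hg.2⟩ x ∈ X ⊔ sqG E)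
    (h2 : ∀ x ∈ X, x⁻¹ * E.normalizerMonoidHom ⟨g, hg.2⟩ x ∈ sqG E) : False := by
  haveI : Fact (Nat.Prime 2) := ⟨Nat.prime_two⟩
  haveI : Finite E := finite_of_le hE.1.1
  haveI := finite_autGroup (F := F) hE.1.1
  have hEp : IsPGroup 2 E := hS.to_le hE.1.1
  have hWinv : ∀ α : MulAut E, ∀ x ∈ X ⊔ sqG E, α x ∈ X ⊔ sqG E := by
    intro α
    have h : X ⊔ sqG E ≤ (X ⊔ sqG E).comap α.toMonoidHom :=
      sup_le (fun x hx => Subgroup.mem_sup_left (hX α x hx)) (fun x hx => Subgroup.mem_sup_right (apply_sqG α x hx))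
    exact h
  haveI : (sqG E).Normal := normal_of_inv apply_sqG
  haveI : (X ⊔ sqG E).Normal := normal_of_inv hWinv
  let K : Subgroup (F.autGroup E) :=
    { carrier := {a | (∀ x, x⁻¹ * (a : MulAut E) x ∈ X ⊔ sqG E) ∧ ∀ x ∈ X, x⁻¹ * (a : MulAut E) x ∈ sqG E}
      one_mem' := ⟨fun x => by simp, fun x _ => by simp⟩
      mul_mem' := by
        intro a b ha hb
        refine ⟨fun x => ?_, fun x hx => ?_⟩
        · have := mul_mem (hb.1 x) (ha.1 ((b : MulAut E) x))
          simpa [MulAut.mul_apply, mul_assoc] using this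
        · have := mul_mem (hb.2 x hx) (ha.2 _ (hX (b : MulAut E) x hx))
          simpa [MulAut.mul_apply, mul_assoc] using this
      inv_mem' := by
        intro a ha
        refine ⟨fun x => ?_, fun x hx => ?_⟩
        · have := inv_mem (ha.1 ((a : MulAut E)⁻¹ x))
          simpa using this
        · have := inv_mem (ha.2 _ (hX (a : MulAut E)⁻¹ x hx))
          simpa using this }
  haveI : K.Normal := by
    refine ⟨fun a ha b => ⟨fun x => ?_, fun x hx => ?_⟩⟩
    · have := hWinv (b : MulAut E) _ (ha.1 ((b : MulAut E)⁻¹ x))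
      simpa [MulAut.mul_apply] using this
    · have := apply_sqG (b : MulAut E) _ (ha.2 _ (hX (b : MulAut E)⁻¹ x hx))
      simpa [MulAut.mul_apply] using this
  haveI : Finite (MulAut E) := Finite.of_injective (fun f => (f : E → E)) DFunLike.coe_injective
  let T : Subgroup (MulAut E) :=
    { carrier := {β | ∀ x, β x * x⁻¹ ∈ frattini E}
      one_mem' := fun x => by simp
      mul_mem' := fun {a b} ha hb x => by
        have := mul_mem (ha (b x)) (hb x)
        simpa [MulAut.mul_apply, mul_assoc] using this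
      inv_mem' := fun {a} ha x => by
        have := inv_mem (ha (a⁻¹ x))
        simpa using this }
  have hT : IsPGroup 2 T := by
    obtain ⟨n, hn⟩ := hEp.exists_card_eq
    obtain ⟨r, -, hr⟩ := (Nat.dvd_prime_pow Nat.prime_two).1 (hn ▸ Subgroup.index_dvd_card (frattini E))
    obtain ⟨k, -, hk⟩ := (Nat.dvd_prime_pow Nat.prime_two).1
      (Cfsg.Agent.S4207.aut_card_dvd hn hr T fun β hβ x => hβ x)
    exact IsPGroup.of_card hk
  have hK : IsPGroup 2 K := by
    rintro ⟨a, ha⟩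
    set α : MulAut E := (a : MulAut E) with hα
    have hmem : α * α ∈ T := by
      intro x
      have hd : X ⊔ sqG E ≤ dispSub α (sqG E) := sup_le (fun w hw => ha.2 w hw) (fun w hw =>
        mul_mem (inv_mem hw) (apply_sqG α w hw))
      have hu : x⁻¹ * α x ∈ X ⊔ sqG E := ha.1 x
      have hd' : (x⁻¹ * α x)⁻¹ * α (x⁻¹ * α x) ∈ sqG E := hd hu
      have h3 : x⁻¹ * α (α x) ∈ sqG E := by
        have := mul_mem (sq_mem_sqG (x⁻¹ * α x)) hd'
        rw [map_mul, map_inv] at this
        convert this using 1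
        group
      have h4 := (inferInstance : (sqG E).Normal).conj_mem _ h3 x
      refine sqG_le_frattini hEp ?_
      rw [MulAut.mul_apply]
      convert h4 using 1
      group
    obtain ⟨k, hk⟩ := hT ⟨α * α, hmem⟩
    refine ⟨k + 1, Subtype.ext (Subtype.ext ?_)⟩
    show α ^ 2 ^ (k + 1) = 1
    rw [pow_succ', pow_mul, pow_two]
    exact congrArg Subtype.val hk
  have hmemA : E.normalizerMonoidHom ⟨g, hg.2⟩ ∈ F.autGroup E := autInducedBy_le_autGroup hE.1.1
    (mem_autInducedBy_iff.mpr ⟨g, hg.1, hg.2, fun _ => rfl⟩)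
  have hin := RankTwoResistant.normal_le_inn hS hF hE hK (a := ⟨_, hmemA⟩) ⟨h1, h2⟩
  exact hgE (RankTwoResistant.mem_of_inner hE hg.1 (fun _ => rfl) hin)

/-- All involutions of a group with a strongly embedded subgroup are conjugate. -/
theorem isConj_of_invol {Q : Type*} [Group Q] [Finite Q] {Y : Subgroup Q} (hY : Cfsg.IsStronglyPEmbedded 2 Y)
    {a b : Q} (ha : orderOf a = 2) (hb : orderOf b = 2) : IsConj a b := by
  haveI : Fact (Nat.Prime 2) := ⟨Nat.prime_two⟩
  have hmul : ∀ {x : Q}, orderOf x = 2 → x * x = 1 := fun {x} hx => by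
    rw [← pow_two, ← hx, pow_orderOf_eq_one]
  have key : ∀ t u : Q, orderOf t = 2 → orderOf u = 2 → t ∈ Y → u ∉ Y → IsConj t u := by
    intro t u ht hu htY huY
    have htt := hmul ht
    have huu := hmul hu
    have hflip : ∀ j : ℕ, t * (t * u) ^ j * t = ((t * u) ^ j)⁻¹ := by
      intro j
      have h := conj_pow (a := t) (b := t * u) (i := j)
      rw [inv_eq_of_mul_eq_one_left htt] at h
      rw [← h, ← inv_pow]
      congr 1
      rw [mul_inv_rev, inv_eq_of_mul_eq_one_left htt, inv_eq_of_mul_eq_one_left huu, ← mul_assoc, htt, one_mul]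
    rcases Nat.even_or_odd' (orderOf (t * u)) with ⟨m, hm | hm⟩
    · exfalso
      have hpos := orderOf_pos (t * u)
      set j := (t * u) ^ m
      have hj : orderOf j = 2 := by
        rw [orderOf_pow' _ (by omega), hm, Nat.gcd_eq_right ⟨2, by ring⟩]
        exact Nat.div_eq_of_eq_mul_left (by omega) rfl
      have hjt : t * j = j * t := by
        have h := hflip m
        rw [inv_eq_of_mul_eq_one_left (hmul hj)] at h
        calc t * j = t * j * (t * t) := by rw [htt, mul_one]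
          _ = (t * j * t) * t := by group
          _ = j * t := by rw [h]
      have hju : u * j = j * u := by
        have hc : (t * u) * j = j * (t * u) := (Commute.self_pow (t * u) m).eq
        calc u * j = t * t * (u * j) := by rw [htt, one_mul]
          _ = t * ((t * u) * j) := by group
          _ = t * (j * (t * u)) := by rw [hc]
          _ = (t * j) * t * u := by group
          _ = j * (t * t) * u := by rw [hjt]; group
          _ = j * u := by rw [htt, mul_one]
      have hjY : j ∈ Y := CfsgLib.StronglyEmbedded.centralizer_le hY htY ht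
        (Subgroup.mem_centralizer_singleton_iff.mpr hjt.symm)
      exact huY (CfsgLib.StronglyEmbedded.centralizer_le hY hjY hj (Subgroup.mem_centralizer_singleton_iff.mpr hju))
    · refine isConj_iff.mpr ⟨((t * u) ^ (m + 1))⁻¹, ?_⟩
      have h1 := hflip (m + 1)
      have h2 : (t * u) ^ (m + 1) * (t * u) ^ (m + 1) = t * u := by
        rw [← pow_add, show m + 1 + (m + 1) = orderOf (t * u) + 1 by omega, pow_succ, pow_orderOf_eq_one, one_mul]
      rw [inv_inv, ← h1]
      calc t * (t * u) ^ (m + 1) * t * t * (t * u) ^ (m + 1)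
          = t * (t * u) ^ (m + 1) * (t * t) * (t * u) ^ (m + 1) := by group
        _ = t * ((t * u) ^ (m + 1) * (t * u) ^ (m + 1)) := by rw [htt]; group
        _ = u := by rw [h2, ← mul_assoc, htt, one_mul]
  obtain ⟨t, htY, ht⟩ := CfsgLib.StronglyEmbedded.exists_orderOf_eq (CfsgLib.StronglyEmbedded.dvd_card_of hY)
  obtain ⟨g, hg⟩ : ∃ g : Q, g ∉ Y := by
    by_contra h
    push Not at h
    exact hY.2.1 ((Subgroup.eq_top_iff' Y).mpr h)
  obtain ⟨u, hu, huY⟩ : ∃ u, orderOf u = 2 ∧ u ∉ Y := by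
    by_contra h
    push Not at h
    refine hg (CfsgLib.StronglyEmbedded.mem_of_conj_le hY (CfsgLib.StronglyEmbedded.isPGroup_zpowers ht)
      (CfsgLib.StronglyEmbedded.zpowers_ne_bot ht) ((Subgroup.zpowers_le).2 htY) fun x hx => ?_)
    obtain ⟨i, rfl⟩ := hx
    show g * t ^ i * g⁻¹ ∈ Y
    rw [← conj_zpow]
    exact zpow_mem (h _ (by rw [← MulAut.conj_apply, MulEquiv.orderOf_eq, ht])) i
  have hall : ∀ x : Q, orderOf x = 2 → IsConj x t := by
    intro x hx
    by_cases hxY : x ∈ Y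
    · exact (key x u hx hu hxY huY).trans (key t u ht hu htY huY).symm
    · exact (key t x ht hx htY hxY).symm
  exact (hall a ha).trans (hall b hb).symm

/-- Involutions of the outer automiser of an essential subgroup have displacement groups of equal size. -/
theorem card_dW_eq (hE : F.IsEssential 2 E) {g h : Ω} (hg : g ∈ normalizerIn S E)
    (hh : h ∈ normalizerIn S E) (hgE : g ∉ E) (hhE : h ∉ E) (hg2 : g * g ∈ E) (hh2 : h * h ∈ E) :
    Nat.card (dW (E.normalizerMonoidHom ⟨g, hg.2⟩)) = Nat.card (dW (E.normalizerMonoidHom ⟨h, hh.2⟩)) := by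
  haveI : Fact (Nat.Prime 2) := ⟨Nat.prime_two⟩
  haveI := finite_autGroup (F := F) hE.1.1
  obtain ⟨hn, Y, hY⟩ := hE.2.2
  set I := (Inn E).subgroupOf (F.autGroup E) with hI
  have hmem : ∀ {x : Ω} (hx : x ∈ normalizerIn S E), E.normalizerMonoidHom ⟨x, hx.2⟩ ∈ F.autGroup E :=
    fun {x} hx => autInducedBy_le_autGroup hE.1.1 (mem_autInducedBy_iff.mpr ⟨x, hx.1, hx.2, fun _ => rfl⟩)
  have hord : ∀ {x : Ω} (hx : x ∈ normalizerIn S E), x ∉ E → x * x ∈ E →
      orderOf (QuotientGroup.mk (s := I) (⟨_, hmem hx⟩ : F.autGroup E)) = 2 := by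
    intro x hx hxE hx2
    refine orderOf_eq_prime ?_ fun e => ?_
    · rw [pow_two, ← QuotientGroup.mk_mul, QuotientGroup.eq_one_iff]
      refine ⟨⟨x * x, hx2⟩, MulEquiv.ext fun y => Subtype.ext ?_⟩
      show x * x * (y : Ω) * (x * x)⁻¹ = x * (x * y * x⁻¹) * x⁻¹
      group
    · rw [QuotientGroup.eq_one_iff] at e
      exact hxE (RankTwoResistant.mem_of_inner hE hx.1 (fun _ => rfl) e)
  obtain ⟨q, hq⟩ := isConj_iff.1 (isConj_of_invol hY (hord hg hgE hg2) (hord hh hhE hh2))
  obtain ⟨γ, rfl⟩ := QuotientGroup.mk_surjective q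
  rw [← QuotientGroup.mk_inv, ← QuotientGroup.mk_mul, ← QuotientGroup.mk_mul, QuotientGroup.eq] at hq
  obtain ⟨u, hu⟩ := hq
  have e : E.normalizerMonoidHom ⟨h, hh.2⟩ =
      ((γ : MulAut E) * E.normalizerMonoidHom ⟨g, hg.2⟩ * (γ : MulAut E)⁻¹) * MulAut.conj u := by
    rw [show (MulAut.conj u : MulAut E) = _ from hu]
    show _ = _ * ((((γ : MulAut E) * E.normalizerMonoidHom ⟨g, hg.2⟩ * (γ : MulAut E)⁻¹))⁻¹ * _)
    rw [mul_inv_cancel_left]
  set δ := (γ : MulAut E) * E.normalizerMonoidHom ⟨g, hg.2⟩ * (γ : MulAut E)⁻¹ with hδ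
  have e2 : δ * MulAut.conj u = MulAut.conj (δ u) * δ := MulEquiv.ext fun x => by
    simp only [MulAut.mul_apply, MulAut.conj_apply, map_mul, map_inv]
  rw [e, e2, dW_inner, hδ, ← dW_conj, Subgroup.card_map_of_injective (MulEquiv.injective _)]

end Fus

namespace Emb

variable {G : Type*} [Group G] [Finite G] {S : Subgroup G} (M : Emb S) {F : FusionSystem S} {E : Subgroup G}
  {d : Node}

/-- The element of the normalizer given by a certificate. -/
theorem out_spec (hd : d.baseOK = true) (hE : M.Has E d.mask) {g gi : ℕ} (h : d.outOK g gi = true) :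
    g < 512 ∧ gi < 512 ∧ mulC g gi = 0 ∧ M.c g ∈ normalizerIn S E ∧ M.c g ∉ E := by
  simp only [Node.outOK, Bool.and_eq_true, beq_iff_eq, Bool.not_eq_true', List.all_eq_true, Nat.blt_eq] at h
  obtain ⟨⟨⟨⟨hg, hgi⟩, hinv⟩, hout⟩, hconj⟩ := h
  refine ⟨hg, hgi, hinv, ⟨M.mem g hg, ?_⟩, fun he => by rw [(hE.2 g hg).mp he] at hout; exact absurd hout (by simp)⟩
  have hle : ∀ x ∈ E, M.c g * x * (M.c g)⁻¹ ∈ E := by
    intro x hx
    obtain ⟨i, hi, rfl⟩ := M.surj x (hE.1 hx)
    have hlt := gens_lt hd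
    refine M.spanL_sound (E.comap (MulAut.conj (M.c g)).toMonoidHom) hlt (fun a ha => ?_) i
      ((mask_eq hd i).mp ((hE.2 i hi).mp hx))
    show M.c g * M.c a * (M.c g)⁻¹ ∈ E
    rw [← M.c_conj hg hgi (hlt a ha) hinv]
    exact (hE.2 _ (mulC_lt _ (mulC_lt _ hg))).mpr (hconj a ha)
  have := Subgroup.eq_of_le_of_card_ge (H := E.map (MulAut.conj (M.c g)).toMonoidHom) (K := E)
    (by rintro _ ⟨x, hx, rfl⟩; exact hle x hx)
    (Subgroup.card_map_of_injective (MulEquiv.injective _)).ge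
  exact Subgroup.mem_normalizer_iff.mpr fun x => ⟨hle x, fun hx => by
    obtain ⟨y, hy, e⟩ := this.ge hx
    have : y = x := mul_left_cancel (mul_right_cancel e)
    exact this ▸ hy⟩

theorem mem_sub (hd : d.baseOK = true) (hE : M.Has E d.mask) {x : ℕ} (hx : x ∈ d.elts) :
    x < 512 ∧ M.c x ∈ E :=
  ⟨spanL_lt (gens_lt hd) x hx, (hE.2 x (spanL_lt (gens_lt hd) x hx)).mpr ((mask_eq hd x).mpr hx)⟩

theorem exists_elt (hd : d.baseOK = true) (hE : M.Has E d.mask) (x : E) :
    ∃ i, i ∈ d.elts ∧ i < 512 ∧ M.c i = x := by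
  obtain ⟨i, hi, e⟩ := M.surj x (hE.1 x.2)
  exact ⟨i, (mask_eq hd i).mp ((hE.2 i hi).mp (e ▸ x.2)), hi, e⟩

theorem pg_lt (hd : d.baseOK = true) : ∀ g ∈ d.pg, g < 512 := fun g hg =>
  gens_lt hd g (List.mem_append_left _ hg)

theorem pg_sq (hd : d.baseOK = true) (hE : M.Has E d.mask) : ∀ g ∈ d.pg, M.c g ∈ (sqG E).map E.subtype :=
  M.pg_mem hd hE _ fun x hx => ⟨⟨x, hx⟩ * ⟨x, hx⟩, sq_mem_sqG _, rfl⟩

/-- A stabilised series excludes essential subgroups. -/
theorem false_of_stabOK (hS : IsPGroup 2 S) (hF : F.IsSaturated 2) (hEss : F.IsEssential 2 E)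
    (hd : d.baseOK = true) (hE : M.Has E d.mask) {k g gi : ℕ} {xs : List ℕ} (h : d.stabOK k g gi xs = true) :
    False := by
  simp only [Node.stabOK, Bool.and_eq_true, List.all_eq_true, Bool.or_eq_true, Bool.not_eq_true', Nat.blt_eq] at h
  obtain ⟨⟨⟨hout, hxs⟩, hW⟩, hX⟩ := h
  obtain ⟨hg, hgi, hinv, hgN, hgE⟩ := M.out_spec hd hE hout
  have hgl := gens_lt hd
  have hgm := M.gens_mem hd hE
  have hgen : ∀ (H : Subgroup G), (∀ a ∈ d.gens, M.c a ∈ H) → E ≤ H := fun H hH x hx => by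
    obtain ⟨i, hi, hi', e⟩ := M.exists_elt hd hE ⟨x, hx⟩
    have := M.spanL_sound H hgl hH i hi
    rwa [e] at this
  obtain ⟨X, hXinv, hp1, hp2⟩ : ∃ X : Subgroup E, (∀ α : MulAut E, ∀ x ∈ X, α x ∈ X) ∧
      (∀ (i : ℕ) (hi : i < 512) (him : M.c i ∈ E), d.prop1 k i = true → (⟨M.c i, him⟩ : E) ∈ X) ∧
      (∀ (i : ℕ) (hi : i < 512) (him : M.c i ∈ E), (⟨M.c i, him⟩ : E) ∈ X → d.prop2 k i = true) := by
    match k with
    | 0 =>
      refine ⟨⊥, fun α x hx => by rw [Subgroup.mem_bot] at hx ⊢; rw [hx, map_one], fun i hi him h => ?_, fun i hi him h => ?_⟩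
      · simp only [Node.prop1, beq_iff_eq] at h
        exact Subgroup.mem_bot.mpr (Subtype.ext ((congrArg M.c h).trans M.c_zero))
      · simp only [Node.prop2, beq_iff_eq]
        exact M.inj i hi 0 (by omega) ((congrArg Subtype.val (Subgroup.mem_bot.mp h)).trans M.c_zero.symm)
    | 1 =>
      refine ⟨Subgroup.center E, fun α x hx => Subgroup.mem_center_iff.mpr fun y => by
          have := congrArg α (Subgroup.mem_center_iff.mp hx (α⁻¹ y))
          simpa using this, fun i hi him h => ?_,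
        fun i hi him h => ?_⟩
      · simp only [Node.prop1, List.all_eq_true] at h
        refine Subgroup.mem_center_iff.mpr fun y => Subtype.ext ?_
        have := hgen (Subgroup.centralizer ({M.c i} : Set G)) (fun a ha =>
          Subgroup.mem_centralizer_singleton_iff.mpr ((M.cm_iff hi (hgl a ha)).mp (h a ha)).symm) y.2
        exact Subgroup.mem_centralizer_singleton_iff.mp this
      · simp only [Node.prop2, List.all_eq_true]
        intro a ha
        exact (M.cm_iff hi (hgl a ha)).mpr (congrArg Subtype.val (Subgroup.mem_center_iff.mp h ⟨_, hgm a ha⟩)).symm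
    | k + 2 =>
      refine ⟨Subgroup.centralizer (sqG E : Set E), fun α x hx => Subgroup.mem_centralizer_iff.mpr fun y hy => ?_,
        fun i hi him h => ?_, fun i hi him h => ?_⟩
      · have h' := Subgroup.mem_centralizer_iff.mp hx _ (apply_sqG α⁻¹ y hy)
        have := congrArg α h'
        simpa using this
      · simp only [Node.prop1, List.all_eq_true] at h
        refine Subgroup.mem_centralizer_iff.mpr fun y hy => ?_
        have hle : sqG E ≤ Subgroup.centralizer ({⟨M.c i, him⟩} : Set E) := by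
          refine (Subgroup.closure_le _).mpr ?_
          rintro _ ⟨z, rfl⟩
          refine Subgroup.mem_centralizer_singleton_iff.mpr (Subtype.ext ?_)
          obtain ⟨j, hj, hj', e⟩ := M.exists_elt hd hE z
          have := (M.cm_iff hi (mulC_lt j hj')).mp (h j hj)
          rw [M.mul j hj' j hj', e] at this
          exact this.symm
        exact Subgroup.mem_centralizer_singleton_iff.mp (hle hy)
      · simp only [Node.prop2, List.all_eq_true]
        intro a ha
        obtain ⟨s, hs, e⟩ := M.pg_sq hd hE a ha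
        have := congrArg Subtype.val (Subgroup.mem_centralizer_iff.mp h s hs)
        have e' : (s : G) = M.c a := e
        rw [Subgroup.coe_mul, Subgroup.coe_mul, e'] at this
        exact (M.cm_iff hi (pg_lt hd a ha)).mpr this.symm
  have hgd : ∀ (i : ℕ) (hi : i < 512) (x : E), M.c i = x →
      ((x⁻¹ * E.normalizerMonoidHom ⟨M.c g, hgN.2⟩ x : E) : G) = M.c (ddC g gi i) := by
    intro i hi x e
    rw [M.c_dd hg hgi hi hinv, e]
    rfl
  haveI : (X ⊔ sqG E).Normal := normal_of_inv fun α => by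
    have h : X ⊔ sqG E ≤ (X ⊔ sqG E).comap α.toMonoidHom :=
      sup_le (fun x hx => Subgroup.mem_sup_left (hXinv α x hx)) (fun x hx => Subgroup.mem_sup_right (apply_sqG α x hx))
    exact h
  have hwl : ∀ a ∈ d.pg ++ xs, a < 512 := by
    intro a ha
    rcases List.mem_append.mp ha with ha | ha
    exacts [pg_lt hd a ha, (hxs a ha).1.1]
  have hpW : ∀ a ∈ d.pg ++ xs, M.c a ∈ (X ⊔ sqG E).map E.subtype := by
    intro a ha
    rcases List.mem_append.mp ha with ha | ha
    · exact Subgroup.map_mono le_sup_right (M.pg_sq hd hE a ha)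
    · obtain ⟨⟨ha1, ha2⟩, ha3⟩ := hxs a ha
      have him := (hE.2 a ha1).mpr ha2
      exact ⟨_, Subgroup.mem_sup_left (hp1 a ha1 him ha3), rfl⟩
  refine false_of_stab hS hF hEss X hXinv hgN hgE (fun x => ?_) fun x hx => ?_
  · suffices hall : E ≤ (dispSub (E.normalizerMonoidHom ⟨M.c g, hgN.2⟩) (X ⊔ sqG E)).map E.subtype by
      obtain ⟨y, hy, e⟩ := hall x.2
      exact (Subtype.ext e : y = x) ▸ hy
    refine hgen _ fun a ha => ⟨⟨_, hgm a ha⟩, ?_, rfl⟩
    obtain ⟨y, hy, e⟩ := M.spanL_sound ((X ⊔ sqG E).map E.subtype) hwl hpW (ddC g gi a) ((inM_maskOf _ _).mp (hW a ha))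
    show (⟨_, hgm a ha⟩ : E)⁻¹ * E.normalizerMonoidHom ⟨M.c g, hgN.2⟩ ⟨_, hgm a ha⟩ ∈ X ⊔ sqG E
    rw [← (Subtype.ext (e.trans (hgd a (hgl a ha) ⟨_, hgm a ha⟩ rfl).symm) : y = _)]
    exact hy
  · obtain ⟨i, hi, hi', e⟩ := M.exists_elt hd hE x
    have him : M.c i ∈ E := by rw [e]; exact x.2
    have hx' : (⟨M.c i, him⟩ : E) ∈ X := by rw [show (⟨M.c i, him⟩ : E) = x from Subtype.ext e]; exact hx
    have hph : inM (maskOf (spanL d.pg)) (ddC g gi i) = true := by
      rcases hX i hi with h' | h'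
      · rw [hp2 i hi' him hx'] at h'; exact absurd h' (by simp)
      · exact h'
    obtain ⟨y, hy, e'⟩ := M.spanL_sound ((sqG E).map E.subtype) (pg_lt hd) (M.pg_sq hd hE) _
      ((inM_maskOf _ _).mp hph)
    have : y = x⁻¹ * E.normalizerMonoidHom ⟨M.c g, hgN.2⟩ x := Subtype.ext (e'.trans (hgd i hi' x e).symm)
    exact this ▸ hy

/-- The certified displacement group is the displacement group. -/
theorem disp_spec (hd : d.baseOK = true) (hE : M.Has E d.mask) {g gi : ℕ} {ws : List ℕ}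
    (h : d.dispOK g gi ws = true) :
    ∃ hg : M.c g ∈ normalizerIn S E, M.c g ∉ E ∧ M.c g * M.c g ∈ E ∧
      Nat.card (dW (E.normalizerMonoidHom ⟨M.c g, hg.2⟩)) = popC (maskOf (spanL (d.pg ++ ws))) := by
  simp only [Node.dispOK, Bool.and_eq_true, List.all_eq_true, List.any_eq_true, beq_iff_eq] at h
  obtain ⟨⟨⟨⟨hout, hg2⟩, hws⟩, hclosed⟩, hall⟩ := h
  obtain ⟨hg, hgi, hinv, hgN, hgE⟩ := M.out_spec hd hE hout
  refine ⟨hgN, hgE, ?_, ?_⟩
  · rw [← M.mul g hg g hg]; exact (hE.2 _ (mulC_lt _ hg)).mpr hg2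
  set α := E.normalizerMonoidHom ⟨M.c g, hgN.2⟩ with hα
  have hgd : ∀ (i : ℕ) (hi : i < 512) (x : E), M.c i = x → ((x⁻¹ * α x : E) : G) = M.c (ddC g gi i) := by
    intro i hi x e
    rw [M.c_dd hg hgi hi hinv, e]
    rfl
  have hgenlt : ∀ a ∈ d.pg ++ ws, a < 512 := by
    intro a ha
    rcases List.mem_append.mp ha with ha | ha
    · exact pg_lt hd a ha
    · obtain ⟨x, hx, rfl⟩ := hws a ha
      exact dd_lt (M.mem_sub hd hE hx).1
  have hgenW : ∀ a ∈ d.pg ++ ws, M.c a ∈ (dW α).map E.subtype := by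
    intro a ha
    rcases List.mem_append.mp ha with ha | ha
    · exact Subgroup.map_mono le_sup_right (M.pg_sq hd hE a ha)
    · obtain ⟨x, hx, rfl⟩ := hws a ha
      obtain ⟨hx1, hx2⟩ := M.mem_sub hd hE hx
      exact ⟨_, disp_mem_dW α ⟨_, hx2⟩, hgd x hx1 ⟨_, hx2⟩ rfl⟩
  set W : Set G := M.c '' {i | i ∈ spanL (d.pg ++ ws)} with hW
  have hWmul : ∀ i ∈ spanL (d.pg ++ ws), ∀ v ∈ d.pg ++ ws, mulC i v ∈ spanL (d.pg ++ ws) := fun i hi v hv =>
    (inM_maskOf _ _).mp (hclosed i hi v hv)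
  have hcl : ∀ y ∈ Subgroup.closure (M.c '' {a | a ∈ d.pg ++ ws}), y ∈ W := by
    intro y hy
    rw [← Subgroup.mem_toSubmonoid, Subgroup.closure_toSubmonoid_of_finite] at hy
    induction hy using Submonoid.closure_induction_right with
    | one =>
      refine ⟨0, ?_, M.c_zero⟩
      show 0 ∈ spanL _
      generalize d.pg ++ ws = l
      induction l with
      | nil => simp [spanL]
      | cons b l ih => exact List.mem_append_left _ ih
    | mul_right y _ z hz ih =>
      obtain ⟨i, hi, rfl⟩ := ih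
      obtain ⟨v, hv, rfl⟩ := hz
      exact ⟨mulC i v, hWmul i hi v hv, M.mul i (spanL_lt hgenlt i hi) v (hgenlt v hv)⟩
  have hset : ∀ i, i < 512 → (M.c i ∈ (dW α).map E.subtype ↔ inM (maskOf (spanL (d.pg ++ ws))) i = true) := by
    intro i hi
    constructor
    · intro hmem
      have hle : (dW α).map E.subtype ≤ Subgroup.closure (M.c '' {a | a ∈ d.pg ++ ws}) := by
        have hsub : ∀ j ∈ spanL (d.pg ++ ws), M.c j ∈ Subgroup.closure (M.c '' {a | a ∈ d.pg ++ ws}) :=
          M.spanL_sound _ hgenlt fun a ha => Subgroup.subset_closure ⟨a, ha, rfl⟩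
        rw [Subgroup.map_le_iff_le_comap]
        refine dW_le α (fun x => ?_) fun x => ?_ <;> obtain ⟨j, hj, hj', e⟩ := M.exists_elt hd hE x
        · show ((x⁻¹ * α x : E) : G) ∈ Subgroup.closure (M.c '' {a | a ∈ d.pg ++ ws})
          rw [hgd j hj' x e]
          exact hsub _ ((inM_maskOf _ _).mp (hall j hj).1)
        · show ((x * x : E) : G) ∈ Subgroup.closure (M.c '' {a | a ∈ d.pg ++ ws})
          rw [Subgroup.coe_mul, ← e, ← M.mul j hj' j hj']
          exact hsub _ ((inM_maskOf _ _).mp (hall j hj).2)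
      obtain ⟨j, hj, e⟩ := hcl _ (hle hmem)
      rw [← M.inj j (spanL_lt hgenlt j hj) i hi e, inM_maskOf]
      exact hj
    · exact fun h => M.spanL_sound _ hgenlt hgenW i ((inM_maskOf _ _).mp h)
  rw [← Subgroup.card_map_of_injective E.subtype_injective, popC]
  set L := codes.filter (inM (maskOf (spanL (d.pg ++ ws)))) with hL
  have hnd : L.Nodup := List.nodup_range.filter _
  rw [show L.length = (L.toFinset).card from (List.toFinset_card_of_nodup hnd).symm, ← Fintype.card_coe,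
    ← Nat.card_eq_fintype_card]
  have hmemL : ∀ i, i ∈ L.toFinset ↔ i < 512 ∧ M.c i ∈ (dW α).map E.subtype := by
    intro i
    simp only [hL, List.mem_toFinset, List.mem_filter, codes, List.mem_range]
    exact and_congr_right fun hi => (hset i hi).symm
  refine (Nat.card_congr (Equiv.ofBijective
    (fun i : L.toFinset => (⟨M.c i, ((hmemL i).mp i.2).2⟩ : ↥((dW α).map E.subtype))) ⟨?_, ?_⟩)).symm
  · intro i j e
    exact Subtype.ext (M.inj _ ((hmemL i).mp i.2).1 _ ((hmemL j).mp j.2).1 (congrArg Subtype.val e))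
  · rintro ⟨y, hy⟩
    obtain ⟨i, hi, e⟩ := M.surj y (hE.1 (Subgroup.map_subtype_le _ hy))
    exact ⟨⟨i, (hmemL i).mpr ⟨hi, e ▸ hy⟩⟩, Subtype.ext e⟩

/-- The abelian subgroup of order 64 lies in every essential subgroup. -/
theorem le_of_essential (hS : IsPGroup 2 S) (hF : F.IsSaturated 2) (hEss : F.IsEssential 2 E) :
    ∀ i, i < 64 → M.c i ∈ E := by
  obtain ⟨d, hd, hE⟩ := M.exists_node hS (E := E) ⟨hEss.1.1, fun x hx hc =>
    hEss.1.centralizerIn_le_self ⟨hx, Subgroup.mem_centralizer_iff.mpr fun e he => (hc e he).symm⟩⟩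
  have hok := nodes_ok d hd
  simp only [Node.ok, Bool.and_eq_true] at hok
  obtain ⟨⟨hbase, -⟩, hkill⟩ := hok
  unfold Node.killOK at hkill
  split at hkill
  · intro i hi
    have hl : ∀ i' : Fin 64, (i' : ℕ) ∈ spanL [1, 2, 4, 8, 16, 32] := by decide +kernel
    refine M.spanL_sound E (gs := [1, 2, 4, 8, 16, 32]) (by decide) (fun a ha => ?_) i (hl ⟨i, hi⟩)
    rw [List.all_eq_true] at hkill
    exact (hE.2 a ((show ∀ a ∈ [1, 2, 4, 8, 16, 32], a < 512 by decide) a ha)).mpr (hkill a ha)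
  · exact (M.false_of_stabOK hS hF hEss hbase hE hkill).elim
  · simp only [Bool.and_eq_true, Bool.not_eq_true', beq_eq_false_iff_ne] at hkill
    obtain ⟨⟨h1, h2⟩, hne⟩ := hkill
    obtain ⟨hg, hgE, hg2, hgc⟩ := M.disp_spec hbase hE h1
    obtain ⟨hh, hhE, hh2, hhc⟩ := M.disp_spec hbase hE h2
    exact (hne (by rw [← hgc, ← hhc]; exact card_dW_eq hEss hg hh hgE hhE hg2 hh2)).elim

end Emb

end CfsgM24Q
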