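import Cfsg.Agent.Lib.M24Quot.Span

/-!
Linear maps of six binary coordinates as lists of the images of the unit vectors.
-/

set_option autoImplicit false

namespace CfsgM24Q

/-- Application of a matrix to a vector. -/
def apM : List ℕ → ℕ → ℕ
  | [], _ => 0
  | a :: l, v => Nat.xor (Nat.mul (Nat.mod v 2) a) (apM l (Nat.div v 2))

/-- The identity matrix. -/
def idM : List ℕ := [1, 2, 4, 8, 16, 32]

/-- Equality of matrices. -/
def eqM : List ℕ → List ℕ → Bool
  | [], [] => true
  | a :: l, b :: m => cond (Nat.beq a b) (eqM l m) false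
  | _, _ => false

theorem eqM_iff : ∀ {X Y : List ℕ}, eqM X Y = true ↔ X = Y
  | [], [] => by simp [eqM]
  | [], _ :: _ => by simp [eqM]
  | _ :: _, [] => by simp [eqM]
  | a :: l, b :: m => by
    by_cases h : Nat.beq a b = true
    · simp [eqM, h, eqM_iff, Nat.eq_of_beq_eq_true h]
    · simp only [eqM, Bool.eq_false_iff.mpr h, cond_false, Bool.false_eq_true, false_iff, List.cons.injEq, not_and]
      intro e
      subst e
      exact absurd (Nat.beq_refl a) h

/-- The product of two matrices. -/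
def mulM (X Y : List ℕ) : List ℕ := Y.map (apM X)

/-- All vectors. -/
def vecs : List ℕ := List.range 64

/-- Linearity below 64. -/
structure Lin (f : ℕ → ℕ) : Prop where
  lt : ∀ v, v < 64 → f v < 64
  add : ∀ u, u < 64 → ∀ v, v < 64 → f (u ^^^ v) = f u ^^^ f v

/-- The matrix of a map. -/
def matOf (f : ℕ → ℕ) : List ℕ := idM.map f

theorem xor_lt64 {u v : ℕ} (hu : u < 64) (hv : v < 64) : u ^^^ v < 64 := Nat.xor_lt_two_pow (n := 6) hu hv

theorem idM_lt : ∀ x ∈ idM, x < 64 := by decide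

theorem apM_cons (a : ℕ) (l : List ℕ) (v : ℕ) :
    apM (a :: l) v = (if v % 2 = 1 then a else 0) ^^^ apM l (v / 2) := by
  show Nat.xor (Nat.mul (v % 2) a) _ = _
  rcases Nat.mod_two_eq_zero_or_one v with h | h
  · rw [h, if_neg (by omega), show Nat.mul 0 a = 0 from Nat.zero_mul a]; rfl
  · rw [h, if_pos rfl, show Nat.mul 1 a = a from Nat.one_mul a]; rfl

theorem apM_lt : ∀ {X : List ℕ}, (∀ x ∈ X, x < 64) → ∀ v, apM X v < 64
  | [], _, _ => by simp [apM]
  | a :: l, h, v => by
    rw [apM_cons]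
    refine xor_lt64 ?_ (apM_lt (fun x hx => h x (List.mem_cons_of_mem _ hx)) _)
    split
    · exact h a (List.mem_cons_self ..)
    · omega

theorem apM_add : ∀ (X : List ℕ) (u v : ℕ), apM X (u ^^^ v) = apM X u ^^^ apM X v
  | [], _, _ => by simp [apM]
  | a :: l, u, v => by
    have h1 : (u ^^^ v) / 2 = u / 2 ^^^ v / 2 := by
      simpa [Nat.shiftRight_one] using Nat.shiftRight_xor_distrib (a := u) (b := v) (i := 1)
    have h2 : ((u ^^^ v) % 2 = 1) ↔ ¬ (u % 2 = 1 ↔ v % 2 = 1) := by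
      have h := Nat.testBit_xor u v 0
      simp only [Nat.testBit_zero] at h
      by_cases hu : u % 2 = 1 <;> by_cases hv : v % 2 = 1 <;> simp [hu, hv] at h ⊢ <;> exact h
    have h3 : (if (u ^^^ v) % 2 = 1 then a else 0) =
        (if u % 2 = 1 then a else 0) ^^^ (if v % 2 = 1 then a else 0) := by
      rw [if_congr h2 rfl rfl]
      by_cases hu : u % 2 = 1 <;> by_cases hv : v % 2 = 1 <;> simp [hu, hv]
    rw [apM_cons, apM_cons, apM_cons, h1, apM_add l, h3]
    simp [Nat.xor_comm, Nat.xor_left_comm, Nat.xor_assoc]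

theorem lin_apM {X : List ℕ} (hX : ∀ x ∈ X, x < 64) : Lin (apM X) :=
  ⟨fun _ _ => apM_lt hX _, fun u _ v _ => apM_add X u v⟩

theorem apM_idM {v : ℕ} (hv : v < 64) : apM idM v = v := by
  have h : ∀ v' : Fin 64, apM idM v' = v' := by decide +kernel
  exact h ⟨v, hv⟩

namespace Lin

variable {f g : ℕ → ℕ}

theorem zero (hf : Lin f) : f 0 = 0 := by
  have h := hf.add 0 (by omega) 0 (by omega)
  simpa using h

theorem apply_apM (hf : Lin f) : ∀ {X : List ℕ}, (∀ x ∈ X, x < 64) → ∀ v, f (apM X v) = apM (X.map f) v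
  | [], _, _ => by simp [apM, hf.zero]
  | a :: l, h, v => by
    have ha := h a (List.mem_cons_self ..)
    have hl := fun x hx => h x (List.mem_cons_of_mem _ hx)
    rw [List.map_cons, apM_cons, apM_cons]
    rw [hf.add _ (by split <;> omega) _ (apM_lt hl _), hf.apply_apM hl]
    split <;> simp [hf.zero]

theorem eq_apM (hf : Lin f) {v : ℕ} (hv : v < 64) : apM (matOf f) v = f v := by
  rw [matOf, ← hf.apply_apM idM_lt, apM_idM hv]

theorem mat_lt (hf : Lin f) : ∀ x ∈ matOf f, x < 64 := by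
  simp only [matOf, List.mem_map]
  rintro _ ⟨x, hx, rfl⟩
  exact hf.lt x (idM_lt x hx)

theorem mat_comp (hf : Lin f) (hg : Lin g) : matOf (fun v => f (g v)) = mulM (matOf f) (matOf g) := by
  show idM.map (fun v => f (g v)) = (idM.map g).map (apM (matOf f))
  rw [List.map_map]
  exact List.map_congr_left fun x hx => (hf.eq_apM (hg.lt x (idM_lt x hx))).symm

theorem comp (hf : Lin f) (hg : Lin g) : Lin (fun v => f (g v)) :=
  ⟨fun v hv => hf.lt _ (hg.lt v hv), fun u hu v hv => by
    show f (g (u ^^^ v)) = f (g u) ^^^ f (g v)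
    rw [hg.add u hu v hv, hf.add _ (hg.lt u hu) _ (hg.lt v hv)]⟩

theorem xor (hf : Lin f) (hg : Lin g) : Lin (fun v => f v ^^^ g v) :=
  ⟨fun v hv => xor_lt64 (hf.lt v hv) (hg.lt v hv), fun u hu v hv => by
    simp only [hf.add u hu v hv, hg.add u hu v hv]
    simp [Nat.xor_comm, Nat.xor_left_comm, Nat.xor_assoc]⟩

theorem congr (hf : Lin f) (h : ∀ v, v < 64 → f v = g v) : Lin g :=
  ⟨fun v hv => h v hv ▸ hf.lt v hv, fun u hu v hv => by
    rw [← h _ (xor_lt64 hu hv), ← h u hu, ← h v hv]; exact hf.add u hu v hv⟩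

theorem eq_of_mat (hf : Lin f) (hg : Lin g) (h : matOf f = matOf g) {v : ℕ} (hv : v < 64) : f v = g v := by
  rw [← hf.eq_apM hv, h, hg.eq_apM hv]

end Lin

end CfsgM24Q
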