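import Cfsg.Agent.Lib.M24Quot.Lin

/-!
Certificates for the linear groups on the abelian subgroup.
-/

set_option autoImplicit false

namespace CfsgM24Q

/-- The central involution of the dihedral group on the vectors. -/
def mZ : List ℕ := [5, 2, 4, 8, 16, 40]
/-- The first noncentral involution. -/
def mT1 : List ℕ := [3, 2, 4, 8, 24, 32]
/-- The second noncentral involution. -/
def mT2 : List ℕ := [1, 6, 4, 8, 16, 48]
/-- The element of order four. -/
def mS : List ℕ := mulM mT1 mT2

/-- The dihedral group, as the powers of the element of order four and their translates. -/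
def mD8 : List (List ℕ) :=
  [idM, mS, mZ, mulM mZ mS, mT1, mulM mT1 mS, mulM mT1 mZ, mulM mT1 (mulM mZ mS)]

/-- The first four group. -/
def mE1 : List (List ℕ) := [idM, mZ, mT1, mulM mZ mT1]
/-- The second power. -/
def sqM (X : List ℕ) : List ℕ := mulM X X

/-- Membership. -/
def memL (X : List ℕ) (L : List (List ℕ)) : Bool := L.any fun Y => eqM X Y

/-- A matrix as a number. -/
def pkM : List ℕ → ℕ
  | [] => 1
  | a :: l => Nat.add a (Nat.mul 64 (pkM l))

/-- The matrix of a number. -/
def unpkM (n : ℕ) : List ℕ := (List.range 6).map fun k => n / 64 ^ k % 64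

/-- Membership of a number. -/
def memN (x : ℕ) : List ℕ → Bool
  | [] => false
  | a :: l => cond (Nat.beq x a) true (memN x l)

/-- The vectors fixed. -/
def fixL (X : List ℕ) : List ℕ := vecs.filter fun v => Nat.beq (apM X v) v

/-- No nonzero vector is fixed. -/
def noFix (X : List ℕ) : Bool := vecs.all fun v => cond (Nat.beq (apM X v) v) (Nat.beq v 0) true

/-- A transport of a representative. -/
structure Tr where
  g : List ℕ
  m : List ℕ
  mi : List ℕ
  e : List ℕ

/-- The product of the central involution and the first noncentral one. -/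
def mU : List ℕ := mulM mZ mT1

/-- The possible images of the fifth unit vector under a map permuting the first four group. -/
def tw16 : List ℕ := vecs.filter fun v => Nat.beq (apM mT1 v) v && Nat.beq (Nat.xor v (apM mU v)) 8

/-- The possible images of the sixth unit vector. -/
def tw32 : List ℕ := vecs.filter fun v => Nat.beq (apM mU v) v && Nat.beq (Nat.xor v (apM mT1 v)) 8

/-- The map with given images of the three generating unit vectors. -/
def twX (u v w : ℕ) : List ℕ := [u, Nat.xor u (apM mU u), Nat.xor u (apM mT1 u), 8, v, w]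

/-- A property of the elements of order three permuting the first four group. -/
def twOK (trs : List Tr) (X : List ℕ) : Bool :=
  !(eqM (mulM X (mulM X X)) idM) ||
    (Nat.beq (fixL X).length 4 &&
      (!(memL (mulM (mulM (mulM mT2 X) mT2) X) mE1) || mE1.any fun e => trs.any fun t => eqM (mulM X e) t.g))

/-- All candidates have the property. -/
def twistCheck (trs : List Tr) : Bool :=
  vecs.all fun u => tw16.all fun v => tw32.all fun w => twOK trs (twX u v w)

/-- The reversal of the unit vectors. -/
def mR : List ℕ := [32, 16, 8, 4, 2, 1]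

/-- A transport is correct. -/
def Tr.ok (t : Tr) (E : List (List ℕ)) (r : List ℕ) : Bool :=
  t.m.all (fun x => Nat.blt x 64) && t.mi.all (fun x => Nat.blt x 64) &&
  mulM t.m t.mi == idM && mulM t.mi t.m == idM &&
  [mT1, mT2].all (fun T => mulM t.m T == mulM T t.m) &&
  memL t.e E && mulM (mulM (mulM t.m t.g) t.mi) t.e == r

/-- Every listed matrix comes from the generators. -/
def genCheck (gens : List (List ℕ)) (L : List (List ℕ)) (par : List (ℕ × ℕ)) : Bool :=
  L.zipIdx.all fun q =>
    if q.2 == 0 then q.1 == idM
    else
      let p := par.getD q.2 (q.2, 0)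
      Nat.blt p.1 q.2 && Nat.blt p.2 gens.length && eqM q.1 (mulM (L.getD p.1 []) (gens.getD p.2 []))

/-- No repetition. -/
def nodupN : List ℕ → Bool
  | [] => true
  | a :: l => cond (memN a l) false (nodupN l)

/-- No repetition among matrices. -/
def nodupL (L : List (List ℕ)) : Bool := nodupN (L.map pkM)

/-- Sums of sublists. -/
def spanX : List ℕ → List ℕ
  | [] => [0]
  | a :: l => spanX l ++ (spanX l).map fun x => x ^^^ a

/-- A subgroup of fixed vectors with a complement and witnesses. -/
structure ZW where
  Z : List ℕ
  A : List ℕ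
  wit : List (ℕ × ℕ)

/-- The witnesses are correct. -/
def ZW.ok (L : List (List ℕ)) (q : ZW) : Bool :=
  let K := L.filter fun k => q.Z.all fun x => apM k x == x
  (q.Z.all fun x => Nat.blt x 64) && (q.A.all fun x => Nat.blt x 64) &&
  decide (8 ≤ q.A.length) && decide q.A.Nodup && q.A.contains 0 &&
  (q.A.all fun a => q.A.all fun b => q.A.contains (a ^^^ b)) &&
  (q.A.all fun a => a == 0 || !(q.Z.contains a)) &&
  (vecs.all fun v => q.A.any fun a => q.Z.contains (v ^^^ a)) &&
  (q.wit.all fun p => Nat.blt p.1 64 && Nat.blt p.2 64 && !(q.Z.contains p.2) &&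
    K.all fun k => !(apM k p.2 == p.1) && q.Z.all fun x => x == 0 ||
      (!(apM k p.2 == (p.2 ^^^ x)) && !(apM k p.1 == (p.2 ^^^ x)))) &&
  (let sp := maskOf (spanX (q.Z ++ q.wit.map Prod.fst)); vecs.all (inM sp))

/-- Every element fixing a nonzero vector is a two-element or conjugate to the representative. -/
def conjCheck (L : List (List ℕ)) (g : List ℕ) : Bool :=
  L.all fun c => eqM (sqM (sqM (sqM c))) idM || noFix c ||
    L.any fun h => eqM (mulM h c) (mulM g h) || eqM (mulM h c) (mulM (sqM g) h)

/-- The data of a linear group. -/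
structure GData where
  gens : List (List ℕ)
  L : List (List ℕ)
  par : List (ℕ × ℕ)
  W : List ℕ
  zws : List ZW

/-- The group with its witnesses. -/
def GData.ok (d : GData) (g : List ℕ) : Bool :=
  genCheck d.gens d.L d.par && nodupL d.L && conjCheck d.L g &&
  d.W.length == 4 && (fixL g == d.W) && (d.W.getD 0 1 == 0) &&
  (d.W.getD 1 0 ^^^ d.W.getD 2 0 == d.W.getD 3 0) &&
  (d.zws.map fun q => q.Z) == [[0], [0, d.W.getD 1 0], [0, d.W.getD 2 0], [0, d.W.getD 3 0], d.W] &&
  d.zws.all (ZW.ok d.L)

end CfsgM24Q
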