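import Cfsg.Agent.Lib.M24Quot.LinCert

/-!
Linear maps of odd order in the presence of the involutions of the dihedral group.
-/

set_option autoImplicit false
set_option maxRecDepth 4000

namespace CfsgM24Q

/-! ### Small computations -/

theorem comm_pair : ∀ v w : Fin 64, apM mZ v = v → apM mT1 w = w →
    (v : ℕ) ^^^ apM mT1 v = (w : ℕ) ^^^ apM mZ w →
    ((v : ℕ) ^^^ apM mT1 v = 0 ∧ (v : ℕ) ∈ [0, 2, 4, 6, 8, 10, 12, 14] ∧ (w : ℕ) ∈ [0, 2, 4, 6, 8, 10, 12, 14]) ∨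
    ((v : ℕ) ^^^ apM mT1 v = 8 ∧ (v : ℕ) ^^^ 16 ∈ [0, 2, 4, 6, 8, 10, 12, 14] ∧
      (w : ℕ) ^^^ 32 ∈ [0, 2, 4, 6, 8, 10, 12, 14]) := by decide +kernel

theorem comm_one : ∀ u : Fin 64, ((u : ℕ) % 2 = 0 ∧ (u : ℕ) ^^^ apM mT1 u ∈ [0, 8] ∧ (u : ℕ) ^^^ apM mZ u ∈ [0, 8]) ∨
    ((u : ℕ) % 2 = 1 ∧ (u : ℕ) ^^^ apM mT1 u ∈ [2, 10] ∧ (u : ℕ) ^^^ apM mZ u ∈ [4, 12]) := by decide +kernel

theorem unit_vals : apM mZ 16 = 16 ∧ apM mT1 32 = 32 ∧ apM mT1 16 = 16 ^^^ 8 ∧ apM mZ 32 = 32 ^^^ 8 ∧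
    apM mT1 1 = 1 ^^^ 2 ∧ apM mZ 1 = 1 ^^^ 4 := by decide +kernel

theorem low_eq : ([0, 2, 4, 6, 8, 10, 12, 14] : List ℕ).all (fun x => (spanX [2, 4, 8]).contains x) = true := by
  decide +kernel

theorem even_eq : ∀ v : Fin 64, (v : ℕ) % 2 = 0 → (v : ℕ) ∈ spanX [2, 4, 8, 16, 32] := by decide +kernel

theorem all_eq : ∀ v : Fin 64, (v : ℕ) ∈ spanX [1, 2, 4, 8, 16, 32] := by decide +kernel

theorem zz (v : ℕ) (hv : v < 64) : apM mZ (apM mZ v) = v := by
  have h : ∀ v' : Fin 64, apM mZ (apM mZ v') = v' := by decide +kernel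
  exact h ⟨v, hv⟩

/-! ### Spans -/

theorem spanX_mem {P : ℕ → Prop} (h0 : P 0) (hx : ∀ a b, P a → P b → P (a ^^^ b)) :
    ∀ {l : List ℕ}, (∀ a ∈ l, P a) → ∀ x ∈ spanX l, P x
  | [], _, x, hx' => by
    simp only [spanX, List.mem_singleton] at hx'
    exact hx' ▸ h0
  | a :: l, hl, x, hx' => by
    simp only [spanX, List.mem_append, List.mem_map] at hx'
    have ih := fun y hy => spanX_mem h0 hx (fun b hb => hl b (List.mem_cons_of_mem _ hb)) (l := l) y hy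
    rcases hx' with hx' | ⟨y, hy, rfl⟩
    exacts [ih x hx', hx _ _ (ih y hy) (hl a (List.mem_cons_self ..))]

theorem xor_mem_spanX : ∀ {l : List ℕ} {x y : ℕ}, x ∈ spanX l → y ∈ spanX l → x ^^^ y ∈ spanX l
  | [], x, y, hx, hy => by
    simp only [spanX, List.mem_singleton] at hx hy ⊢
    simp [hx, hy]
  | a :: l, x, y, hx, hy => by
    simp only [spanX, List.mem_append, List.mem_map] at hx hy ⊢
    rcases hx with hx | ⟨x', hx, rfl⟩ <;> rcases hy with hy | ⟨y', hy, rfl⟩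
    · exact Or.inl (xor_mem_spanX hx hy)
    · exact Or.inr ⟨_, xor_mem_spanX hx hy, Nat.xor_assoc _ _ _⟩
    · exact Or.inr ⟨_, xor_mem_spanX hx hy, by simp [Nat.xor_comm, Nat.xor_left_comm]⟩
    · refine Or.inl ?_
      rw [show x' ^^^ a ^^^ (y' ^^^ a) = x' ^^^ y' by
        rw [Nat.xor_assoc, Nat.xor_comm y' a, ← Nat.xor_assoc a a y', Nat.xor_self, Nat.zero_xor]]
      exact xor_mem_spanX hx hy

theorem mem_spanX_self : ∀ {l : List ℕ}, 0 ∈ spanX l ∧ ∀ a ∈ l, a ∈ spanX l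
  | [] => by simp [spanX]
  | b :: l => by
    obtain ⟨h0, h1⟩ := mem_spanX_self (l := l)
    refine ⟨List.mem_append_left _ h0, fun a ha => ?_⟩
    rcases List.mem_cons.mp ha with rfl | ha
    · exact List.mem_append_right _ (List.mem_map.mpr ⟨0, h0, by simp⟩)
    · exact List.mem_append_left _ (h1 a ha)

theorem length_spanX : ∀ l : List ℕ, (spanX l).length = 2 ^ l.length
  | [] => rfl
  | a :: l => by simp [spanX, length_spanX l, pow_succ]; omega

/-! ### Maps of odd period -/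

/-- A linear map of odd period. -/
structure OddMap (c : ℕ → ℕ) : Prop where
  lin : Lin c
  per : ∃ n, Odd n ∧ ∀ v, v < 64 → c^[n] v = v

namespace OddMap

variable {c : ℕ → ℕ} (h : OddMap c)
include h

theorem iter_lt {v : ℕ} (hv : v < 64) : ∀ k, c^[k] v < 64
  | 0 => hv
  | k + 1 => by rw [Function.iterate_succ_apply']; exact h.lin.lt _ (iter_lt hv k)

theorem inj {u v : ℕ} (hu : u < 64) (hv : v < 64) (e : c u = c v) : u = v := by
  obtain ⟨n, ⟨m, hn⟩, hp⟩ := h.per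
  rw [← hp u hu, ← hp v hv, hn]
  show c^[2 * m] (c u) = c^[2 * m] (c v)
  rw [e]

theorem step {v w : ℕ} (hv : v < 64) (hw : w < 64) (hcw : c w = w) (hcv : c v = v ^^^ w) : w = 0 := by
  have key : ∀ k, c^[k] v = if Odd k then v ^^^ w else v := by
    intro k
    induction k with
    | zero => simp
    | succ k ih =>
      rw [Function.iterate_succ_apply', ih]
      by_cases hk : Odd k
      · rw [if_pos hk, if_neg (Nat.not_odd_iff_even.mpr hk.add_one), h.lin.add v hv w hw, hcv, hcw, Nat.xor_assoc,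
          Nat.xor_self, Nat.xor_zero]
      · rw [if_neg hk, if_pos (Nat.not_odd_iff_even.mp hk).add_one, hcv]
  obtain ⟨n, hn, hp⟩ := h.per
  have := hp v hv
  rw [key, if_pos hn] at this
  have e : v ^^^ (v ^^^ w) = v ^^^ v := by rw [this]
  simpa [← Nat.xor_assoc] using e

theorem fix_of_diff {v : ℕ} (hv : v < 64) (hw : c (c v ^^^ v) = c v ^^^ v) : c v = v := by
  have h0 := h.step hv (xor_lt64 (h.lin.lt v hv) hv) hw (by
    rw [Nat.xor_comm (c v), ← Nat.xor_assoc, Nat.xor_self, Nat.zero_xor])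
  exact Nat.xor_eq_zero_iff.mp h0

theorem fix_of_sq {v : ℕ} (hv : v < 64) (hh : c (c v) = v) : c v = v := by
  refine h.fix_of_diff hv ?_
  rw [h.lin.add _ (h.lin.lt v hv) _ hv, hh, Nat.xor_comm]

theorem sq : OddMap (fun v => c (c v)) := by
  obtain ⟨n, hn, hp⟩ := h.per
  refine ⟨h.lin.comp h.lin, n, hn, fun v hv => ?_⟩
  have e : (fun v => c (c v))^[n] = c^[2 * n] := (Function.iterate_mul c 2 n).symm
  rw [e, two_mul, Function.iterate_add_apply, hp v hv, hp v hv]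

theorem fix_spanX {l : List ℕ} (hl : ∀ a ∈ l, a < 64 ∧ c a = a) {x : ℕ} (hx : x ∈ spanX l) : c x = x :=
  (spanX_mem (P := fun a => a < 64 ∧ c a = a) ⟨by omega, h.lin.zero⟩
    (fun a b ha hb => ⟨xor_lt64 ha.1 hb.1, by rw [h.lin.add a ha.1 b hb.1, ha.2, hb.2]⟩) hl x hx).2

theorem fix_low (h2 : c 2 = 2) (h4 : c 4 = 4) (h8 : c 8 = 8) {x : ℕ} (hx : x ∈ [0, 2, 4, 6, 8, 10, 12, 14]) :
    c x = x := by
  refine h.fix_spanX (l := [2, 4, 8]) ?_ (by simpa using List.all_eq_true.mp low_eq x hx)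
  simp [h2, h4, h8]

theorem fix_even (h2 : c 2 = 2) (h4 : c 4 = 4) (h8 : c 8 = 8) (h16 : c 16 = 16) (h32 : c 32 = 32) {x : ℕ}
    (hx : x < 64) (he : x % 2 = 0) : c x = x := by
  refine h.fix_spanX (l := [2, 4, 8, 16, 32]) ?_ (even_eq ⟨x, hx⟩ he)
  simp [h2, h4, h8, h16, h32]

end OddMap

/-! ### The shape of the endomorphisms commuting with the first four group -/

/-- Commuting with the first four group. -/
structure CommE (f : ℕ → ℕ) : Prop where
  lin : Lin f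
  cz : ∀ v, v < 64 → f (apM mZ v) = apM mZ (f v)
  ct : ∀ v, v < 64 → f (apM mT1 v) = apM mT1 (f v)

namespace CommE

variable {f : ℕ → ℕ} (h : CommE f)
include h

theorem derived : f 8 = f 16 ^^^ apM mT1 (f 16) ∧ f 8 = f 32 ^^^ apM mZ (f 32) ∧
    f 2 = f 1 ^^^ apM mT1 (f 1) ∧ f 4 = f 1 ^^^ apM mZ (f 1) ∧ apM mZ (f 16) = f 16 ∧ apM mT1 (f 32) = f 32 := by
  obtain ⟨e1, e2, e3, e4, e5, e6⟩ := unit_vals
  refine ⟨?_, ?_, ?_, ?_, ?_, ?_⟩
  · rw [← h.ct 16 (by omega), e3, h.lin.add 16 (by omega) 8 (by omega), ← Nat.xor_assoc, Nat.xor_self, Nat.zero_xor]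
  · rw [← h.cz 32 (by omega), e4, h.lin.add 32 (by omega) 8 (by omega), ← Nat.xor_assoc, Nat.xor_self, Nat.zero_xor]
  · rw [← h.ct 1 (by omega), e5, h.lin.add 1 (by omega) 2 (by omega), ← Nat.xor_assoc, Nat.xor_self, Nat.zero_xor]
  · rw [← h.cz 1 (by omega), e6, h.lin.add 1 (by omega) 4 (by omega), ← Nat.xor_assoc, Nat.xor_self, Nat.zero_xor]
  · rw [← h.cz 16 (by omega), e1]
  · rw [← h.ct 32 (by omega), e2]

/-- The two diagonal bits. -/
theorem cases_a : (f 8 = 0 ∧ f 16 ∈ [0, 2, 4, 6, 8, 10, 12, 14] ∧ f 32 ∈ [0, 2, 4, 6, 8, 10, 12, 14]) ∨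
    (f 8 = 8 ∧ f 16 ^^^ 16 ∈ [0, 2, 4, 6, 8, 10, 12, 14] ∧ f 32 ^^^ 32 ∈ [0, 2, 4, 6, 8, 10, 12, 14]) := by
  obtain ⟨d1, d2, -, -, d5, d6⟩ := h.derived
  have := comm_pair ⟨f 16, h.lin.lt 16 (by omega)⟩ ⟨f 32, h.lin.lt 32 (by omega)⟩ d5 d6 (d1.symm.trans d2)
  rw [d1]
  exact this

theorem cases_b : (f 1 % 2 = 0 ∧ f 2 ∈ [0, 8] ∧ f 4 ∈ [0, 8]) ∨ (f 1 % 2 = 1 ∧ f 2 ∈ [2, 10] ∧ f 4 ∈ [4, 12]) := by
  obtain ⟨-, -, d3, d4, -, -⟩ := h.derived
  rw [d3, d4]
  exact comm_one ⟨f 1, h.lin.lt 1 (by omega)⟩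

end CommE

/-- **No odd order element centralises the first four group.** -/
theorem eq_of_commE {c : ℕ → ℕ} (hc : OddMap c) (h : CommE c) {v : ℕ} (hv : v < 64) : c v = v := by
  have hinj := fun {u w : ℕ} (hu : u < 64) (hw : w < 64) => hc.inj (u := u) (v := w) hu hw
  have hz := hc.lin.zero
  rcases h.cases_a with ⟨a8, -, -⟩ | ⟨a8, a16, a32⟩
  · exact absurd (hinj (by omega) (by omega) (a8.trans hz.symm)) (by omega)
  rcases h.cases_b with ⟨-, b2, -⟩ | ⟨b1, b2, b4⟩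
  · simp only [List.mem_cons, List.not_mem_nil, or_false] at b2
    rcases b2 with e | e
    · exact absurd (hinj (by omega) (by omega) (e.trans hz.symm)) (by omega)
    · exact absurd (hinj (by omega) (by omega) (e.trans a8.symm)) (by omega)
  have hd : ∀ {x : ℕ}, x < 64 → (c x ^^^ x = 0 ∨ c x ^^^ x = 8) → c x = x := by
    intro x hx hd
    refine hc.fix_of_diff hx ?_
    rcases hd with e | e <;> rw [e]
    exacts [hz, a8]
  have h2 : c 2 = 2 := hd (by omega) (by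
    simp only [List.mem_cons, List.not_mem_nil, or_false] at b2
    rcases b2 with e | e <;> rw [e] <;> simp)
  have h4 : c 4 = 4 := hd (by omega) (by
    simp only [List.mem_cons, List.not_mem_nil, or_false] at b4
    rcases b4 with e | e <;> rw [e] <;> simp)
  have h16 : c 16 = 16 := hc.fix_of_diff (by omega) (hc.fix_low h2 h4 a8 a16)
  have h32 : c 32 = 32 := hc.fix_of_diff (by omega) (hc.fix_low h2 h4 a8 a32)
  have h1 : c 1 = 1 := by
    refine hc.fix_of_diff (by omega) (hc.fix_even h2 h4 a8 h16 h32 (xor_lt64 (hc.lin.lt 1 (by omega)) (by omega)) ?_)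
    have h0 : (c 1 ^^^ 1).testBit 0 = false := by simp [Nat.testBit_xor, Nat.testBit_zero, b1]; omega
    simp [Nat.testBit_zero] at h0
    simp
    omega
  refine hc.fix_spanX (l := [1, 2, 4, 8, 16, 32]) ?_ (all_eq ⟨v, hv⟩)
  simp [h1, h2, h4, a8, h16, h32]

/-- Two copies of a set of fixed vectors of an inverting involution are independent. -/
theorem pigeon {c f : ℕ → ℕ} (hc : OddMap c) (hinv : ∀ v, v < 64 → apM mZ (c (apM mZ (c v))) = v)
    (hker : ∀ v, v < 64 → c v = v → f v = 0) (U M : List ℕ) (hU : ∀ u ∈ U, u < 64 ∧ apM mZ u = u)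
    (hnd : U.Nodup) (hxor : ∀ u ∈ U, ∀ w ∈ U, u ^^^ w ∈ U) (hne : ∀ u ∈ U, u ≠ 0 → f u ≠ 0)
    (hM : ∀ u ∈ U, ∀ w ∈ U, u ^^^ c w ∈ M) (hlen : M.length < U.length * U.length) : False := by
  have hinj : ∀ p ∈ U.product U, ∀ q ∈ U.product U, p.1 ^^^ c p.2 = q.1 ^^^ c q.2 → p = q := by
    intro p hp q hq e
    rw [List.pair_mem_product] at hp hq
    set u := p.1 ^^^ q.1
    set w := p.2 ^^^ q.2 with hw
    have hu' := hxor _ hp.1 _ hq.1
    have hw' := hxor _ hp.2 _ hq.2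
    obtain ⟨hu64, hzu⟩ := hU _ hu'
    obtain ⟨hw64, hzw⟩ := hU _ hw'
    have huw : p.1 ^^^ q.1 = c w := by
      rw [hw, hc.lin.add _ (hU _ hp.2).1 _ (hU _ hq.2).1]
      have : p.1 ^^^ q.1 ^^^ (c p.2 ^^^ c q.2) = 0 := by
        rw [show p.1 ^^^ q.1 ^^^ (c p.2 ^^^ c q.2) = (p.1 ^^^ c p.2) ^^^ (q.1 ^^^ c q.2) by
          simp [Nat.xor_comm, Nat.xor_left_comm], e, Nat.xor_self]
      exact Nat.xor_eq_zero_iff.mp this
    have hcc : c (c w) = w := by
      have h1 := hinv w hw64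
      rw [← huw, hzu, huw] at h1
      calc c (c w) = apM mZ (apM mZ (c (c w))) := by
            rw [← hc.lin.eq_apM (v := c w) (hc.lin.lt w hw64)]
            exact (zz _ (apM_lt hc.lin.mat_lt _)).symm
        _ = apM mZ w := by rw [h1]
        _ = w := hzw
    have hfix := hc.fix_of_sq hw64 hcc
    have hw0 : w = 0 := by
      by_contra hne'
      exact hne w hw' hne' (hker w hw64 hfix)
    have h2 : p.2 = q.2 := Nat.xor_eq_zero_iff.mp hw0
    rw [hw0, hc.lin.zero] at huw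
    exact Prod.ext (Nat.xor_eq_zero_iff.mp huw) h2
  have hle : (U.product U).length ≤ M.length := by
    have hnd' : ((U.product U).map fun p => p.1 ^^^ c p.2).Nodup :=
      (List.nodup_map_iff_inj_on (hnd.product hnd)).mpr hinj
    rw [← List.length_map (f := fun p : ℕ × ℕ => p.1 ^^^ c p.2)]
    refine (List.Subperm.length_le ?_)
    refine hnd'.subperm fun x hx => ?_
    obtain ⟨p, hp, rfl⟩ := List.mem_map.mp hx
    rw [List.pair_mem_product] at hp
    exact hM _ hp.1 _ hp.2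
  have : (U.product U).length = U.length * U.length := List.length_product U U
  omega

end CfsgM24Q
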