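import Cfsg.Agent.Lib.M24Quot.LinFacts

/-!
No element of odd order is centralised by a noncentral involution and inverted by the central one, or
centralised by the element of order four and inverted by a noncentral involution.
-/

set_option autoImplicit false
set_option maxRecDepth 4000

namespace CfsgM24Q

theorem tu_eq (v : ℕ) (hv : v < 64) : apM mT1 v = apM mZ (apM mU v) := by
  have h : ∀ v' : Fin 64, apM mT1 v' = apM mZ (apM mU v') := by decide +kernel
  exact h ⟨v, hv⟩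

theorem mat_lt64 : (∀ x ∈ mZ, x < 64) ∧ (∀ x ∈ mT1, x < 64) ∧ (∀ x ∈ mT2, x < 64) ∧ (∀ x ∈ mU, x < 64) ∧
    (∀ x ∈ mS, x < 64) := by decide +kernel

theorem pat_both : ∀ d2 d4 : Fin 2, ∀ n : Fin 8, ∀ u : Fin 64, (u : ℕ) ∈ spanX [2, 4, 8, 16] → (u : ℕ) ≠ 0 →
    apM [0, 2 ^^^ 8 * (d2 : ℕ), 4 ^^^ 8 * (d4 : ℕ), 8, 16 ^^^ 2 * (n : ℕ), 0] u ≠ 0 := by decide +kernel

theorem fix_both : ∀ u : Fin 64, (u : ℕ) ∈ spanX [2, 4, 8, 16] → apM mZ u = u := by decide +kernel

theorem apM_congr16 : ∀ u : Fin 64, (u : ℕ) ∈ spanX [2, 4, 8, 16] → (u : ℕ) % 2 = 0 ∧ (u : ℕ) / 32 = 0 := by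
  decide +kernel

theorem low_of_xor16 : ∀ v : Fin 64, (v : ℕ) ^^^ 16 ∈ [0, 2, 4, 6, 8, 10, 12, 14] →
    ∃ n : Fin 8, (v : ℕ) = 16 ^^^ 2 * (n : ℕ) := by decide +kernel

theorem low_even : ∀ x ∈ ([0, 2, 4, 6, 8, 10, 12, 14] : List ℕ), x < 64 ∧ x % 2 = 0 ∧ x ∈ spanX [2, 4, 8] := by
  decide +kernel

/-- **The inverted elements.** -/
theorem eq_of_inverted {c : ℕ → ℕ} (hc : OddMap c)
    (hinv : ∀ v, v < 64 → apM mZ (c (apM mZ (c v))) = v)
    (ht : (∀ v, v < 64 → c (apM mT1 v) = apM mT1 (c v)) ∨ (∀ v, v < 64 → c (apM mU v) = apM mU (c v)))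
    {v : ℕ} (hv : v < 64) : c v = v := by
  obtain ⟨hZl, hTl, -, hUl, -⟩ := mat_lt64
  obtain ⟨n, ⟨m, hn⟩, hp⟩ := hc.per
  set ci := fun v => c^[2 * m] v with hci
  have hcil : ∀ v, v < 64 → ci v < 64 := fun v hv => hc.iter_lt hv _
  have hci1 : ∀ v, v < 64 → c (ci v) = v := fun v hv => by
    show c (c^[2 * m] v) = v
    rw [← Function.iterate_succ_apply' c (2 * m) v]
    show c^[2 * m + 1] v = v
    exact hn ▸ hp v hv
  have hci2 : ∀ v, v < 64 → ci (c v) = v := fun v hv => by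
    show c^[2 * m + 1] v = v
    exact hn ▸ hp v hv
  have hlinci : Lin ci := ⟨hcil, fun u hu v hv => hc.inj (hcil _ (xor_lt64 hu hv)) (xor_lt64 (hcil u hu) (hcil v hv)) (by
    rw [hci1 _ (xor_lt64 hu hv), hc.lin.add _ (hcil u hu) _ (hcil v hv), hci1 u hu, hci1 v hv])⟩
  have hz1 : ∀ v, v < 64 → apM mZ (c v) = ci (apM mZ v) := fun v hv => by
    have hl : apM mZ (c v) < 64 := apM_lt hZl _
    refine hc.inj hl (hcil _ (apM_lt hZl _)) ?_
    rw [hci1 _ (apM_lt hZl _)]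
    have := congrArg (apM mZ) (hinv v hv)
    rwa [zz _ (hc.lin.lt _ hl)] at this
  have hz2 : ∀ v, v < 64 → c (apM mZ v) = apM mZ (ci v) := fun v hv => by
    have := hz1 (ci v) (hcil v hv)
    rw [hci1 v hv] at this
    rw [this, hci1 _ (apM_lt hZl _)]
  set f := fun v => c v ^^^ ci v with hf
  have hfl : Lin f := hc.lin.xor hlinci
  have hfz : ∀ v, v < 64 → f (apM mZ v) = apM mZ (f v) := fun v hv => by
    show c (apM mZ v) ^^^ ci (apM mZ v) = apM mZ (c v ^^^ ci v)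
    rw [hz2 v hv, ← hz1 v hv, apM_add, Nat.xor_comm]
  have hcomm : ∀ {X : List ℕ}, (∀ x ∈ X, x < 64) → (∀ v, v < 64 → c (apM X v) = apM X (c v)) →
      ∀ v, v < 64 → f (apM X v) = apM X (f v) := by
    intro X hX hcX v hv
    have hciX : ci (apM X v) = apM X (ci v) := hc.inj (hcil _ (apM_lt hX _)) (apM_lt hX _) (by
      rw [hci1 _ (apM_lt hX _), hcX _ (hcil v hv), hci1 v hv])
    show c (apM X v) ^^^ ci (apM X v) = apM X (c v ^^^ ci v)
    rw [hcX v hv, hciX, apM_add]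
  have hE : CommE f := ⟨hfl, hfz, fun v hv => by
    rcases ht with ht | ht
    · exact hcomm hTl ht v hv
    · rw [tu_eq v hv, hfz _ (apM_lt hUl _), hcomm hUl ht v hv, ← tu_eq _ (hfl.lt v hv)]⟩
  have hfc : ∀ v, v < 64 → f (c v) = c (f v) := fun v hv => by
    show c (c v) ^^^ ci (c v) = c (c v ^^^ ci v)
    rw [hc.lin.add _ (hc.lin.lt v hv) _ (hcil v hv), hci2 v hv, hci1 v hv]
  have hker : ∀ v, v < 64 → c v = v → f v = 0 := fun v hv h => by
    show c v ^^^ ci v = 0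
    have e : ci v = v := by
      have h' := hci2 v hv
      rwa [h] at h'
    rw [h, e, Nat.xor_self]
  -- vectors with fixed image are fixed
  have hfix : ∀ v, v < 64 → c (f v) = f v → c v = v := fun v hv h => by
    have h1 : c (c v) ^^^ v = c v ^^^ ci v := by
      have : c (c v ^^^ ci v) = c v ^^^ ci v := h
      rwa [hc.lin.add _ (hc.lin.lt v hv) _ (hcil v hv), hci1 v hv] at this
    have h2 := hc.sq.fix_of_diff hv (v := v) (by
      show c (c (c (c v) ^^^ v)) = c (c v) ^^^ v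
      have hw : c (f v) = f v := h
      rw [h1]
      show c (c (f v)) = f v
      rw [hw, hw])
    exact hc.fix_of_sq hv h2
  have h0 := hc.lin.zero
  have hf0 : f 0 = 0 := hfl.zero
  rcases hE.cases_a with ⟨a8, a16, a32⟩ | ⟨a8, a16, a32⟩ <;> rcases hE.cases_b with ⟨b1, b2, b4⟩ | ⟨b1, b2, b4⟩
  · -- nilpotent
    have h8 : c 8 = 8 := hfix 8 (by omega) (by rw [a8, h0])
    have hsmall : ∀ x : ℕ, x ∈ [0, 8] → c x = x := fun x hx => by
      simp only [List.mem_cons, List.not_mem_nil, or_false] at hx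
      rcases hx with rfl | rfl
      exacts [h0, h8]
    have h2 := hfix 2 (by omega) (hsmall _ b2)
    have h4 := hfix 4 (by omega) (hsmall _ b4)
    have h16 := hfix 16 (by omega) (hc.fix_low h2 h4 h8 a16)
    have h32 := hfix 32 (by omega) (hc.fix_low h2 h4 h8 a32)
    have h1 := hfix 1 (by omega) (hc.fix_even h2 h4 h8 h16 h32 (hfl.lt 1 (by omega)) b1)
    refine hc.fix_spanX (l := [1, 2, 4, 8, 16, 32]) ?_ (all_eq ⟨v, hv⟩)
    simp [h1, h2, h4, h8, h16, h32]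
  · -- injective on the low half only
    exfalso
    have hlowimg : ∀ x ∈ ([0, 2, 4, 6, 8, 10, 12, 14] : List ℕ), f x ∈ spanX [f 2, f 4] := by
      intro x hx
      refine (spanX_mem (P := fun a => a < 64 ∧ f a ∈ spanX [f 2, f 4]) ⟨by omega, by rw [hf0]; exact mem_spanX_self.1⟩
        (fun a b ha hb => ⟨xor_lt64 ha.1 hb.1, by rw [hfl.add a ha.1 b hb.1]; exact xor_mem_spanX ha.2 hb.2⟩)
        ?_ x (low_even x hx).2.2).2
      intro a ha
      simp only [List.mem_cons, List.not_mem_nil, or_false] at ha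
      rcases ha with rfl | rfl | rfl
      · exact ⟨by omega, mem_spanX_self.2 _ (by simp)⟩
      · exact ⟨by omega, mem_spanX_self.2 _ (by simp)⟩
      · exact ⟨by omega, by rw [a8]; exact mem_spanX_self.1⟩
    set M := spanX [f (f 1), f 2, f 4] with hM
    have hsub : ∀ x ∈ spanX [f 2, f 4], x ∈ M := fun x hx => List.mem_append_left _ hx
    have hl2 : ∀ x ∈ [2, 10], x ∈ ([0, 2, 4, 6, 8, 10, 12, 14] : List ℕ) ∧ x % 8 = 2 ∧ x < 16 := by decide
    have hl4 : ∀ x ∈ [4, 12], x ∈ ([0, 2, 4, 6, 8, 10, 12, 14] : List ℕ) ∧ x % 8 = 4 ∧ x < 16 := by decide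
    have hsq : ∀ a, a < 64 → f (f a) ∈ M := by
      intro a ha
      refine (spanX_mem (P := fun a => a < 64 ∧ f (f a) ∈ M) ⟨by omega, by rw [hf0, hf0]; exact mem_spanX_self.1⟩
        (fun a b ha hb => ⟨xor_lt64 ha.1 hb.1, by
          rw [hfl.add a ha.1 b hb.1, hfl.add _ (hfl.lt a ha.1) _ (hfl.lt b hb.1)]
          exact xor_mem_spanX ha.2 hb.2⟩) ?_ a (all_eq ⟨a, ha⟩)).2
      intro a ha
      simp only [List.mem_cons, List.not_mem_nil, or_false] at ha
      rcases ha with rfl | rfl | rfl | rfl | rfl | rfl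
      · exact ⟨by omega, mem_spanX_self.2 _ (by simp)⟩
      · exact ⟨by omega, hsub _ (hlowimg _ (hl2 _ b2).1)⟩
      · exact ⟨by omega, hsub _ (hlowimg _ (hl4 _ b4).1)⟩
      · exact ⟨by omega, by rw [a8, hf0]; exact mem_spanX_self.1⟩
      · exact ⟨by omega, hsub _ (hlowimg _ a16)⟩
      · exact ⟨by omega, hsub _ (hlowimg _ a32)⟩
    have hf2 : ∀ x ∈ ([2, 10] : List ℕ), f x = f 2 := by
      intro x hx
      simp only [List.mem_cons, List.not_mem_nil, or_false] at hx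
      rcases hx with rfl | rfl
      · rfl
      · rw [show (10 : ℕ) = 2 ^^^ 8 from rfl, hfl.add 2 (by omega) 8 (by omega), a8, Nat.xor_zero]
    have hf4 : ∀ x ∈ ([4, 12] : List ℕ), f x = f 4 := by
      intro x hx
      simp only [List.mem_cons, List.not_mem_nil, or_false] at hx
      rcases hx with rfl | rfl
      · rfl
      · rw [show (12 : ℕ) = 4 ^^^ 8 from rfl, hfl.add 4 (by omega) 8 (by omega), a8, Nat.xor_zero]
    have hU : ∀ u ∈ spanX [f 2, f 4], u < 64 ∧ apM mZ u = u ∧ (u ≠ 0 → f u ≠ 0) ∧ f (f u) = f u := by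
      simp only [List.mem_cons, List.not_mem_nil, or_false] at b2 b4
      intro u hu
      have k : ∀ a b, (a = 2 ∨ a = 10) → (b = 4 ∨ b = 12) → ∀ u ∈ spanX [a, b],
          u < 16 ∧ apM mZ u = u ∧ (u ≠ 0 → u ≠ 8) ∧ u ∈ spanX [a, b] := by
        rintro a b (rfl | rfl) (rfl | rfl) <;> decide
      obtain ⟨k1, k2, -, -⟩ := k _ _ b2 b4 u hu
      have kk : f u = u ∧ True := ⟨(spanX_mem (P := fun a => a < 64 ∧ f a = a) ⟨by omega, hf0⟩
        (fun a b ha hb => ⟨xor_lt64 ha.1 hb.1, by rw [hfl.add a ha.1 b hb.1, ha.2, hb.2]⟩) (by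
          intro a ha
          simp only [List.mem_cons, List.not_mem_nil, or_false] at ha
          rcases ha with rfl | rfl
          · exact ⟨hfl.lt 2 (by omega), hf2 _ (by simpa using b2)⟩
          · exact ⟨hfl.lt 4 (by omega), hf4 _ (by simpa using b4)⟩) u hu).2, trivial⟩
      exact ⟨by omega, k2, fun hne => by rw [kk.1]; exact hne, by rw [kk.1, kk.1]⟩
    refine pigeon hc hinv hker (spanX [f 2, f 4]) M (fun u hu => ⟨(hU u hu).1, (hU u hu).2.1⟩) ?_
      (fun u hu w hw => xor_mem_spanX hu hw) (fun u hu => (hU u hu).2.2.1) (fun u hu w hw => ?_)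
      (by rw [hM, length_spanX, length_spanX]; simp)
    · have k : ∀ a ∈ [2, 10], ∀ b ∈ [4, 12], (spanX [a, b]).Nodup := by decide
      exact k _ b2 _ b4
    · refine xor_mem_spanX (hsub u hu) ?_
      have e : c w = f (f (c w)) := by
        obtain ⟨h64, -, -, hff⟩ := hU w hw
        rw [hfc w h64, hfc _ (hfl.lt w h64), hff]
        have : f w = w := by
          have := (spanX_mem (P := fun a => a < 64 ∧ f a = a) ⟨by omega, hf0⟩
            (fun a b ha hb => ⟨xor_lt64 ha.1 hb.1, by rw [hfl.add a ha.1 b hb.1, ha.2, hb.2]⟩) (by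
              intro a ha
              simp only [List.mem_cons, List.not_mem_nil, or_false] at ha
              rcases ha with rfl | rfl
              · exact ⟨hfl.lt 2 (by omega), hf2 _ b2⟩
              · exact ⟨hfl.lt 4 (by omega), hf4 _ b4⟩) w hw).2
          exact this
        rw [this]
      rw [e]
      exact hsq _ (hc.lin.lt w (hU w hw).1)
  · -- injective on the high half only
    exfalso
    set M := spanX [8, f 16, f 32] with hM
    have hev : ∀ a, a < 64 → a % 2 = 0 → f a ∈ M := by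
      intro a ha he
      refine (spanX_mem (P := fun a => a < 64 ∧ f a ∈ M) ⟨by omega, by rw [hf0]; exact mem_spanX_self.1⟩
        (fun a b ha hb => ⟨xor_lt64 ha.1 hb.1, by rw [hfl.add a ha.1 b hb.1]; exact xor_mem_spanX ha.2 hb.2⟩)
        ?_ a (even_eq ⟨a, ha⟩ he)).2
      intro a ha
      have h08 : ∀ x ∈ [0, 8], x ∈ M := by
        intro x hx
        simp only [List.mem_cons, List.not_mem_nil, or_false] at hx
        rcases hx with rfl | rfl
        exacts [mem_spanX_self.1, mem_spanX_self.2 _ (by simp)]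
      simp only [List.mem_cons, List.not_mem_nil, or_false] at ha
      rcases ha with rfl | rfl | rfl | rfl | rfl
      · exact ⟨by omega, h08 _ b2⟩
      · exact ⟨by omega, h08 _ b4⟩
      · exact ⟨by omega, by rw [a8]; exact h08 _ (by simp)⟩
      · exact ⟨by omega, mem_spanX_self.2 _ (by simp)⟩
      · exact ⟨by omega, mem_spanX_self.2 _ (by simp)⟩
    have k16 : ∀ y : Fin 64, (y : ℕ) ^^^ 16 ∈ [0, 2, 4, 6, 8, 10, 12, 14] →
        (y : ℕ) % 2 = 0 ∧ apM mZ y = y ∧ (y : ℕ) / 16 = 1 ∧ (spanX [8, (y : ℕ)]).Nodup := by decide +kernel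
    have k32 : ∀ y : Fin 64, (y : ℕ) ^^^ 32 ∈ [0, 2, 4, 6, 8, 10, 12, 14] → (y : ℕ) % 2 = 0 := by decide +kernel
    obtain ⟨y, hy, hy64, hyf⟩ : ∃ y, y = f 16 ∧ y < 64 ∧ ∀ x, x < 64 → x ^^^ 16 ∈ [0, 2, 4, 6, 8, 10, 12, 14] →
        f x ^^^ 16 ∈ [0, 2, 4, 6, 8, 10, 12, 14] := by
      refine ⟨f 16, rfl, hfl.lt 16 (by omega), fun x hx hx16 => ?_⟩
      have hlow : ∀ a ∈ ([0, 2, 4, 6, 8, 10, 12, 14] : List ℕ), f a ∈ ([0, 8] : List ℕ) := by
        intro a ha
        refine (spanX_mem (P := fun a => a < 64 ∧ f a ∈ ([0, 8] : List ℕ)) ⟨by omega, by rw [hf0]; simp⟩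
          (fun a b ha hb => ⟨xor_lt64 ha.1 hb.1, by
            rw [hfl.add a ha.1 b hb.1]
            exact (show ∀ p ∈ ([0, 8] : List ℕ), ∀ q ∈ ([0, 8] : List ℕ), p ^^^ q ∈ ([0, 8] : List ℕ) by decide) _ ha.2 _ hb.2⟩)
          ?_ a (low_even a ha).2.2).2
        intro a ha
        simp only [List.mem_cons, List.not_mem_nil, or_false] at ha
        rcases ha with rfl | rfl | rfl
        exacts [⟨by omega, b2⟩, ⟨by omega, b4⟩, ⟨by omega, by rw [a8]; simp⟩]
      have e : f x = f 16 ^^^ f (x ^^^ 16) := by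
        rw [← hfl.add 16 (by omega) _ (low_even _ hx16).1, Nat.xor_comm x, ← Nat.xor_assoc, Nat.xor_self,
          Nat.zero_xor]
      rw [e, Nat.xor_comm (f 16), Nat.xor_assoc]
      exact (show ∀ p ∈ ([0, 8] : List ℕ), ∀ q ∈ ([0, 2, 4, 6, 8, 10, 12, 14] : List ℕ),
        p ^^^ q ∈ ([0, 2, 4, 6, 8, 10, 12, 14] : List ℕ) by decide) _ (hlow _ hx16) _ a16
    subst hy
    obtain ⟨ey1, ey2, ey3, ey4⟩ := k16 ⟨_, hy64⟩ a16
    set w0 := f (f 16) with hw0
    have hw016 := hyf _ hy64 a16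
    obtain ⟨ew1, ew2, ew3, ew4⟩ := k16 ⟨w0, hfl.lt _ hy64⟩ hw016
    have hw0' := hyf _ (hfl.lt _ hy64) hw016
    obtain ⟨-, -, ew3', -⟩ := k16 ⟨f w0, hfl.lt _ (hfl.lt _ hy64)⟩ hw0'
    simp only at ey1 ey2 ey3 ey4 ew1 ew2 ew3 ew4 ew3'
    have hMl : ∀ x ∈ M, x < 64 ∧ x % 2 = 0 := by
      refine spanX_mem (P := fun a => a < 64 ∧ a % 2 = 0) ⟨by omega, rfl⟩ (fun a b ha hb => ⟨xor_lt64 ha.1 hb.1, by
        have : (a ^^^ b).testBit 0 = false := by
          simp [Nat.testBit_xor, Nat.testBit_zero, ha.2, hb.2]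
          try omega
        simpa [Nat.testBit_zero] using this⟩) ?_
      intro a ha
      simp only [List.mem_cons, List.not_mem_nil, or_false] at ha
      rcases ha with rfl | rfl | rfl
      exacts [⟨by omega, rfl⟩, ⟨hy64, ey1⟩, ⟨hfl.lt 32 (by omega), k32 ⟨_, hfl.lt 32 (by omega)⟩ a32⟩]
    have hff : ∀ a, a < 64 → f (f a) ∈ M := by
      intro a ha
      refine (spanX_mem (P := fun a => a < 64 ∧ f (f a) ∈ M) ⟨by omega, by rw [hf0, hf0]; exact mem_spanX_self.1⟩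
        (fun a b ha hb => ⟨xor_lt64 ha.1 hb.1, by
          rw [hfl.add a ha.1 b hb.1, hfl.add _ (hfl.lt a ha.1) _ (hfl.lt b hb.1)]
          exact xor_mem_spanX ha.2 hb.2⟩) ?_ a (all_eq ⟨a, ha⟩)).2
      intro a ha
      simp only [List.mem_cons, List.not_mem_nil, or_false] at ha
      have h08 : ∀ x ∈ [0, 8], x % 2 = 0 := by decide
      rcases ha with rfl | rfl | rfl | rfl | rfl | rfl
      · exact ⟨by omega, hev _ (hfl.lt 1 (by omega)) b1⟩
      · exact ⟨by omega, hev _ (hfl.lt 2 (by omega)) (h08 _ b2)⟩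
      · exact ⟨by omega, hev _ (hfl.lt 4 (by omega)) (h08 _ b4)⟩
      · exact ⟨by omega, hev _ (hfl.lt 8 (by omega)) (by rw [a8])⟩
      · exact ⟨by omega, hev _ (hfl.lt 16 (by omega)) ey1⟩
      · exact ⟨by omega, hev _ (hfl.lt 32 (by omega)) (k32 ⟨_, hfl.lt 32 (by omega)⟩ a32)⟩
    have hUr : ∀ u ∈ spanX [8, w0], u = 0 ∨ u = 8 ∨ u = w0 ∨ u = 8 ^^^ w0 := by
      intro u hu
      simp [spanX] at hu
      rcases hu with rfl | rfl | rfl | rfl <;> simp [Nat.xor_comm]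
    refine pigeon hc hinv hker (spanX [8, w0]) M (fun u hu => ?_) ew4 (fun u hu w hw => xor_mem_spanX hu hw)
      (fun u hu hne => ?_) (fun u hu w hw => ?_) (by rw [hM, length_spanX, length_spanX]; simp)
    · have h8 : apM mZ 8 = 8 := by decide +kernel
      rcases hUr u hu with rfl | rfl | rfl | rfl
      · exact ⟨by omega, (lin_apM hZl).zero⟩
      · exact ⟨by omega, h8⟩
      · exact ⟨hfl.lt _ hy64, ew2⟩
      · exact ⟨xor_lt64 (by omega) (hfl.lt _ hy64), by rw [apM_add, h8, ew2]⟩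
    · rcases hUr u hu with rfl | rfl | rfl | rfl
      · exact absurd rfl hne
      · rw [a8]; omega
      · intro e; rw [e] at ew3'; omega
      · rw [hfl.add 8 (by omega) _ (hfl.lt _ hy64), a8]
        intro e
        rw [Nat.xor_eq_zero_iff] at e
        rw [← e] at ew3'
        omega
    · have hpre : ∀ x ∈ spanX [8, w0], ∃ a, a < 64 ∧ f (f a) = x := by
        intro x hx
        rcases hUr x hx with rfl | rfl | rfl | rfl
        · exact ⟨0, by omega, by rw [hf0, hf0]⟩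
        · exact ⟨8, by omega, by rw [a8, a8]⟩
        · exact ⟨16, by omega, rfl⟩
        · exact ⟨8 ^^^ 16, by decide, by
            rw [hfl.add 8 (by omega) 16 (by omega), hfl.add _ (hfl.lt 8 (by omega)) _ hy64, a8, a8]⟩
      obtain ⟨a, ha, rfl⟩ := hpre u hu
      obtain ⟨b, hb, rfl⟩ := hpre w hw
      refine xor_mem_spanX (hff a ha) ?_
      rw [← hfc _ (hfl.lt b hb), ← hfc b hb]
      exact hff _ (hc.lin.lt b hb)
  · -- injective
    exfalso
    have k2 : ∀ x ∈ ([2, 10] : List ℕ), ∃ d : Fin 2, x = 2 ^^^ 8 * (d : ℕ) := by decide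
    have k4 : ∀ x ∈ ([4, 12] : List ℕ), ∃ d : Fin 2, x = 4 ^^^ 8 * (d : ℕ) := by decide
    obtain ⟨d2, e2⟩ := k2 _ b2
    obtain ⟨d4, e4⟩ := k4 _ b4
    obtain ⟨n, en⟩ := low_of_xor16 ⟨_, hfl.lt 16 (by omega)⟩ a16
    simp only at en
    have hUlt : ∀ u ∈ spanX [2, 4, 8, 16], u < 64 :=
      spanX_mem (P := fun a => a < 64) (by omega) (fun a b ha hb => xor_lt64 ha hb) (by decide)
    refine pigeon hc hinv hker (spanX [2, 4, 8, 16]) vecs (fun u hu => ⟨hUlt u hu, fix_both ⟨u, hUlt u hu⟩ hu⟩)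
      (by decide) (fun u hu w hw => xor_mem_spanX hu hw) (fun u hu hne => ?_)
      (fun u hu w hw => List.mem_range.mpr (xor_lt64 (hUlt u hu) (hc.lin.lt w (hUlt w hw))))
      (by rw [length_spanX]; simp [vecs])
    have hu64 := hUlt u hu
    rw [← hfl.eq_apM hu64]
    have key : apM (matOf f) u = apM [0, f 2, f 4, f 8, f 16, 0] u := by
      obtain ⟨p1, p2⟩ := apM_congr16 ⟨u, hu64⟩ hu
      simp only at p1 p2
      show apM [f 1, f 2, f 4, f 8, f 16, f 32] u = _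
      have hz : u / 2 / 2 / 2 / 2 / 2 = 0 := by omega
      simp only [apM_cons]
      rw [if_neg (show ¬ u % 2 = 1 by omega), if_neg (show ¬ u / 2 / 2 / 2 / 2 / 2 % 2 = 1 by omega)]
      simp [apM, p1, hz]
    rw [key, e2, e4, a8, en]
    exact pat_both d2 d4 n ⟨u, hu64⟩ hu hne

/-! ### The commutant of the element of order four -/

/-- The nilpotent part of the element of order four. -/
def nS (v : ℕ) : ℕ := v ^^^ apM mS v

theorem ns_facts : ∀ v : Fin 64, nS (nS v) ∈ [0, 4, 8, 12] ∧ (nS v = 0 → (v : ℕ) ∈ [0, 4, 8, 12]) ∧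
    (nS (nS v) = 0 → ∃ a : Fin 64, nS a = v) := by decide +kernel

theorem ns_image : ∀ x ∈ ([0, 4, 8, 12] : List ℕ), (∃ a : Fin 64, nS (nS a) = x) ∧ apM mT1 x = x := by
  decide +kernel

/-- **The elements commuting with the element of order four.** -/
theorem eq_of_c4 {c : ℕ → ℕ} (hc : OddMap c) (hs : ∀ v, v < 64 → c (apM mS v) = apM mS (c v))
    (hinv : ∀ v, v < 64 → apM mT1 (c (apM mT1 (c v))) = v) {v : ℕ} (hv : v < 64) : c v = v := by
  obtain ⟨-, hTl, -, -, hSl⟩ := mat_lt64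
  have hnl : ∀ {a}, a < 64 → nS a < 64 := fun {a} ha => xor_lt64 ha (apM_lt hSl _)
  have hcn : ∀ {a}, a < 64 → c (nS a) = nS (c a) := fun {a} ha => by
    show c (a ^^^ apM mS a) = c a ^^^ apM mS (c a)
    rw [hc.lin.add a ha _ (apM_lt hSl _), hs a ha]
  have tt : ∀ a : Fin 64, apM mT1 (apM mT1 a) = a := by decide +kernel
  have hK : ∀ x ∈ ([0, 4, 8, 12] : List ℕ), c x = x := by
    intro x hx
    have hx64 : x < 64 := (show ∀ y ∈ ([0, 4, 8, 12] : List ℕ), y < 64 by decide) x hx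
    obtain ⟨⟨a, rfl⟩, -⟩ := ns_image x hx
    refine hc.fix_of_sq hx64 ?_
    set y := nS (nS (a : ℕ)) with hy
    have hcy : c y ∈ ([0, 4, 8, 12] : List ℕ) := by
      rw [hy, hcn (hnl a.2), hcn a.2]
      exact (ns_facts ⟨_, hc.lin.lt _ a.2⟩).1
    have h1 := hinv y hx64
    rw [(ns_image _ hcy).2] at h1
    have h2 : c (c y) = apM mT1 y := by
      have := congrArg (apM mT1) h1
      rwa [tt ⟨c (c y), hc.lin.lt _ (hc.lin.lt _ hx64)⟩] at this
    rw [h2, (ns_image _ hx).2]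
  have hIm : ∀ a, a < 64 → c (nS a) = nS a := by
    intro a ha
    refine hc.fix_of_diff (hnl ha) (hK _ ((ns_facts ⟨_, xor_lt64 (hc.lin.lt _ (hnl ha)) (hnl ha)⟩).2.1 ?_))
    show (c (nS a) ^^^ nS a) ^^^ apM mS (c (nS a) ^^^ nS a) = 0
    rw [apM_add, show c (nS a) ^^^ nS a ^^^ (apM mS (c (nS a)) ^^^ apM mS (nS a)) =
      (c (nS a) ^^^ apM mS (c (nS a))) ^^^ (nS a ^^^ apM mS (nS a)) by simp [Nat.xor_comm, Nat.xor_left_comm]]
    show nS (c (nS a)) ^^^ nS (nS a) = 0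
    rw [← hcn (hnl ha), hK _ (ns_facts ⟨a, ha⟩).1, Nat.xor_self]
  refine hc.fix_of_diff hv ?_
  have hd := xor_lt64 (hc.lin.lt v hv) hv
  obtain ⟨a, ha⟩ := (ns_facts ⟨_, hd⟩).2.2 (by
    have hadd : ∀ {p q}, nS (p ^^^ q) = nS p ^^^ nS q := fun {p q} => by
      show (p ^^^ q) ^^^ apM mS (p ^^^ q) = (p ^^^ apM mS p) ^^^ (q ^^^ apM mS q)
      rw [apM_add]; simp [Nat.xor_comm, Nat.xor_left_comm]
    show nS (nS (c v ^^^ v)) = 0
    rw [hadd, hadd, ← hcn hv, ← hcn (hnl hv), hK _ (ns_facts ⟨v, hv⟩).1, Nat.xor_self])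
  simp only at ha
  rw [← ha]
  exact hIm _ a.2

end CfsgM24Q
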