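import Cfsg.Agent.Lib.M24Quot.LinFacts2
import Cfsg.Agent.Lib.InvolutionDihedralEight

/-!
Groups of linear maps of the vectors whose Sylow 2-subgroup is the given dihedral group: the centralizer of the
central involution is that subgroup and there is no odd core.
-/

set_option autoImplicit false
set_option maxRecDepth 4000
set_option linter.unusedSectionVars false

namespace CfsgM24Q

open Cfsg CfsgLib CfsgLib.InvolutionDihedralEight

theorem matOf_congr {f g : ℕ → ℕ} (h : ∀ v, v < 64 → f v = g v) : matOf f = matOf g :=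
  List.map_congr_left fun x hx => h x (idM_lt x hx)

theorem matOf_id : matOf (fun v => v) = idM := by decide

/-- Checks on a change of basis. -/
def mapOK (m mi : List ℕ) : Bool :=
  m.all (fun x => Nat.blt x 64) && mi.all (fun x => Nat.blt x 64) && eqM (matOf (apM m)) m &&
  eqM (matOf (apM mi)) mi && eqM (mulM m mi) idM && eqM (mulM mi m) idM &&
  mD8.all fun X => memL (mulM (mulM m X) mi) mD8 && memL (mulM (mulM mi X) m) mD8

theorem memL_iff {X : List ℕ} {L : List (List ℕ)} : memL X L = true ↔ X ∈ L := by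
  simp [memL, List.any_eq_true, eqM_iff]

theorem mapOK_iff {m mi : List ℕ} (h : mapOK m mi = true) :
    (∀ x ∈ m, x < 64) ∧ (∀ x ∈ mi, x < 64) ∧ matOf (apM m) = m ∧ matOf (apM mi) = mi ∧
    (∀ v, v < 64 → apM m (apM mi v) = v) ∧ (∀ v, v < 64 → apM mi (apM m v) = v) ∧
    ∀ X ∈ mD8, mulM (mulM m X) mi ∈ mD8 ∧ mulM (mulM mi X) m ∈ mD8 := by
  simp only [mapOK, Bool.and_eq_true, List.all_eq_true, Nat.blt_eq, eqM_iff, memL_iff] at h
  obtain ⟨⟨⟨⟨⟨⟨h1, h2⟩, h3⟩, h4⟩, h5⟩, h6⟩, h7⟩ := h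
  have hid : Lin (fun v => v) := ⟨fun _ h => h, fun _ _ _ _ => rfl⟩
  refine ⟨h1, h2, h3, h4, fun v hv => ?_, fun v hv => ?_, h7⟩
  · exact Lin.eq_of_mat ((lin_apM h1).comp (lin_apM h2)) hid
      (by rw [(lin_apM h1).mat_comp (lin_apM h2), h3, h4, h5, matOf_id]) hv
  · exact Lin.eq_of_mat ((lin_apM h2).comp (lin_apM h1)) hid
      (by rw [(lin_apM h2).mat_comp (lin_apM h1), h3, h4, h6, matOf_id]) hv

/-- The matrix of a map in a new basis. -/
theorem mat_conj {f : ℕ → ℕ} (hf : Lin f) {m mi : List ℕ} (h1 : ∀ x ∈ m, x < 64) (h2 : ∀ x ∈ mi, x < 64)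
    (e1 : matOf (apM m) = m) (e2 : matOf (apM mi) = mi) :
    matOf (fun v => apM m (f (apM mi v))) = mulM (mulM m (matOf f)) mi := by
  rw [(lin_apM h1).mat_comp (hf.comp (lin_apM h2)), hf.mat_comp (lin_apM h2), e1, e2]
  simp only [mulM, List.map_map]
  exact List.map_congr_left fun x _ => (lin_apM h1).apply_apM hf.mat_lt x

/-- A faithful linear action with the given Sylow 2-subgroup. -/
structure Rep (H : Type*) [Group H] where
  act : H → ℕ → ℕ
  lin : ∀ h, Lin (act h)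
  one : ∀ v, v < 64 → act 1 v = v
  mul : ∀ g h v, v < 64 → act (g * h) v = act g (act h v)
  faith : ∀ g, (∀ v, v < 64 → act g v = v) → g = 1
  t1 : H
  t2 : H
  m1 : matOf (act t1) = mT1
  m2 : matOf (act t2) = mT2
  P : Sylow 2 H
  memP : ∀ h, h ∈ (P : Subgroup H) ↔ matOf (act h) ∈ mD8

namespace Rep

variable {H : Type*} [Group H] (R : Rep H)

/-- The matrix of an element. -/
def mat (h : H) : List ℕ := matOf (R.act h)

theorem mat_one : R.mat 1 = idM := (matOf_congr R.one).trans matOf_id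

theorem mat_mul (g h : H) : R.mat (g * h) = mulM (R.mat g) (R.mat h) :=
  (matOf_congr (R.mul g h)).trans ((R.lin g).mat_comp (R.lin h))

theorem act_inv (g : H) {v : ℕ} (hv : v < 64) : R.act g⁻¹ (R.act g v) = v ∧ R.act g (R.act g⁻¹ v) = v := by
  rw [← R.mul _ _ v hv, ← R.mul _ _ v hv, inv_mul_cancel, mul_inv_cancel]
  exact ⟨R.one v hv, R.one v hv⟩

theorem eq_of_act {g h : H} (e : ∀ v, v < 64 → R.act g v = R.act h v) : g = h := by
  refine inv_mul_eq_one.mp (R.faith _ fun v hv => ?_)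
  rw [R.mul _ _ v hv, ← e v hv, (R.act_inv g hv).1]

theorem mat_inj {g h : H} (e : R.mat g = R.mat h) : g = h :=
  R.eq_of_act fun _ hv => (R.lin g).eq_of_mat (R.lin h) e hv

theorem act_eq {g : H} {X : List ℕ} (e : R.mat g = X) {v : ℕ} (hv : v < 64) : R.act g v = apM X v := by
  rw [← e]; exact ((R.lin g).eq_apM hv).symm

/-- The central involution. -/
def z : H := R.t1 * R.t2 * (R.t1 * R.t2)

/-- The element of order four. -/
def s : H := R.t1 * R.t2

theorem mat_s : R.mat R.s = mS := by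
  rw [Rep.s, R.mat_mul, Rep.mat, R.m1, Rep.mat, R.m2]; rfl

theorem mat_z : R.mat R.z = mZ := by
  show R.mat (R.s * R.s) = mZ
  rw [R.mat_mul, R.mat_s]
  decide +kernel

theorem mat_t1 : R.mat R.t1 = mT1 := R.m1

theorem mat_t2 : R.mat R.t2 = mT2 := R.m2

theorem mat_u : R.mat (R.z * R.t1) = mU := by
  rw [R.mat_mul, R.mat_z, R.mat_t1]; rfl

theorem mem_iff (h : H) : h ∈ (R.P : Subgroup H) ↔ R.mat h ∈ mD8 := R.memP h

theorem t1_mem : R.t1 ∈ (R.P : Subgroup H) := (R.mem_iff _).mpr (R.mat_t1 ▸ by decide +kernel)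

theorem t2_mem : R.t2 ∈ (R.P : Subgroup H) := (R.mem_iff _).mpr (R.mat_t2 ▸ by decide +kernel)

theorem s_mem : R.s ∈ (R.P : Subgroup H) := mul_mem R.t1_mem R.t2_mem

theorem z_mem : R.z ∈ (R.P : Subgroup H) := mul_mem R.s_mem R.s_mem

theorem act_pow (g : H) : ∀ (n : ℕ) (v : ℕ), v < 64 → R.act (g ^ n) v = (R.act g)^[n] v
  | 0, v, hv => by rw [pow_zero, R.one v hv]; rfl
  | n + 1, v, hv => by
    rw [pow_succ, R.mul _ _ v hv, act_pow g n _ ((R.lin g).lt v hv), Function.iterate_succ_apply]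

theorem oddMap [Finite H] {c : H} (hc : Odd (orderOf c)) : OddMap (R.act c) :=
  ⟨R.lin c, orderOf c, hc, fun v hv => by rw [← R.act_pow c _ v hv, pow_orderOf_eq_one, R.one v hv]⟩

theorem act_comm {c x : H} {X : List ℕ} (e : R.mat x = X) (hX : ∀ a ∈ X, a < 64) (h : c * x = x * c) :
    ∀ v, v < 64 → R.act c (apM X v) = apM X (R.act c v) := fun v hv => by
  rw [← R.act_eq e hv, ← R.act_eq e ((R.lin c).lt v hv), ← R.mul _ _ v hv, h, R.mul _ _ v hv]

theorem act_inverted {c x : H} {X : List ℕ} (e : R.mat x = X) (hX : ∀ a ∈ X, a < 64) (h : x * c * x * c = 1) :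
    ∀ v, v < 64 → apM X (R.act c (apM X (R.act c v))) = v := fun v hv => by
  have h1 := (R.lin c).lt v hv
  rw [← R.act_eq e h1, ← R.act_eq e ((R.lin c).lt _ ((R.lin x).lt _ h1)), ← R.mul x c _ ((R.lin x).lt _ h1),
    ← R.mul _ x _ h1, ← R.mul _ c v hv, h, R.one v hv]

variable [Finite H]

theorem eq_one_of_comm {c : H} (hc : Odd (orderOf c)) (hz : c * R.z = R.z * c) (ht : c * R.t1 = R.t1 * c) :
    c = 1 :=
  R.faith c fun _ hv => eq_of_commE (R.oddMap hc)
    ⟨R.lin c, R.act_comm R.mat_z mat_lt64.1 hz, R.act_comm R.mat_t1 mat_lt64.2.1 ht⟩ hv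

theorem eq_one_of_inv {c : H} (hc : Odd (orderOf c)) (hz : R.z * c * R.z * c = 1)
    (ht : c * R.t1 = R.t1 * c ∨ c * (R.z * R.t1) = R.z * R.t1 * c) : c = 1 :=
  R.faith c fun _ hv => eq_of_inverted (R.oddMap hc) (R.act_inverted R.mat_z mat_lt64.1 hz)
    (ht.imp (R.act_comm R.mat_t1 mat_lt64.2.1) (R.act_comm R.mat_u mat_lt64.2.2.2.1)) hv

theorem eq_one_of_c4 {c : H} (hc : Odd (orderOf c)) (hs : c * R.s = R.s * c) (ht : R.t1 * c * R.t1 * c = 1) :
    c = 1 :=
  R.faith c fun _ hv => eq_of_c4 (R.oddMap hc) (R.act_comm R.mat_s mat_lt64.2.2.2.2 hs)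
    (R.act_inverted R.mat_t1 mat_lt64.2.1 ht) hv

/-! ### Change of basis -/

/-- The action in a new basis. -/
def map (m mi : List ℕ) (hm : mapOK m mi = true) (u1 u2 : H) (h1 : mulM (mulM m (R.mat u1)) mi = mT1)
    (h2 : mulM (mulM m (R.mat u2)) mi = mT2) : Rep H :=
  have ok := mapOK_iff hm
  have hlin : ∀ h, Lin (fun v => apM m (R.act h (apM mi v))) := fun h =>
    (lin_apM ok.1).comp ((R.lin h).comp (lin_apM ok.2.1))
  have hmat : ∀ h, matOf (fun v => apM m (R.act h (apM mi v))) = mulM (mulM m (R.mat h)) mi := fun h =>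
    mat_conj (R.lin h) ok.1 ok.2.1 ok.2.2.1 ok.2.2.2.1
  { act := fun h v => apM m (R.act h (apM mi v))
    lin := hlin
    one := fun v hv => by
      show apM m (R.act 1 (apM mi v)) = v
      rw [R.one _ (apM_lt ok.2.1 v), ok.2.2.2.2.1 v hv]
    mul := fun g h v hv => by
      show apM m (R.act (g * h) (apM mi v)) = apM m (R.act g (apM mi (apM m (R.act h (apM mi v)))))
      rw [ok.2.2.2.2.2.1 _ ((R.lin h).lt _ (apM_lt ok.2.1 v)), R.mul _ _ _ (apM_lt ok.2.1 v)]
    faith := fun g hg => R.faith g fun v hv => by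
      have := congrArg (apM mi) (hg (apM m v) (apM_lt ok.1 v))
      rwa [ok.2.2.2.2.2.1 v hv, ok.2.2.2.2.2.1 _ ((R.lin g).lt v hv)] at this
    t1 := u1
    t2 := u2
    m1 := (hmat u1).trans h1
    m2 := (hmat u2).trans h2
    P := R.P
    memP := fun h => by
      rw [hmat h, R.memP h]
      refine ⟨fun hh => (ok.2.2.2.2.2.2 _ hh).1, fun hh => ?_⟩
      have hb := (ok.2.2.2.2.2.2 _ hh).2
      rw [← hmat h, ← mat_conj (hlin h) ok.2.1 ok.1 ok.2.2.2.1 ok.2.2.1] at hb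
      refine (matOf_congr fun v hv => ?_) ▸ hb
      show apM mi (apM m (R.act h (apM mi (apM m v)))) = R.act h v
      rw [ok.2.2.2.2.2.1 v hv, ok.2.2.2.2.2.1 _ ((R.lin h).lt v hv)] }

theorem mR_ok : mapOK mR mR = true := by decide +kernel

theorem mR_swap : mulM (mulM mR mT2) mR = mT1 ∧ mulM (mulM mR mT1) mR = mT2 ∧ mulM (mulM mR mZ) mR = mZ := by
  decide +kernel

/-- The two noncentral involutions exchanged. -/
def flip : Rep H := R.map mR mR mR_ok R.t2 R.t1 (R.mat_t2 ▸ mR_swap.1) (R.mat_t1 ▸ mR_swap.2.1)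

@[simp] theorem flip_t1 : R.flip.t1 = R.t2 := rfl

@[simp] theorem flip_t2 : R.flip.t2 = R.t1 := rfl

@[simp] theorem flip_P : R.flip.P = R.P := rfl

theorem flip_act (h : H) (v : ℕ) : R.flip.act h v = apM mR (R.act h (apM mR v)) := rfl

theorem flip_z : R.flip.z = R.z := by
  refine R.mat_inj ?_
  show R.mat (R.t2 * R.t1 * (R.t2 * R.t1)) = R.mat R.z
  rw [R.mat_z, R.mat_mul, R.mat_mul, R.mat_t1, R.mat_t2]
  decide +kernel

/-! ### The dihedral Sylow subgroup -/

theorem s_two : R.s ^ 2 = R.z := pow_two _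

theorem z_sq : R.z * R.z = 1 := R.mat_inj (by rw [R.mat_mul, R.mat_z, R.mat_one]; decide +kernel)

theorem t1_sq : R.t1 * R.t1 = 1 := R.mat_inj (by rw [R.mat_mul, R.mat_t1, R.mat_one]; decide +kernel)

theorem z_ne : R.z ≠ 1 := fun e => by
  have h := congrArg R.mat e
  rw [R.mat_z, R.mat_one] at h
  exact absurd h (by decide +kernel)

theorem orderOf_z : orderOf R.z = 2 := orderOf_eq_prime (by rw [pow_two, R.z_sq]) R.z_ne

theorem z_comm_of_mem {x : H} (hx : x ∈ (R.P : Subgroup H)) : x * R.z = R.z * x := by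
  refine R.mat_inj ?_
  rw [R.mat_mul, R.mat_mul, R.mat_z]
  have h : ∀ X ∈ mD8, mulM X mZ = mulM mZ X := by decide +kernel
  exact h _ ((R.mem_iff x).mp hx)

theorem mem_cases {x : H} (hx : x ∈ (R.P : Subgroup H)) :
    (∃ i : Fin 4, x = R.s ^ (i : ℕ)) ∨ ∃ i : Fin 4, x = R.t1 * R.s ^ (i : ℕ) := by
  have e2 : mulM mS mS = mZ := by decide +kernel
  have hmem := (R.mem_iff x).mp hx
  have h3 : R.mat (R.s ^ 3) = mulM mZ mS := by rw [pow_succ, pow_two, R.mat_mul, R.mat_mul, R.mat_s, e2]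
  simp only [mD8, List.mem_cons, List.not_mem_nil, or_false] at hmem
  rcases hmem with e | e | e | e | e | e | e | e
  · exact Or.inl ⟨0, R.mat_inj (e.trans (by rw [show ((0 : Fin 4) : ℕ) = 0 from rfl, pow_zero, R.mat_one]))⟩
  · exact Or.inl ⟨1, R.mat_inj (e.trans (by rw [show ((1 : Fin 4) : ℕ) = 1 from rfl, pow_one, R.mat_s]))⟩
  · exact Or.inl ⟨2, R.mat_inj (e.trans (by rw [show ((2 : Fin 4) : ℕ) = 2 from rfl, R.s_two, R.mat_z]))⟩
  · exact Or.inl ⟨3, R.mat_inj (e.trans (by rw [show ((3 : Fin 4) : ℕ) = 3 from rfl, h3]))⟩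
  · exact Or.inr ⟨0, R.mat_inj (e.trans (by rw [show ((0 : Fin 4) : ℕ) = 0 from rfl, pow_zero, mul_one, R.mat_t1]))⟩
  · exact Or.inr ⟨1, R.mat_inj (e.trans (by rw [show ((1 : Fin 4) : ℕ) = 1 from rfl, pow_one, R.mat_mul, R.mat_s,
      R.mat_t1]))⟩
  · exact Or.inr ⟨2, R.mat_inj (e.trans (by rw [show ((2 : Fin 4) : ℕ) = 2 from rfl, R.s_two, R.mat_mul, R.mat_z,
      R.mat_t1]))⟩
  · exact Or.inr ⟨3, R.mat_inj (e.trans (by rw [show ((3 : Fin 4) : ℕ) = 3 from rfl, R.mat_mul, h3, R.mat_t1]))⟩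

theorem card_P : Nat.card (R.P : Subgroup H) = 8 := by
  have h2 : R.mat R.z = mZ := R.mat_z
  have hsurj : ∀ X ∈ mD8, ∃ x ∈ (R.P : Subgroup H), R.mat x = X := by
    intro X hX
    simp only [mD8, List.mem_cons, List.not_mem_nil, or_false] at hX
    rcases hX with rfl | rfl | rfl | rfl | rfl | rfl | rfl | rfl
    exacts [⟨1, one_mem _, R.mat_one⟩, ⟨_, R.s_mem, R.mat_s⟩, ⟨_, R.z_mem, h2⟩,
      ⟨_, mul_mem R.z_mem R.s_mem, by rw [R.mat_mul, h2, R.mat_s]⟩, ⟨_, R.t1_mem, R.mat_t1⟩,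
      ⟨_, mul_mem R.t1_mem R.s_mem, by rw [R.mat_mul, R.mat_t1, R.mat_s]⟩,
      ⟨_, mul_mem R.t1_mem R.z_mem, by rw [R.mat_mul, R.mat_t1, h2]⟩,
      ⟨_, mul_mem R.t1_mem (mul_mem R.z_mem R.s_mem), by rw [R.mat_mul, R.mat_mul, R.mat_t1, h2, R.mat_s]⟩]
  have e : (R.P : Subgroup H) ≃ {X // X ∈ mD8} := Equiv.ofBijective (fun x => ⟨R.mat x, (R.mem_iff _).mp x.2⟩)
    ⟨fun x y hxy => Subtype.ext (R.mat_inj (congrArg Subtype.val hxy)), fun X => by
      obtain ⟨x, hx, hm⟩ := hsurj X X.2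
      exact ⟨⟨x, hx⟩, Subtype.ext hm⟩⟩
  rw [Nat.card_congr e, Nat.card_eq_fintype_card, Fintype.card_of_subtype mD8.toFinset (by simp)]
  decide +kernel

theorem orderOf_s : orderOf R.s = 4 :=
  orderOf_eq_prime_pow (p := 2) (n := 1)
    (by rw [show 2 ^ 1 = 2 from rfl, R.s_two]; exact R.z_ne)
    (by rw [show 2 ^ (1 + 1) = 2 * 2 from rfl, pow_mul, R.s_two, pow_two, R.z_sq])

theorem inv_s : R.t1 * R.s * R.t1 * R.s = 1 := R.mat_inj (by
  rw [R.mat_mul, R.mat_mul, R.mat_mul, R.mat_s, R.mat_t1, R.mat_one]; decide +kernel)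

theorem t1_not_mem : R.t1 ∉ Subgroup.zpowers R.s := fun h => by
  obtain ⟨k, hk⟩ := Subgroup.mem_zpowers_iff.mp h
  have hc : R.t1 * R.s = R.s * R.t1 := by rw [← hk]; exact (Commute.zpow_self R.s k).eq
  have h1 := congrArg R.mat hc
  rw [R.mat_mul, R.mat_mul, R.mat_s, R.mat_t1] at h1
  exact absurd h1 (by decide +kernel)

/-- The dihedral group of order eight. -/
noncomputable def iso : ↥(R.P : Subgroup H) ≃* DihedralGroup 4 :=
  (MulEquiv.ofBijective (f := (MonoidHom.mk' (fun d : DihedralGroup 4 => (⟨match d with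
    | .r i => R.s ^ i.val
    | .sr i => R.t1 * R.s ^ i.val, by
      rcases d with i | i
      exacts [pow_mem R.s_mem _, mul_mem R.t1_mem (pow_mem R.s_mem _)]⟩ : ↥(R.P : Subgroup H))) (by
    have hv : ∀ a b : ZMod 4, R.s ^ (a + b).val = R.s ^ a.val * R.s ^ b.val := fun a b => by
      rw [← pow_add, pow_eq_pow_iff_modEq, R.orderOf_s, ZMod.val_add]
      exact Nat.mod_modEq _ _
    have hsw : ∀ k : ℕ, R.s ^ k * R.t1 = R.t1 * (R.s⁻¹) ^ k := by
      have h1 : R.s⁻¹ = R.t1 * R.s * R.t1⁻¹ := by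
        rw [inv_eq_of_mul_eq_one_left R.inv_s, inv_eq_of_mul_eq_one_right R.t1_sq]
      intro k
      rw [h1, conj_pow, inv_eq_of_mul_eq_one_right R.t1_sq, ← mul_assoc, ← mul_assoc, R.t1_sq, one_mul]
    have hneg : ∀ a : ZMod 4, (R.s⁻¹) ^ a.val = R.s ^ (-a).val := fun a => by
      rw [inv_pow]
      refine inv_eq_of_mul_eq_one_right ?_
      rw [← hv, add_neg_cancel, ZMod.val_zero, pow_zero]
    intro a b
    apply Subtype.ext
    rcases a with a | a <;> rcases b with b | b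
    · exact hv a b
    · show R.t1 * R.s ^ (b - a).val = R.s ^ a.val * (R.t1 * R.s ^ b.val)
      rw [← mul_assoc, hsw, hneg, mul_assoc, ← hv, neg_add_eq_sub]
    · show R.t1 * R.s ^ (a + b).val = R.t1 * R.s ^ a.val * R.s ^ b.val
      rw [hv, mul_assoc]
    · show R.s ^ (b - a).val = R.t1 * R.s ^ a.val * (R.t1 * R.s ^ b.val)
      rw [mul_assoc R.t1, ← mul_assoc (R.s ^ a.val), hsw, ← mul_assoc, ← mul_assoc, R.t1_sq, one_mul, hneg, ← hv,
        neg_add_eq_sub]))) (by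
    refine (Nat.bijective_iff_surjective_and_card _).mpr ⟨?_, by rw [DihedralGroup.nat_card, R.card_P]⟩
    rintro ⟨x, hx⟩
    rcases R.mem_cases hx with ⟨i, rfl⟩ | ⟨i, rfl⟩
    · refine ⟨.r ((i : ℕ) : ZMod 4), Subtype.ext ?_⟩
      show R.s ^ (((i : ℕ) : ZMod 4)).val = _
      rw [ZMod.val_natCast_of_lt i.2]
    · refine ⟨.sr ((i : ℕ) : ZMod 4), Subtype.ext ?_⟩
      show R.t1 * R.s ^ (((i : ℕ) : ZMod 4)).val = _
      rw [ZMod.val_natCast_of_lt i.2])).symm

/-- The centralizer of the central involution. -/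
theorem centralizer_z : Subgroup.centralizer ({R.z} : Set H) = (R.P : Subgroup H) := by
  haveI : Fact (Nat.Prime 2) := ⟨Nat.prime_two⟩
  set C := Subgroup.centralizer ({R.z} : Set H) with hC
  have hPC : (R.P : Subgroup H) ≤ C := fun x hx => Subgroup.mem_centralizer_singleton_iff.mpr (R.z_comm_of_mem hx)
  refine le_antisymm ?_ hPC
  let S : Sylow 2 ↥C := R.P.subtype hPC
  let e : ↥(S : Subgroup ↥C) ≃* DihedralGroup 4 :=
    ((MulEquiv.subgroupCongr rfl).trans (Subgroup.subgroupOfEquivOfLe hPC)).trans R.iso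
  have hlack : ∀ U : Subgroup ↥C, U ≤ (S : Subgroup ↥C) → IsKleinFour U → DihedralFusion.Lacking U := by
    intro U hU hK g hg hodd
    haveI := hK
    set zC : ↥C := ⟨R.z, hPC R.z_mem⟩
    have hzc : ∀ x : ↥C, x * zC = zC * x := fun x => Subtype.ext (Subgroup.mem_centralizer_singleton_iff.mp x.2)
    have hsq : ∀ x ∈ U, x * x = 1 := fun x hx => congrArg Subtype.val (IsKleinFour.mul_self (⟨x, hx⟩ : U))
    -- the involution lies in every four group
    have hzU : zC ∈ U := by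
      by_contra hz
      haveI : Finite U := inferInstance
      haveI : Nontrivial U := Finite.one_lt_card_iff_nontrivial.mp (by rw [hK.card_four]; norm_num)
      have hkey : ∀ x ∈ U, x ≠ 1 → R.mat (x : H) ∈ [mT1, mulM mT1 mS, mulM mT1 mZ, mulM mT1 (mulM mZ mS)] := by
        intro x hx hx1
        have h : ∀ X ∈ mD8, mulM X X = idM → X ≠ idM → X ≠ mZ →
            X ∈ [mT1, mulM mT1 mS, mulM mT1 mZ, mulM mT1 (mulM mZ mS)] := by decide +kernel
        refine h _ ((R.mem_iff _).mp (hU hx)) ?_ ?_ ?_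
        · rw [← R.mat_mul, ← R.mat_one]; exact congrArg R.mat (congrArg Subtype.val (hsq x hx))
        · exact fun e => hx1 (Subtype.ext (R.mat_inj (e.trans R.mat_one.symm)))
        · exact fun e => hz ((show x = zC from Subtype.ext (R.mat_inj (e.trans R.mat_z.symm))) ▸ hx)
      obtain ⟨a, ha⟩ := exists_ne (1 : U)
      obtain ⟨b, hb, hba⟩ : ∃ b : U, b ≠ 1 ∧ b ≠ a := by
        by_contra hcon
        push Not at hcon
        classical
        haveI := Fintype.ofFinite U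
        have hsub : (Finset.univ : Finset U) ⊆ {1, a} := fun x _ => by
          by_cases hx : x = 1
          · simp [hx]
          · simp [hcon x hx]
        have h1 := Finset.card_le_card hsub
        rw [Finset.card_univ, ← Nat.card_eq_fintype_card, hK.card_four] at h1
        exact absurd (h1.trans Finset.card_le_two) (by norm_num)
      have hab : (a : ↥C) * b ≠ 1 := fun e => hba (Subtype.ext (mul_left_cancel (e.trans (hsq a a.2).symm)))
      have ka := hkey a a.2 (fun e => ha (Subtype.ext e))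
      have kb := hkey b b.2 (fun e => hb (Subtype.ext e))
      have kab := hkey _ (mul_mem a.2 b.2) hab
      rw [Subgroup.coe_mul, R.mat_mul] at kab
      have h : ∀ X ∈ [mT1, mulM mT1 mS, mulM mT1 mZ, mulM mT1 (mulM mZ mS)],
          ∀ Y ∈ [mT1, mulM mT1 mS, mulM mT1 mZ, mulM mT1 (mulM mZ mS)],
          mulM X Y ∉ [mT1, mulM mT1 mS, mulM mT1 mZ, mulM mT1 (mulM mZ mS)] := by decide +kernel
      exact h _ ka _ kb kab
    by_contra hgC
    have hz1 : zC ≠ 1 := fun e => R.z_ne (congrArg Subtype.val e)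
    haveI : Nontrivial U := Finite.one_lt_card_iff_nontrivial.mp (by rw [hK.card_four]; norm_num)
    obtain ⟨y, hy, hy1, hyz⟩ : ∃ y ∈ U, y ≠ 1 ∧ y ≠ zC := by
      by_contra hcon
      push Not at hcon
      classical
      haveI := Fintype.ofFinite U
      have hsub : (Finset.univ : Finset U) ⊆ {1, ⟨zC, hzU⟩} := fun x _ => by
        by_cases hx : (x : ↥C) = 1
        · exact Finset.mem_insert.mpr (Or.inl (Subtype.ext hx))
        · exact Finset.mem_insert_of_mem (Finset.mem_singleton.mpr (Subtype.ext (hcon x x.2 hx)))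
      have h1 := Finset.card_le_card hsub
      rw [Finset.card_univ, ← Nat.card_eq_fintype_card, hK.card_four] at h1
      exact absurd (h1.trans Finset.card_le_two) (by norm_num)
    obtain ⟨c, hc⟩ := isConj_iff.mp (LocalFusion.klein_isConj hK hg hgC hodd hzU hz1 hy hy1)
    rw [hzc c, mul_inv_cancel_right] at hc
    exact hyz hc.symm
  obtain ⟨Q, N, hN, hc⟩ := DihedralFusion.hasNormalPComplement_of_lacking (S := S) e (by norm_num) hlack
  haveI := hN
  have hNodd : ¬ 2 ∣ Nat.card N := fun hd => Q.not_dvd_index (hc.index_eq_card ▸ hd)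
  have hQ : Nat.card (Q : Subgroup ↥C) = Nat.card (S : Subgroup ↥C) :=
    Q.card_eq_multiplicity.trans S.card_eq_multiplicity.symm
  have hS8 : Nat.card (S : Subgroup ↥C) = 8 := by
    rw [Nat.card_congr e.toEquiv, DihedralGroup.nat_card]
  have hoddo : ∀ o ∈ N, Odd (orderOf (o : H)) := fun o ho => by
    rw [Subgroup.orderOf_coe]
    exact (Nat.odd_iff.mpr (by omega : Nat.card N % 2 = 1)).of_dvd_nat (Subgroup.orderOf_dvd_natCard N ho)
  have hinv : ∀ (R' : Rep H), R'.z = R.z → ∀ (ht : R'.t1 ∈ C), ∀ o ∈ N, R'.t1 * (o : H) * R'.t1 * o = 1 := by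
    intro R' hz' ht o ho
    set tC : ↥C := ⟨R'.t1, ht⟩
    have := inverts_of_fpf (O := N) (u := tC) (Subtype.ext R'.t1_sq) (fun o ho => hN.conj_mem o ho tC)
      (fun o ho e => Subtype.ext (R'.eq_one_of_comm (hoddo o ho)
        (by rw [hz']; exact Subgroup.mem_centralizer_singleton_iff.mp o.2)
        (congrArg Subtype.val (mul_inv_eq_iff_eq_mul.mp e)).symm)) o ho
    have e : R'.t1 * (o : H) * R'.t1⁻¹ = (o : H)⁻¹ := congrArg Subtype.val this
    rw [inv_eq_of_mul_eq_one_right R'.t1_sq] at e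
    rw [e, inv_mul_cancel]
  have hN1 : ∀ o ∈ N, o = 1 := by
    intro o ho
    have i1 := hinv R rfl (hPC R.t1_mem) o ho
    have i2 : R.t2 * (o : H) * R.t2 * o = 1 := hinv R.flip R.flip_z (hPC R.t2_mem) o ho
    have hti : R.t1⁻¹ = R.t1 := inv_eq_of_mul_eq_one_right R.t1_sq
    have hti2 : R.t2⁻¹ = R.t2 := inv_eq_of_mul_eq_one_right R.flip.t1_sq
    refine Subtype.ext (R.eq_one_of_c4 (hoddo o ho) ?_ i1)
    have a1 : R.t1 * (o : H)⁻¹ * R.t1⁻¹ = o := by
      rw [← inv_inj, mul_inv_rev, mul_inv_rev, inv_inv, inv_inv, hti, ← mul_assoc]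
      exact eq_inv_of_mul_eq_one_left i1
    have a2 : R.t2 * (o : H) * R.t2⁻¹ = (o : H)⁻¹ := by rw [hti2]; exact eq_inv_of_mul_eq_one_left i2
    show (o : H) * (R.t1 * R.t2) = R.t1 * R.t2 * o
    refine (mul_inv_eq_iff_eq_mul.mp ?_).symm
    calc R.t1 * R.t2 * (o : H) * (R.t1 * R.t2)⁻¹ = R.t1 * (R.t2 * o * R.t2⁻¹) * R.t1⁻¹ := by group
      _ = o := by rw [a2, a1]
  have hNbot : N = ⊥ := (Subgroup.eq_bot_iff_forall N).mpr hN1
  intro x hx
  have hcard : Nat.card (S : Subgroup ↥C) = Nat.card ↥C := by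
    rw [← hQ, ← hc.card_mul, hNbot, Subgroup.card_bot, one_mul]
  have htop : (S : Subgroup ↥C) = ⊤ := (Subgroup.card_eq_iff_eq_top _).mp hcard
  exact Subgroup.mem_subgroupOf.mp (show (⟨x, hx⟩ : ↥C) ∈ (S : Subgroup ↥C) from htop ▸ Subgroup.mem_top _)

/-- The local data. -/
theorem eight : Eight R.P R.s R.t1 R.z :=
  ⟨{ hpow := ⟨0, rfl⟩, iso := ⟨R.iso⟩, mem := R.s_mem, ord := R.orderOf_s,
     tmem := R.t1_mem, tnot := R.t1_not_mem }, R.s_two, R.centralizer_z⟩

/-- An element of odd order in the Sylow subgroup is trivial. -/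
theorem eq_one_of_mem {c : H} (hc : Odd (orderOf c)) (hcP : c ∈ (R.P : Subgroup H)) : c = 1 := by
  obtain ⟨k, hk⟩ := R.P.2 ⟨c, hcP⟩
  have h2 : orderOf c ∣ 2 ^ k := orderOf_dvd_of_pow_eq_one (congrArg Subtype.val hk)
  exact orderOf_eq_one_iff.mp
    (Nat.eq_one_of_dvd_coprimes ((Nat.coprime_two_right.mpr hc).pow_right k) dvd_rfl h2)

include R in
/-- There is no odd core. -/
theorem oddCore_bot : oddCore H = ⊥ := by
  rw [Subgroup.eq_bot_iff_forall]
  set O := oddCore H with hO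
  haveI : O.Normal := by unfold O; infer_instance
  have hodd : ∀ o ∈ O, Odd (orderOf o) := fun o ho =>
    (CfsgLib.odd_card_oddCore).of_dvd_nat (Subgroup.orderOf_dvd_natCard O ho)
  have hconj : ∀ o ∈ O, ∀ u : H, u * o * u⁻¹ ∈ O := fun o ho u => Subgroup.Normal.conj_mem inferInstance o ho u
  have hzi : ∀ o ∈ O, R.z * o * R.z * o = 1 := by
    intro o ho
    have h := inverts_of_fpf (O := O) R.z_sq (fun o ho => hconj o ho _) (fun o ho e => R.eq_one_of_mem (hodd o ho) (by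
      rw [← R.centralizer_z]
      exact Subgroup.mem_centralizer_singleton_iff.mpr (mul_inv_eq_iff_eq_mul.mp e).symm)) o ho
    rw [inv_eq_of_mul_eq_one_right R.z_sq] at h
    rw [h, inv_mul_cancel]
  have hti := inverts_of_fpf (O := O) R.t1_sq (fun o ho => hconj o ho _) (fun o ho e =>
    R.eq_one_of_inv (hodd o ho) (hzi o ho) (Or.inl (mul_inv_eq_iff_eq_mul.mp e).symm))
  intro o ho
  refine R.eq_one_of_inv (hodd o ho) (hzi o ho) (Or.inr (mul_inv_eq_iff_eq_mul.mp ?_).symm)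
  have hz := eq_inv_of_mul_eq_one_left (hzi o ho)
  calc R.z * R.t1 * o * (R.z * R.t1)⁻¹ = R.z * (R.t1 * o * R.t1⁻¹) * R.z⁻¹ := by group
    _ = (R.z * o * R.z⁻¹)⁻¹ := by rw [hti o ho]; group
    _ = o := by rw [inv_eq_of_mul_eq_one_right R.z_sq, hz, inv_inv]

end Rep

end CfsgM24Q
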