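import Cfsg.Agent.Lib.M24Quot.Cert
import Mathlib.GroupTheory.Index
import Mathlib.Data.Nat.Bitwise

/-!
Soundness of spans and masks.
-/

set_option autoImplicit false

namespace CfsgM24Q

theorem bt_iff (i k : ℕ) : (bt i k == 1) = i.testBit k := by
  rw [Nat.testBit, bt, Nat.and_comm]
  rcases Nat.mod_two_eq_zero_or_one (i >>> k) with h | h <;>
    simp [Nat.one_and_eq_mod_two, h]

theorem inM_iff (m x : ℕ) : inM m x = m.testBit x := bt_iff m x

theorem inM_xor (a b x : ℕ) : inM (a ^^^ b) x = xor (inM a x) (inM b x) := by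
  simp [inM_iff, Nat.testBit_xor]

theorem inM_and (a b x : ℕ) : inM (a &&& b) x = (inM a x && inM b x) := by
  simp [inM_iff, Nat.testBit_and]

theorem inM_maskOf (L : List ℕ) (x : ℕ) : inM (maskOf L) x = true ↔ x ∈ L := by
  have key : ∀ (L : List ℕ) (m : ℕ), (L.foldl (fun m y => m ||| (1 <<< y)) m).testBit x = true ↔
      m.testBit x = true ∨ x ∈ L := by
    intro L
    induction L with
    | nil => simp
    | cons y L ih =>
      intro m
      rw [List.foldl_cons, ih, Nat.testBit_or, Nat.one_shiftLeft, Nat.testBit_two_pow, List.mem_cons]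
      simp only [Bool.or_eq_true, decide_eq_true_eq]
      constructor
      · rintro ((h | h) | h)
        exacts [Or.inl h, Or.inr (Or.inl h.symm), Or.inr (Or.inr h)]
      · rintro (h | h | h)
        exacts [Or.inl (Or.inl h), Or.inl (Or.inr h.symm), Or.inr h]
  rw [inM_iff, maskOf, key]
  simp

/-- An embedding of the model onto a subgroup. -/
structure Emb {G : Type*} [Group G] (S : Subgroup G) where
  /-- The element with a given code. -/
  c : ℕ → G
  mem : ∀ i, i < 512 → c i ∈ S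
  mul : ∀ i, i < 512 → ∀ j, j < 512 → c (mulC i j) = c i * c j
  inj : ∀ i, i < 512 → ∀ j, j < 512 → c i = c j → i = j
  surj : ∀ x ∈ S, ∃ i, i < 512 ∧ c i = x

/-- The embedding given by a model of a subgroup. -/
def Mdl.emb {G : Type*} [Group G] {S : Subgroup G} (M : Mdl ↥S) : Emb S where
  c i := (M.c i : G)
  mem i _ := (M.c i).2
  mul i hi j hj := by rw [M.mul i hi j hj, Subgroup.coe_mul]
  inj i hi j hj h := M.inj i hi j hj (Subtype.ext h)
  surj x hx := by
    obtain ⟨i, hi, h⟩ := M.surj ⟨x, hx⟩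
    exact ⟨i, hi, congrArg Subtype.val h⟩

theorem inv_check : codes.all (fun i => mulC i (invC i) == 0) = true := by decide +kernel

theorem invC_lt {i : ℕ} (hi : i < 512) : invC i < 512 :=
  mulC_lt _ (mulC_lt _ (mulC_lt _ (mulC_lt _ hi)))

namespace Emb

variable {G : Type*} [Group G] {S : Subgroup G} (M : Emb S)

theorem c_zero : M.c 0 = 1 := by
  have h := M.mul 0 (by omega) 0 (by omega)
  rw [show mulC 0 0 = 0 by decide +kernel] at h
  exact mul_eq_left.mp h.symm

theorem c_inv {i : ℕ} (hi : i < 512) : M.c (invC i) = (M.c i)⁻¹ := by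
  refine eq_inv_of_mul_eq_one_right ?_
  have h := inv_check
  rw [List.all_eq_true] at h
  have h1 := h i (List.mem_range.mpr hi)
  rw [beq_iff_eq] at h1
  rw [← M.mul i hi _ (invC_lt hi), h1, c_zero]

theorem cm_iff {i j : ℕ} (hi : i < 512) (hj : j < 512) : cmC i j = true ↔ M.c i * M.c j = M.c j * M.c i := by
  rw [cmC, beq_iff_eq, ← M.mul i hi j hj, ← M.mul j hj i hi]
  exact ⟨fun h => by rw [h], fun h => M.inj _ (mulC_lt _ hi) _ (mulC_lt _ hj) h⟩

theorem c_conj {g gi x : ℕ} (hg : g < 512) (hgi : gi < 512) (hx : x < 512) (h : mulC g gi = 0) :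
    M.c (mulC (mulC g x) gi) = M.c g * M.c x * (M.c g)⁻¹ := by
  have h1 : M.c gi = (M.c g)⁻¹ := eq_inv_of_mul_eq_one_right (by rw [← M.mul g hg gi hgi, h, c_zero])
  rw [M.mul _ (mulC_lt _ hg) gi hgi, M.mul g hg x hx, h1]

theorem c_dd {g gi x : ℕ} (hg : g < 512) (hgi : gi < 512) (hx : x < 512) (h : mulC g gi = 0) :
    M.c (ddC g gi x) = (M.c x)⁻¹ * (M.c g * M.c x * (M.c g)⁻¹) := by
  rw [ddC, M.mul _ (invC_lt hx) _ (mulC_lt _ (mulC_lt _ hg)), M.c_inv hx, M.c_conj hg hgi hx h]

theorem dd_lt {g gi x : ℕ} (hx : x < 512) : ddC g gi x < 512 := mulC_lt _ (invC_lt hx)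

theorem spanL_lt : ∀ {gs : List ℕ}, (∀ g ∈ gs, g < 512) → ∀ x ∈ spanL gs, x < 512
  | [], _, x, hx => by
    simp only [spanL, List.mem_singleton] at hx
    omega
  | g :: gs, hg, x, hx => by
    simp only [spanL, List.mem_append, List.mem_map] at hx
    have ih := fun y hy => spanL_lt (gs := gs) (fun a ha => hg a (List.mem_cons_of_mem _ ha)) y hy
    rcases hx with hx | ⟨y, hy, rfl⟩
    exacts [ih x hx, mulC_lt _ (ih y hy)]

theorem spanL_sound (H : Subgroup G) : ∀ {gs : List ℕ}, (∀ g ∈ gs, g < 512) → (∀ g ∈ gs, M.c g ∈ H) →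
    ∀ x ∈ spanL gs, M.c x ∈ H
  | [], _, _, x, hx => by
    simp only [spanL, List.mem_singleton] at hx
    rw [hx, c_zero]; exact H.one_mem
  | g :: gs, hl, hm, x, hx => by
    simp only [spanL, List.mem_append, List.mem_map] at hx
    have hl' : ∀ a ∈ gs, a < 512 := fun a ha => hl a (List.mem_cons_of_mem _ ha)
    have ih := spanL_sound H (gs := gs) hl' (fun a ha => hm a (List.mem_cons_of_mem _ ha))
    rcases hx with hx | ⟨y, hy, rfl⟩
    · exact ih x hx
    · rw [M.mul y (spanL_lt hl' y hy) g (hl g (List.mem_cons_self ..))]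
      exact H.mul_mem (ih y hy) (hm g (List.mem_cons_self ..))

/-- The subgroup with a given code set. -/
def Has (E : Subgroup G) (m : ℕ) : Prop :=
  E ≤ S ∧ ∀ i, i < 512 → (M.c i ∈ E ↔ inM m i = true)

end Emb

end CfsgM24Q
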